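import Cfsg.Agent.AschbacherQuad.Basic
import Cfsg.Agent.AschbacherForms.TensorQuad
import Cfsg.Agent.Aschbacher.Subfield

/-!
The group `Ω` of a quadratic form lies in none of the geometric subgroups, in every characteristic.
-/

set_option autoImplicit false
set_option linter.unusedSectionVars false
set_option linter.style.haveILetI false

namespace CfsgLib.AschbacherQuad

open Matrix Cfsg.Geo CfsgLib.Aschbacher CfsgLib.AschbacherForms

variable {ι : Type} [Fintype ι] [DecidableEq ι] {F : Type*} [Field F] [Fintype F] {Q : (ι → F) → F}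

local notation "B" => QuadraticMap.polar Q

theorem exists_singular_pol_one (hQ : IsNondegenerateQuadraticForm Q) (hn : 4 ≤ Fintype.card ι) {x : ι → F}
    (hx : x ≠ 0) : ∃ u, Q u = 0 ∧ B u x = 1 := by
  have hb := hQ.polar_bilinear
  have hf := isReflexive_polar hQ
  by_cases hqx : Q x = 0
  · obtain ⟨⟨t₀, h0⟩, -⟩ := hQ.nondegenerate x hx
    obtain ⟨t, ht⟩ : ∃ t, B t x = 1 := ⟨(B t₀ x)⁻¹ • t₀, by rw [hb.smul_left, inv_mul_cancel₀ h0]⟩
    refine ⟨t - Q t • x, ?_, ?_⟩
    · rw [sub_eq_add_neg, ← neg_smul, MaxSub.quad_add (Q := Q), hQ.smul, hqx, hb.smul_right, ht]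
      ring
    · rw [hf.sub_left, hb.smul_left, ht, MaxSub.polar_self hQ, hqx]
      ring
  · have h1 := hf.finrank_perp (Submodule.span F {x})
    rw [finrank_span_singleton hx] at h1
    obtain ⟨y, hy, hy0, hqy⟩ := exists_singular hQ (hf.perp (Submodule.span F {x})) (by omega)
    obtain ⟨t, htx, hty⟩ := exists_pairing_pair hQ hx (w := y) (fun c hc => by
      rw [← hc, hQ.smul, mul_eq_zero, or_iff_left hqx] at hqy
      rw [sq_eq_zero_iff.1 hqy, zero_smul] at hc
      exact hy0 hc.symm) 1 1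
    have hyx : B y x = 0 := hy x (Submodule.mem_span_singleton_self x)
    refine ⟨t - Q t • y, ?_, ?_⟩
    · rw [sub_eq_add_neg, ← neg_smul, MaxSub.quad_add (Q := Q), hQ.smul, hqy, hb.smul_right, hty]
      ring
    · rw [hf.sub_left, hb.smul_left, htx, hyx]
      ring

theorem exists_singular_pair (hQ : IsNondegenerateQuadraticForm Q) (hn : 7 ≤ Fintype.card ι) {u : ι → F}
    (hqu : Q u = 0) {S : Submodule F (ι → F)} (hS : Module.finrank F S ≤ 2) (huS : u ∈ S) :
    ∃ w, IsRootPair Q u w ∧ w ∉ S ∧ ∀ x ∈ S, B w x = 0 := by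
  have hf := isReflexive_polar hQ
  have hperp := hf.finrank_perp S
  obtain ⟨w, hw, hwS, hqw⟩ := exists_singular_not_mem hQ (K := hf.perp S) (M := S) (by omega)
  exact ⟨w, ⟨hqu, hqw, hw u huS⟩, hwS, hw⟩

/-- A subspace invariant under all long root elements is trivial. -/
theorem eq_bot_or_top_of_root (hQ : IsNondegenerateQuadraticForm Q) (hn : 7 ≤ Fintype.card ι)
    {W : Submodule F (ι → F)} (hW : ∀ u w, IsRootPair Q u w → ∀ x ∈ W, mat (root Q u w) *ᵥ x ∈ W) :
    W = ⊥ ∨ W = ⊤ := by
  have hf := isReflexive_polar hQ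
  have hb := hQ.polar_bilinear
  by_contra hcon
  rw [not_or] at hcon
  have hall : ∀ {U : Submodule F (ι → F)}, (∀ u w, IsRootPair Q u w → ∀ x ∈ U, mat (root Q u w) *ᵥ x ∈ U) →
      U ≠ ⊥ → ∀ z : ι → F, z ≠ 0 → Q z = 0 → z ∈ U := by
    intro U hU hU0 z hz0 hqz
    obtain ⟨x, hx, hx0⟩ := (Submodule.ne_bot_iff U).1 hU0
    obtain ⟨u, hqu, hux⟩ := exists_singular_pol_one hQ (by omega) hx0
    set S := Submodule.span F (Set.range ![u, x]) with hS
    obtain ⟨w, hp, hwS, hw⟩ := exists_singular_pair hQ (by omega) hqu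
      ((finrank_range_le_card ![u, x]).trans (by simp) : Module.finrank F S ≤ 2) (Submodule.subset_span ⟨0, rfl⟩)
    have h1 := hU u w hp x hx
    rw [root_mulVec hQ hp, MaxSub.polar_symm x u, hux, one_smul, MaxSub.polar_symm x w,
      hw x (Submodule.subset_span ⟨1, rfl⟩), zero_smul, sub_zero, Submodule.add_mem_iff_right _ hx] at h1
    exact singular_mem_of_invariant hQ hn (T := (U : Set (ι → F))) hU h1 (fun h => hwS (h ▸ S.zero_mem))
      hp.right hz0 hqz
  have hP : ∀ u w, IsRootPair Q u w → ∀ x ∈ hf.perp W, mat (root Q u w) *ᵥ x ∈ hf.perp W := by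
    intro u w hp x hx
    have hg : root Q u w ∈ subspaceStabilizer W := mem_subspaceStabilizer_iff.2 (hW u w hp)
    exact mem_subspaceStabilizer_iff.1
      (hf.stabilizer_perp (MaxSub.polar_of_isometry (fun y => TensorNonmax.mem_isometryGroup.1
        (root_mem_isometry hQ hp) y)) hg) x hx
  have hP0 : hf.perp W ≠ ⊥ := fun h => hcon.2 (by
    rw [← hf.perp_perp W, h]
    exact eq_top_iff.2 fun x _ w hw => by rw [(Submodule.mem_bot F).1 hw, hf.zero_right])
  obtain ⟨s, -, hs0, hqs⟩ := exists_singular hQ ⊤ (by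
    rw [finrank_top, Module.finrank_fintype_fun_eq_card]; omega)
  obtain ⟨u, hqu, hus⟩ := exists_singular_pol_one hQ (by omega) hs0
  have hu0 : u ≠ 0 := fun h => by rw [h, hf.zero_left] at hus; exact zero_ne_one hus
  exact one_ne_zero (hus.symm.trans (hall hP hP0 u hu0 hqu s (hall hW hcon.1 s hs0 hqs)))

theorem not_le_subspaceStabilizer (hQ : IsNondegenerateQuadraticForm Q) (hn : 7 ≤ Fintype.card ι)
    {W : Submodule F (ι → F)} (h0 : W ≠ ⊥) (h1 : W ≠ ⊤) : ¬ omegaGL Q ≤ subspaceStabilizer W := fun hle =>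
  not_or.2 ⟨h0, h1⟩
    (eq_bot_or_top_of_root hQ hn fun _ _ hp x hx => mem_subspaceStabilizer_iff.1 (hle (root_mem hQ hn hp)) x hx)

theorem root_mul (hQ : IsNondegenerateQuadraticForm Q) {u w w' : ι → F} (h : IsRootPair Q u w)
    (h' : IsRootPair Q u w') (hww : B w w' = 0) :
    IsRootPair Q u (w + w') ∧ root Q u w * root Q u w' = root Q u (w + w') := by
  have hb := hQ.polar_bilinear
  have hf := isReflexive_polar hQ
  have hp : IsRootPair Q u (w + w') :=
    ⟨h.left, by rw [MaxSub.quad_add (Q := Q), h.right, h'.right, hww, add_zero, add_zero],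
      by rw [hb.add_left, h.orth, h'.orth, add_zero]⟩
  refine ⟨hp, MaxSub.gl_ext fun x => ?_⟩
  rw [Units.val_mul, ← Matrix.mulVec_mulVec,
    show ((root Q u w' : GL ι F) : Matrix ι ι F) *ᵥ x = _ from root_mulVec hQ h' x,
    show ((root Q u w : GL ι F) : Matrix ι ι F) *ᵥ _ = _ from root_mulVec hQ h _,
    show ((root Q u (w + w') : GL ι F) : Matrix ι ι F) *ᵥ x = _ from root_mulVec hQ hp x]
  simp only [hf.sub_left, hb.add_left, hb.smul_left, hb.add_right, MaxSub.polar_self hQ, h.left, h'.orth,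
    MaxSub.polar_symm (Q := Q) u w, MaxSub.polar_symm (Q := Q) w' w, h.orth, hww]
  module

theorem root_ne_one_apply (hQ : IsNondegenerateQuadraticForm Q) {u w : ι → F} (h : IsRootPair Q u w)
    (hu : u ≠ 0) (hind : ∀ c : F, c • u ≠ w) : ∃ x, mat (root Q u w) *ᵥ x = x + w := by
  obtain ⟨t, htu, htw⟩ := exists_pairing_pair hQ hu hind 1 0
  exact ⟨t, by rw [root_mulVec hQ h, htu, htw, one_smul, zero_smul, sub_zero]⟩

/-- Decompositions are moved. -/
theorem not_le_decompositionStabilizer (hQ : IsNondegenerateQuadraticForm Q) (hn : 7 ≤ Fintype.card ι)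
    {t m : ℕ} {D : Fin t → Submodule F (ι → F)} (hD : IsMDecomposition m D) (hm : 2 ≤ m ∨ (2 : F) ≠ 0) :
    ¬ omegaGL Q ≤ decompositionStabilizer D := by
  classical
  intro hle
  have hf := isReflexive_polar hQ
  have hb := hQ.polar_bilinear
  have hdisj : ∀ {i j : Fin t}, i ≠ j → ∀ x ∈ D i, x ∈ D j → x = 0 := fun hij x hx hx' =>
    Submodule.disjoint_def.1 (hD.indep.pairwiseDisjoint hij) x hx hx'
  have hne : ∀ i, ∃ x ∈ D i, x ≠ 0 := fun i => (Submodule.ne_bot_iff _).1 fun h => by
    have h4 := hD.finrank_eq i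
    rw [h, finrank_bot] at h4
    exact hD.pos.ne h4
  -- a singular vector in a part
  have hsing : ∀ i, ∀ s ∈ D i, s ≠ 0 → Q s = 0 → False := by
    intro i s hs hs0 hqs
    have hT : ∀ z : ι → F, z ≠ 0 → Q z = 0 → ∃ j, z ∈ D j := fun z hz0 hqz =>
      singular_mem_of_invariant hQ hn (T := {x | ∃ j, x ∈ D j}) (fun u w hp x hx => by
        obtain ⟨j, hj⟩ := hx
        obtain ⟨π, hπ⟩ := hle (root_mem hQ hn hp)
        exact ⟨π j, map_le_iff.1 (hπ j).le x hj⟩) (s := s) ⟨i, hs⟩ hs0 hqs hz0 hqz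
    have hsame : ∀ a b : ι → F, ∀ j, a ∈ D j → a ≠ 0 → Q a = 0 → Q b = 0 → B a b = 0 → b ∈ D j := by
      intro a b j haj ha0 hqa hqb hab
      by_cases hb0 : b = 0
      · exact hb0 ▸ (D j).zero_mem
      by_contra hbj
      obtain ⟨k, hk⟩ := hT b hb0 hqb
      have hkj : k ≠ j := fun h => hbj (h ▸ hk)
      have hsum0 : a + b ≠ 0 := fun h => hb0 (hdisj hkj b hk (by
        rw [eq_neg_of_add_eq_zero_right h]; exact (D j).neg_mem haj))
      obtain ⟨l, hl⟩ := hT (a + b) hsum0 (by rw [MaxSub.quad_add (Q := Q), hqa, hqb, hab, add_zero, add_zero])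
      rcases eq_or_ne l j with rfl | hlj
      · exact hbj (((D l).add_mem_iff_right haj).1 hl)
      have h2 : a ∈ D l ⊔ D k := by
        have h3 := Submodule.sub_mem _ (Submodule.mem_sup_left hl : a + b ∈ D l ⊔ D k) (Submodule.mem_sup_right hk)
        rwa [add_sub_cancel_right] at h3
      exact ha0 (Submodule.disjoint_def.1 (hD.indep j) a haj
        ((sup_le (le_iSup₂_of_le l hlj le_rfl) (le_iSup₂_of_le k hkj le_rfl) :
          D l ⊔ D k ≤ ⨆ (r : Fin t) (_ : r ≠ j), D r) h2))
    have hDi : ∀ z : ι → F, Q z = 0 → z ∈ D i := by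
      intro z hqz
      obtain ⟨y, hy, hyS, hqy⟩ := exists_singular_not_mem hQ
        (K := hf.perp (Submodule.span F (Set.range ![s, z]))) (M := (⊥ : Submodule F (ι → F))) (by
          have h1 := hf.finrank_perp (Submodule.span F (Set.range ![s, z]))
          have h2 : Module.finrank F (Submodule.span F (Set.range ![s, z])) ≤ 2 :=
            (finrank_range_le_card ![s, z]).trans (by simp)
          rw [finrank_bot]
          omega)
      have hys : B s y = 0 := by
        rw [MaxSub.polar_symm]; exact hy s (Submodule.subset_span ⟨0, rfl⟩)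
      exact hsame y z i (hsame s y i hs hs0 hqs hqy hys) (fun h => hyS (h ▸ Submodule.zero_mem _)) hqy hqz
        (hy z (Submodule.subset_span ⟨1, rfl⟩))
    obtain ⟨j, hji⟩ : ∃ j, j ≠ i := Fintype.exists_ne_of_one_lt_card (by rw [Fintype.card_fin]; exact hD.two_le) i
    obtain ⟨y, hy, hy0⟩ := hne j
    refine hy0 (hdisj hji y hy ?_)
    obtain ⟨u, hqu, hus⟩ := exists_singular_pol_one hQ (by omega) hy0
    have hmem := eq_bot_or_top_of_root hQ hn (W := D i) fun u w hp x hx => by
      obtain ⟨π, hπ⟩ := hle (root_mem hQ hn hp)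
      have hπi : π i = i := by
        by_contra hne'
        obtain ⟨w', hw'⟩ : ∃ z, z = mat (root Q u w) *ᵥ s := ⟨_, rfl⟩
        have h1 : w' ∈ D (π i) := hw' ▸ map_le_iff.1 (hπ i).le s hs
        have h2 : Q w' = 0 := by
          rw [hw', TensorNonmax.mem_isometryGroup.1 (root_mem_isometry hQ hp), hqs]
        have h0 := hdisj hne' w' h1 (hDi w' h2)
        rw [hw'] at h0
        exact hs0 (mulVec_injective (root Q u w) (h0.trans (Matrix.mulVec_zero _).symm))
      exact hπi ▸ map_le_iff.1 (hπ i).le x hx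
    rcases hmem with h | h
    · exact absurd (h ▸ hs : s ∈ (⊥ : Submodule F (ι → F))) (by simpa using hs0)
    · rw [h]; trivial
  -- a long root element fixing all parts gives a singular vector in a part
  have hfix : ∀ u w, IsRootPair Q u w → u ≠ 0 → (∀ c : F, c • u ≠ w) →
      ∀ π : Equiv.Perm (Fin t), (∀ i, (D i).map (Matrix.toLin' (mat (root Q u w))) = D (π i)) → π ≠ 1 := by
    intro u w hp hu hind π hπ hπ1
    subst hπ1
    obtain ⟨x, hx⟩ := root_ne_one_apply hQ hp hu hind
    obtain ⟨i, y, hy, hne0⟩ : ∃ i, ∃ y ∈ D i, mat (root Q u w) *ᵥ y ≠ y := by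
      by_contra hall
      push Not at hall
      have hx' : x ∈ LinearMap.ker (Matrix.toLin' (mat (root Q u w)) - LinearMap.id) := by
        have h1 : (⊤ : Submodule F (ι → F)) ≤ LinearMap.ker (Matrix.toLin' (mat (root Q u w)) - LinearMap.id) :=
          hD.iSup_eq_top ▸ iSup_le fun i z hz => by simp [hall i z hz]
        exact h1 trivial
      simp [hx] at hx'
      exact hind 0 (by rw [zero_smul, hx'])
    have h1 := (D i).sub_mem (map_le_iff.1 (hπ i).le y hy) (show y ∈ D ((1 : Equiv.Perm (Fin t)) i) from hy)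
    rw [root_mulVec hQ hp, add_sub_assoc, add_sub_cancel_left] at h1
    refine hsing i _ h1 (fun h => hne0 (by rw [root_mulVec hQ hp, add_sub_assoc, h, add_zero])) ?_
    rw [sub_eq_add_neg, ← neg_smul, MaxSub.quad_add (Q := Q), hQ.smul, hQ.smul, hp.left, hp.right,
      hb.smul_left, hb.smul_right, hp.orth]
    ring
  -- a moving long root element is a transposition
  have hswap : ∀ u w, IsRootPair Q u w → u ≠ 0 → (∀ c : F, c • u ≠ w) →
      ∀ π : Equiv.Perm (Fin t), (∀ i, (D i).map (Matrix.toLin' (mat (root Q u w))) = D (π i)) → π.IsSwap := by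
    intro u w hp hu hind π hπ
    obtain ⟨i, hi⟩ : ∃ i, π i ≠ i := by
      by_contra hall
      push Not at hall
      exact hfix u w hp hu hind π hπ (Equiv.ext hall)
    set g := root Q u w
    have hmem : ∀ j, ∀ x ∈ D j, mat g *ᵥ x ∈ D (π j) := fun j x hx => map_le_iff.1 (hπ j).le x hx
    let L := Submodule.span F (Set.range ![u, w])
    have hN : ∀ x, mat g *ᵥ x - x ∈ L := fun x => by
      rw [root_mulVec hQ hp, add_sub_assoc, add_sub_cancel_left]
      exact L.sub_mem (L.smul_mem _ (Submodule.subset_span ⟨1, rfl⟩))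
        (L.smul_mem _ (Submodule.subset_span ⟨0, rfl⟩))
    have hgu : mat g *ᵥ u = u := by
      rw [root_mulVec hQ hp, MaxSub.polar_self hQ, hp.left, MaxSub.polar_symm u w, hp.orth]
      simp
    have hgw : mat g *ᵥ w = w := by
      rw [root_mulVec hQ hp, hp.orth, MaxSub.polar_self hQ, hp.right]
      simp
    have hsq : ∀ x, mat g *ᵥ (mat g *ᵥ x) = (2 : F) • (mat g *ᵥ x) - x := by
      intro x
      rw [root_mulVec hQ hp x, Matrix.mulVec_sub, Matrix.mulVec_add, Matrix.mulVec_smul, Matrix.mulVec_smul,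
        hgu, hgw, root_mulVec hQ hp x]
      module
    have hpair : ∀ j, π j ≠ j → π (π j) = j ∧ (2 : F) = 0 := by
      intro j hj
      obtain ⟨x, hx, hx0⟩ := hne j
      have hgx0 : mat g *ᵥ x ≠ 0 := fun h => hx0 (mulVec_injective g (h.trans (Matrix.mulVec_zero _).symm))
      have h2x := hmem _ _ (hmem _ _ hx)
      rw [hsq] at h2x
      have hjj : π (π j) = j := by
        by_contra hjj
        refine hx0 (Submodule.disjoint_def.1 (hD.indep j) x hx ?_)
        have h3 : x ∈ D (π j) ⊔ D (π (π j)) := by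
          have h4 := Submodule.sub_mem _ (Submodule.mem_sup_left ((D (π j)).smul_mem (2 : F) (hmem _ _ hx)) :
            (2 : F) • (mat g *ᵥ x) ∈ D (π j) ⊔ D (π (π j))) (Submodule.mem_sup_right h2x)
          rwa [sub_sub_cancel] at h4
        exact (sup_le (le_iSup₂_of_le (π j) hj le_rfl) (le_iSup₂_of_le (π (π j)) hjj le_rfl) :
          D (π j) ⊔ D (π (π j)) ≤ ⨆ (r : Fin t) (_ : r ≠ j), D r) h3
      refine ⟨hjj, ?_⟩
      rw [hjj] at h2x
      have h5 := hdisj hj _ ((D (π j)).smul_mem (2 : F) (hmem _ _ hx))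
        (by simpa using (D j).add_mem h2x hx)
      exact (smul_eq_zero.1 h5).resolve_right hgx0
    have h2 := (hpair i hi).2
    have hm2 : 2 ≤ m := hm.resolve_right fun h => h h2
    have hLe : ∀ j, π j ≠ j → L ≤ D j ⊔ D (π j) := by
      intro j hj
      let N : D j →ₗ[F] L :=
        { toFun := fun x => ⟨mat g *ᵥ x.1 - x.1, hN x.1⟩
          map_add' := fun x y => Subtype.ext (by simp [Matrix.mulVec_add]; abel)
          map_smul' := fun c x => Subtype.ext (by simp [Matrix.mulVec_smul, smul_sub]) }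
      have hinj : Function.Injective N := by
        rw [injective_iff_map_eq_zero]
        intro x hx
        refine Subtype.ext (hdisj hj x.1 ?_ x.2)
        have h3 : mat g *ᵥ x.1 = x.1 := sub_eq_zero.1 (congrArg Subtype.val hx)
        exact h3 ▸ hmem j x.1 x.2
      have hsurj : LinearMap.range N = ⊤ := by
        apply Submodule.eq_top_of_finrank_eq
        have h3 := LinearMap.finrank_range_of_inj hinj
        have h4 : Module.finrank F L ≤ 2 := (finrank_range_le_card ![u, w]).trans (by simp)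
        have h5 := Submodule.finrank_le (LinearMap.range N)
        rw [hD.finrank_eq] at h3
        omega
      intro z hz
      obtain ⟨x, hx⟩ := LinearMap.range_eq_top.1 hsurj ⟨z, hz⟩
      rw [show z = mat g *ᵥ x.1 - x.1 from (congrArg Subtype.val hx).symm]
      exact Submodule.sub_mem _ (Submodule.mem_sup_right (hmem j x.1 x.2)) (Submodule.mem_sup_left x.2)
    refine ⟨i, π i, Ne.symm hi, Equiv.ext fun k => ?_⟩
    rcases eq_or_ne k i with rfl | hki
    · rw [Equiv.swap_apply_left]
    rcases eq_or_ne k (π i) with rfl | hkp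
    · rw [Equiv.swap_apply_right, (hpair i hi).1]
    rw [Equiv.swap_apply_of_ne_of_ne hki hkp]
    by_contra hk
    have hk1 : π k ≠ i := fun h => hkp (π.injective (h.trans (hpair i hi).1.symm))
    have hk2 : π k ≠ π i := fun h => hki (π.injective h)
    have hu1 := hLe i hi (Submodule.subset_span ⟨0, rfl⟩ : u ∈ L)
    have hu2 := hLe k hk (Submodule.subset_span ⟨0, rfl⟩ : u ∈ L)
    obtain ⟨a, ha, b, hb', hab⟩ := Submodule.mem_sup.1 hu1
    have h6 : ∀ r r' : Fin t, r ≠ r' → k ≠ r → π k ≠ r → ∀ a ∈ D r, ∀ b ∈ D r', a + b = u → r' ≠ r → a = 0 := by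
      intro r r' hrr h1 h3 a ha b hb'' hab' h4
      refine Submodule.disjoint_def.1 (hD.indep r) a ha ?_
      have h7 : a = u - b := by rw [← hab', add_sub_cancel_right]
      rw [h7]
      exact Submodule.sub_mem _ ((sup_le (le_iSup₂_of_le k h1 le_rfl) (le_iSup₂_of_le (π k) h3 le_rfl) :
        D k ⊔ D (π k) ≤ ⨆ (s : Fin t) (_ : s ≠ r), D s) hu2)
        ((le_iSup₂_of_le r' h4 le_rfl : D r' ≤ ⨆ (s : Fin t) (_ : s ≠ r), D s) hb'')
    have ha0 := h6 i (π i) (Ne.symm hi) hki hk1 a ha b hb' hab hi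
    have hb0 := h6 (π i) i hi hkp hk2 b hb' a ha (by rw [add_comm]; exact hab) (Ne.symm hi)
    exact hu (by rw [← hab, ha0, hb0, add_zero])
  -- a totally singular three-space
  obtain ⟨u, -, hu0, hqu⟩ := exists_singular hQ ⊤ (by rw [finrank_top, Module.finrank_fintype_fun_eq_card]; omega)
  obtain ⟨w, hp, hwS, -⟩ := exists_singular_pair hQ (by omega) hqu (S := Submodule.span F {u})
    (by rw [finrank_span_singleton hu0]; norm_num) (Submodule.mem_span_singleton_self u)
  have hind : ∀ c : F, c • u ≠ w := fun c hc => hwS (hc ▸ Submodule.smul_mem _ c (Submodule.mem_span_singleton_self u))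
  obtain ⟨w', hp', hw'S, hw'⟩ := exists_singular_pair hQ (by omega) hqu (S := Submodule.span F (Set.range ![u, w]))
    ((finrank_range_le_card ![u, w]).trans (by simp)) (Submodule.subset_span ⟨0, rfl⟩)
  have hind' : ∀ c : F, c • u ≠ w' := fun c hc =>
    hw'S (hc ▸ Submodule.smul_mem _ c (Submodule.subset_span ⟨0, rfl⟩))
  obtain ⟨hp2, hmul⟩ := root_mul hQ hp hp' (by rw [MaxSub.polar_symm]; exact hw' w (Submodule.subset_span ⟨1, rfl⟩))
  have hind2 : ∀ c : F, c • u ≠ w + w' := fun c hc => hw'S (by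
    rw [show w' = c • u - w by rw [hc, add_sub_cancel_left]]
    exact Submodule.sub_mem _ (Submodule.smul_mem _ c (Submodule.subset_span ⟨0, rfl⟩)) (Submodule.subset_span ⟨1, rfl⟩))
  obtain ⟨π, hπ⟩ := hle (root_mem hQ hn hp)
  obtain ⟨π', hπ'⟩ := hle (root_mem hQ hn hp')
  have hcomp : ∀ i, (D i).map (Matrix.toLin' (mat (root Q u (w + w')))) = D ((π * π') i) := fun i => by
    rw [← hmul]
    show (D i).map (Matrix.toLin' ((root Q u w : GL ι F).1 * (root Q u w').1)) = _
    rw [Matrix.toLin'_mul, Submodule.map_comp, hπ', hπ]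
    rfl
  have h1 := (hswap _ _ hp hu0 hind π hπ).sign_eq
  have h2 := (hswap _ _ hp' hu0 hind' π' hπ').sign_eq
  have h3 := (hswap _ _ hp2 hu0 hind2 _ hcomp).sign_eq
  rw [map_mul, h1, h2] at h3
  exact absurd h3 (by decide)

/-- Extension fields are moved. -/
theorem not_le_subalgebraNormalizer (hQ : IsNondegenerateQuadraticForm Q) (hn : 7 ≤ Fintype.card ι) {r : ℕ}
    (hr : 2 ≤ r) {K : Subalgebra F (Matrix ι ι F)} (hK : IsFieldSubalgebra r K) :
    ¬ omegaGL Q ≤ subalgebraNormalizer K := by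
  intro hle
  have hinj : ∀ k ∈ K, k ≠ 0 → ∀ x : ι → F, k *ᵥ x = 0 → x = 0 := by
    intro k hk hk0 x hx
    obtain ⟨y, hy, hky⟩ := hK.inv k hk hk0
    rw [hK.comm k hk y hy] at hky
    calc x = (y * k) *ᵥ x := by rw [hky, Matrix.one_mulVec]
      _ = 0 := by rw [← Matrix.mulVec_mulVec, hx, Matrix.mulVec_zero]
  have hcomm : ∀ u w, IsRootPair Q u w → ∀ k ∈ K, ∀ x,
      k *ᵥ (mat (root Q u w) *ᵥ x) = mat (root Q u w) *ᵥ (k *ᵥ x) := by
    intro u w hp k hk x
    set g := root Q u w
    have hk' := (hle (root_mem hQ hn hp) k).1 hk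
    by_cases heq : mat g * k * mat g⁻¹ = k
    · conv_lhs => rw [← heq]
      rw [← Matrix.mulVec_mulVec, ← Matrix.mulVec_mulVec, inv_mulVec_mulVec]
    exfalso
    let L : (ι → F) →ₗ[F] (Fin 4 → F) := (Matrix.of ![MaxSub.leftVec (B) u, MaxSub.leftVec (B) w,
      MaxSub.leftVec (B) u ᵥ* k, MaxSub.leftVec (B) w ᵥ* k]).mulVecLin
    obtain ⟨y, hy, hy0⟩ := (Submodule.ne_bot_iff (LinearMap.ker L)).1 (fun hbot => by
      have h4 := LinearMap.finrank_le_finrank_of_injective (LinearMap.ker_eq_bot.1 hbot)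
      rw [Module.finrank_fintype_fun_eq_card, Module.finrank_fintype_fun_eq_card, Fintype.card_fin] at h4
      omega)
    rw [LinearMap.mem_ker, Matrix.mulVecLin_apply] at hy
    have h0 : B y u = 0 := by rw [← MaxSub.leftVec_dot hQ]; exact congrFun hy 0
    have h1 : B y w = 0 := by rw [← MaxSub.leftVec_dot hQ]; exact congrFun hy 1
    have h2 : B (k *ᵥ y) u = 0 := by
      rw [← MaxSub.leftVec_dot hQ, Matrix.dotProduct_mulVec]; exact congrFun hy 2
    have h3 : B (k *ᵥ y) w = 0 := by
      rw [← MaxSub.leftVec_dot hQ, Matrix.dotProduct_mulVec]; exact congrFun hy 3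
    have hgy : mat g *ᵥ y = y := by rw [root_mulVec hQ hp, h0, h1]; simp
    have hgky : mat g *ᵥ (k *ᵥ y) = k *ᵥ y := by rw [root_mulVec hQ hp, h2, h3]; simp
    refine hy0 (hinj _ (K.sub_mem hk' hk) (sub_ne_zero.2 heq) y ?_)
    have hgi : mat g⁻¹ *ᵥ y = y := by
      conv_lhs => rw [← hgy]
      exact inv_mulVec_mulVec g y
    rw [Matrix.sub_mulVec, ← Matrix.mulVec_mulVec, ← Matrix.mulVec_mulVec, hgi, hgky, sub_self]
  obtain ⟨u, -, hu0, hqu⟩ := exists_singular hQ ⊤ (by rw [finrank_top, Module.finrank_fintype_fun_eq_card]; omega)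
  obtain ⟨w, hp, hwS, -⟩ := exists_singular_pair hQ (by omega) hqu (S := Submodule.span F {u})
    (by rw [finrank_span_singleton hu0]; norm_num) (Submodule.mem_span_singleton_self u)
  have hind : ∀ c : F, c • u ≠ w := fun c hc => hwS (hc ▸ Submodule.smul_mem _ c (Submodule.mem_span_singleton_self u))
  obtain ⟨w', hp', hw'S, -⟩ := exists_singular_pair hQ (by omega) hqu (S := Submodule.span F (Set.range ![u, w]))
    ((finrank_range_le_card ![u, w]).trans (by simp)) (Submodule.subset_span ⟨0, rfl⟩)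
  have himg : ∀ v, IsRootPair Q u v → (∀ c : F, c • u ≠ v) → ∀ k ∈ K,
      k *ᵥ u ∈ Submodule.span F (Set.range ![u, v]) := by
    intro v hv hvi k hk
    obtain ⟨t, htu, htw⟩ := exists_pairing_pair hQ hu0 hvi 0 (-1)
    have h4 : mat (root Q u v) *ᵥ t = t + u := by
      rw [root_mulVec hQ hv, htu, htw, zero_smul, neg_smul, one_smul, add_zero, sub_neg_eq_add]
    have h5 := hcomm u v hv k hk t
    rw [h4, Matrix.mulVec_add, root_mulVec hQ hv, add_sub_assoc, add_right_inj] at h5
    rw [h5]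
    exact Submodule.sub_mem _ (Submodule.smul_mem _ _ (Submodule.subset_span ⟨1, rfl⟩))
      (Submodule.smul_mem _ _ (Submodule.subset_span ⟨0, rfl⟩))
  have hscal : K ≤ ⊥ := by
    intro k hk
    have hind' : ∀ c : F, c • u ≠ w' := fun c hc =>
      hw'S (hc ▸ Submodule.smul_mem _ c (Submodule.subset_span ⟨0, rfl⟩))
    have h1 := himg w hp hind k hk
    have h2 := himg w' hp' hind' k hk
    rw [Matrix.range_cons_cons_empty, Submodule.mem_span_pair] at h1 h2
    obtain ⟨a, b, hab⟩ := h1
    obtain ⟨c, d, hcd⟩ := h2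
    have hd : d = 0 := by
      by_contra hd
      apply hw'S
      rw [show w' = d⁻¹ • (a • u + b • w - c • u) by
        rw [hab, ← hcd, add_sub_cancel_left, inv_smul_smul₀ hd]]
      exact Submodule.smul_mem _ _ (Submodule.sub_mem _ (Submodule.add_mem _
        (Submodule.smul_mem _ _ (Submodule.subset_span ⟨0, rfl⟩))
        (Submodule.smul_mem _ _ (Submodule.subset_span ⟨1, rfl⟩))) (Submodule.smul_mem _ _ (Submodule.subset_span ⟨0, rfl⟩)))
    rw [hd, zero_smul, add_zero] at hcd
    have h3 : (k - c • (1 : Matrix ι ι F)) *ᵥ u = 0 := by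
      rw [Matrix.sub_mulVec, Matrix.smul_mulVec, Matrix.one_mulVec, hcd, sub_self]
    by_cases h0 : k - c • (1 : Matrix ι ι F) = 0
    · rw [sub_eq_zero] at h0
      exact Algebra.mem_bot.2 ⟨c, (Algebra.algebraMap_eq_smul_one c).trans h0.symm⟩
    · exact absurd (hinj _ (K.sub_mem hk (K.smul_mem K.one_mem c)) h0 u h3) hu0
  have h1 := hK.finrank_eq
  haveI : Nonempty ι := Fintype.card_pos_iff.1 (by omega)
  rw [le_bot_iff.1 hscal, Subalgebra.finrank_bot] at h1
  omega

theorem pure_eq_pure_of_add {k d : ℕ} {a a' a'' : Fin k → F} {b b' b'' : Fin d → F}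
    (hb : ∀ c : F, c • b ≠ b') (hb0 : b ≠ 0)
    (h : AschbacherForms.pure a b + AschbacherForms.pure a' b' = AschbacherForms.pure a'' b'') :
    ∃ x y : F, a = x • a'' ∧ a' = y • a'' := by
  have hli : LinearIndependent F ![b, b'] := by
    rw [LinearIndependent.pair_iff' hb0]
    exact hb
  have hcon : ∀ j : Fin 2, ∃ θ : Module.Dual F (Fin d → F), ∀ l : Fin 2,
      θ (![b, b'] l) = if l = j then 1 else 0 := by
    intro j
    let E := Module.Basis.span hli
    obtain ⟨θ, hθ⟩ := LinearMap.exists_extend (E.coord j)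
    refine ⟨θ, fun l => ?_⟩
    have h3 := LinearMap.congr_fun hθ (E l)
    rw [LinearMap.comp_apply, Submodule.subtype_apply, Module.Basis.coord_apply,
      Module.Basis.repr_self, Finsupp.single_apply] at h3
    simp only [E, Module.Basis.span_apply] at h3
    exact h3
  have key : ∀ θ : Module.Dual F (Fin d → F), θ b • a + θ b' • a' = θ b'' • a'' := by
    intro θ
    funext i
    have h4 : θ (fun j => (AschbacherForms.pure a b + AschbacherForms.pure a' b') (i, j)) =
        θ (fun j => AschbacherForms.pure a'' b'' (i, j)) := by rw [h]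
    rw [show (fun j => (AschbacherForms.pure a b + AschbacherForms.pure a' b') (i, j)) = a i • b + a' i • b' from
      rfl, show (fun j => AschbacherForms.pure a'' b'' (i, j)) = a'' i • b'' from rfl] at h4
    simp only [map_add, map_smul, smul_eq_mul] at h4
    simp only [Pi.add_apply, Pi.smul_apply, smul_eq_mul]
    linear_combination h4
  obtain ⟨θ₀, h0⟩ := hcon 0
  obtain ⟨θ₁, h1⟩ := hcon 1
  have a1 := h0 0
  have a2 := h0 1
  have b1 := h1 0
  have b2 := h1 1
  simp at a1 a2 b1 b2
  exact ⟨θ₀ b'', θ₁ b'', by simpa [a1, a2] using key θ₀, by simpa [b1, b2] using key θ₁⟩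

/-- Tensor decompositions are moved. -/
theorem not_le_tensorProductSubgroup (hQ : IsNondegenerateQuadraticForm Q) (hn : 7 ≤ Fintype.card ι)
    {k d : ℕ} (hk : 2 ≤ k) (hd : 3 ≤ d) (hkd : k + d + 4 ≤ Fintype.card ι)
    (e : ι ≃ Fin k × Fin d) (P : GL ι F) : ¬ omegaGL Q ≤ tensorProductSubgroup k d e P := by
  intro hle
  have hf := isReflexive_polar hQ
  have himg : ∀ g ∈ tensorProductSubgroup k d e P, ∀ (y : Fin k → F) (z : Fin d → F),
      ∃ y' z', mat g *ᵥ coords e P (AschbacherForms.pure y z) = coords e P (AschbacherForms.pure y' z') := by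
    intro g hg y z
    obtain ⟨a, b, hab⟩ := exists_of_mem_tensorProductSubgroup hg
    exact ⟨_, _, by rw [hab, tensorEquiv_mulVec, kronecker_mulVec_pure]⟩
  let T : Set (ι → F) := {x | ∃ y z, x = coords e P (AschbacherForms.pure y z)}
  let a : Fin k → F := Pi.single ⟨0, by omega⟩ 1
  have ha0 : a ≠ 0 := fun h => by simpa [a] using congrFun h ⟨0, by omega⟩
  let L : (Fin d → F) →ₗ[F] (ι → F) :=
    { toFun := fun z => coords e P (AschbacherForms.pure a z)
      map_add' := fun z z' => by
        rw [show AschbacherForms.pure a (z + z') = AschbacherForms.pure a z + AschbacherForms.pure a z' from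
          funext fun j => mul_add _ _ _, map_add]
      map_smul' := fun c z => by
        rw [show AschbacherForms.pure a (c • z) = c • AschbacherForms.pure a z from
          funext fun j => mul_left_comm _ _ _, map_smul, RingHom.id_apply] }
  have hLinj : Function.Injective L := by
    rw [injective_iff_map_eq_zero]
    intro z hz
    have h1 : AschbacherForms.pure a z = 0 := (coords e P).map_eq_zero_iff.1 hz
    funext j
    simpa [AschbacherForms.pure, a] using congrFun h1 (⟨0, by omega⟩, j)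
  obtain ⟨_, ⟨b, rfl⟩, hp0, hqp⟩ := exists_singular hQ (LinearMap.range L)
    (by rw [LinearMap.finrank_range_of_inj hLinj, Module.finrank_fin_fun]; exact hd)
  have hb0 : b ≠ 0 := fun h => hp0 (by rw [h, map_zero])
  have hT : ∀ z : ι → F, z ≠ 0 → Q z = 0 → z ∈ T := fun z hz0 hqz =>
    singular_mem_of_invariant hQ hn (T := T) (fun u w hp x hx => by
      obtain ⟨y, z, rfl⟩ := hx
      exact himg _ (hle (root_mem hQ hn hp)) y z) (s := L b) ⟨a, b, rfl⟩ hp0 hqp hz0 hqz
  let L' : (Fin k → F) →ₗ[F] (ι → F) :=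
    { toFun := fun y => coords e P (AschbacherForms.pure y b)
      map_add' := fun y y' => by
        rw [show AschbacherForms.pure (y + y') b = AschbacherForms.pure y b + AschbacherForms.pure y' b from
          funext fun j => add_mul _ _ _, map_add]
      map_smul' := fun c y => by
        rw [show AschbacherForms.pure (c • y) b = c • AschbacherForms.pure y b from
          funext fun j => mul_assoc _ _ _, map_smul, RingHom.id_apply] }
  obtain ⟨z, hz, hzM, hqz⟩ := exists_singular_not_mem hQ (K := hf.perp (Submodule.span F {L b}))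
    (M := LinearMap.range L ⊔ LinearMap.range L') (by
      have h1 := hf.finrank_perp (Submodule.span F {L b})
      rw [finrank_span_singleton hp0] at h1
      have h2 := Submodule.finrank_add_le_finrank_add_finrank (LinearMap.range L) (LinearMap.range L')
      have h3 := LinearMap.finrank_range_le L
      have h4 := LinearMap.finrank_range_le L'
      rw [Module.finrank_fin_fun] at h3 h4
      omega)
  have hz0 : z ≠ 0 := fun h => hzM (h ▸ Submodule.zero_mem _)
  obtain ⟨a', b', rfl⟩ := hT z hz0 hqz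
  have hsum0 : L b + coords e P (AschbacherForms.pure a' b') ≠ 0 := fun h => hzM (by
    rw [eq_neg_of_add_eq_zero_right h]
    exact Submodule.neg_mem _ (Submodule.mem_sup_left ⟨b, rfl⟩))
  obtain ⟨a'', b'', hab⟩ := hT _ hsum0 (by
    rw [MaxSub.quad_add (Q := Q), hqp, hqz, MaxSub.polar_symm, hz _ (Submodule.mem_span_singleton_self _),
      add_zero, add_zero])
  have hb' : ∀ c : F, c • b ≠ b' := fun c hc => hzM (Submodule.mem_sup_right ⟨c • a', by
    show coords e P (AschbacherForms.pure (c • a') b) = _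
    rw [← hc]
    congr 1
    funext j
    simp [AschbacherForms.pure, mul_left_comm, mul_assoc]⟩)
  obtain ⟨x, y, hx, hy⟩ := pure_eq_pure_of_add hb' hb0 ((coords e P).injective (by rw [map_add]; exact hab))
  have hx0 : x ≠ 0 := fun h => ha0 (by rw [hx, h, zero_smul])
  refine hzM (Submodule.mem_sup_left ⟨(y / x) • b', ?_⟩)
  show coords e P (AschbacherForms.pure a _) = _
  congr 1
  funext j
  simp only [AschbacherForms.pure, hx, hy, Pi.smul_apply, smul_eq_mul]
  field_simp

/-- A one-parameter family `1 + c N` with `N ^ 2 = 0` lies in no proper subfield group. -/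
theorem not_forall_subfield_of_nilpotent {F₀ : Subfield F} (hF₀ : F₀ ≠ ⊤) {P : GL ι F} {N : Matrix ι ι F}
    (hN : N ≠ 0) (hNN : N * N = 0) {G : F → GL ι F} (hG : ∀ c, mat (G c) = 1 + c • N) :
    ¬ ∀ c, G c ∈ subfieldSubgroup F₀ P := by
  classical
  intro hall
  haveI : Fintype F₀ := Fintype.ofFinite _
  obtain ⟨p, hchar⟩ := CharP.exists F
  haveI := hchar
  haveI : CharP F₀ p := (F₀.subtype.charP_iff_charP p).2 hchar
  obtain ⟨m, hp, hm⟩ := FiniteField.card F₀ p
  haveI : Fact p.Prime := ⟨hp⟩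
  haveI : ExpChar F p := ExpChar.prime hp
  let φ : F →+* F := iterateFrobenius F p m
  have hφ : ∀ x, φ x = x ^ Fintype.card F₀ := fun x => by rw [hm]; exact iterateFrobenius_def p (m : ℕ) x
  have hfix : ∀ x ∈ F₀, φ x = x := fun x hx => by
    rw [hφ]; exact congrArg Subtype.val (FiniteField.pow_card (⟨x, hx⟩ : F₀))
  have h1c : 1 < Fintype.card F₀ := Fintype.one_lt_card
  have hfixed : ∀ x, φ x = x → x ∈ F₀ := by
    intro x hx
    have hp0 : (Polynomial.X ^ Fintype.card F₀ - Polynomial.X : Polynomial F) ≠ 0 :=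
      FiniteField.X_pow_card_sub_X_ne_zero F h1c
    have hroot : ∀ y, φ y = y → y ∈ (Polynomial.X ^ Fintype.card F₀ - Polynomial.X : Polynomial F).roots.toFinset :=
      fun y hy => by
        rw [Multiset.mem_toFinset, Polynomial.mem_roots hp0]
        simp [← hφ, hy]
    have heq : Finset.univ.image (fun y : F₀ => (y : F)) =
        (Polynomial.X ^ Fintype.card F₀ - Polynomial.X : Polynomial F).roots.toFinset := by
      refine Finset.eq_of_subset_of_card_le (fun y hy => ?_) ?_
      · obtain ⟨z, -, rfl⟩ := Finset.mem_image.1 hy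
        exact hroot _ (hfix _ z.2)
      · rw [Finset.card_image_of_injective _ Subtype.val_injective, Finset.card_univ]
        exact (Multiset.toFinset_card_le _).trans ((Polynomial.card_roots' _).trans
          (FiniteField.X_pow_card_sub_X_natDegree_eq F h1c).le)
    obtain ⟨z, -, rfl⟩ := Finset.mem_image.1 (heq ▸ hroot x hx : x ∈ Finset.univ.image (fun y : F₀ => (y : F)))
    exact z.2
  set M := mat P⁻¹ * N * mat P with hM
  have hMM : M * M = 0 := by
    rw [hM, show mat P⁻¹ * N * mat P * (mat P⁻¹ * N * mat P) =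
      mat P⁻¹ * N * (mat P * mat P⁻¹) * N * mat P by simp only [mul_assoc], mat_mul_inv, mul_one,
      mul_assoc (mat P⁻¹) N, hNN, mul_zero, zero_mul]
  obtain ⟨i, j, hij⟩ : ∃ i j, M i j ≠ 0 := by
    by_contra hh
    push Not at hh
    apply hN
    have h0 : M = 0 := Matrix.ext hh
    calc N = mat P * M * mat P⁻¹ := by
          rw [hM]; simp only [mul_assoc]; rw [mat_mul_inv, mul_one, ← mul_assoc, mat_mul_inv, one_mul]
      _ = 0 := by rw [h0, mul_zero, zero_mul]
  obtain ⟨v, hv, hv0⟩ : ∃ v, M *ᵥ v = 0 ∧ v ≠ 0 := by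
    refine ⟨M *ᵥ Pi.single j 1, by rw [Matrix.mulVec_mulVec, hMM, Matrix.zero_mulVec], fun h => hij ?_⟩
    simpa [Matrix.mulVec_single_one] using congrFun h i
  apply hF₀
  rw [eq_top_iff]
  intro c _
  obtain ⟨s, hs0, hs⟩ := exists_smul_of_mem_subfieldSubgroup (hall (c / M i j))
  have hconj : mat P⁻¹ * mat (G (c / M i j)) * mat P = 1 + (c / M i j) • M := by
    rw [hG, mul_add, add_mul, mul_one, mat_inv_mul, Matrix.mul_smul, Matrix.smul_mul]
  rw [hconj] at hs
  set A : Matrix ι ι F := s • (1 + (c / M i j) • M) with hA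
  have hAF : ∀ a b, φ (A a b) = A a b := fun a b => hfix _ (hs a b)
  have hAv : A *ᵥ v = s • v := by
    rw [hA, Matrix.smul_mulVec, Matrix.add_mulVec, Matrix.one_mulVec, Matrix.smul_mulVec, hv, smul_zero, add_zero]
  let w : ι → F := fun a => φ (v a)
  have hAw : A *ᵥ w = φ s • w := by
    funext a
    have h3 := congrArg φ (congrFun hAv a)
    simp only [Matrix.mulVec, dotProduct, map_sum, map_mul, hAF, Pi.smul_apply, smul_eq_mul] at h3 ⊢
    exact h3
  have hnil : (φ s - s) • ((φ s - s) • w) = 0 := by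
    have h4 : ∀ y, (A *ᵥ y - s • y) = (s * (c / M i j)) • (M *ᵥ y) := fun y => by
      rw [hA, Matrix.smul_mulVec, Matrix.add_mulVec, Matrix.one_mulVec, Matrix.smul_mulVec, smul_add, smul_smul,
        add_sub_cancel_left]
    have h5 := h4 w
    rw [hAw, ← sub_smul] at h5
    have h6 := congrArg (fun y => M *ᵥ y) h5
    simp only [Matrix.mulVec_smul, Matrix.mulVec_mulVec, hMM, Matrix.zero_mulVec, smul_zero] at h6
    rw [h5, smul_comm, h6, smul_zero]
  have hw0 : w ≠ 0 := fun h => hv0 (funext fun a => φ.injective ((congrFun h a).trans (map_zero φ).symm))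
  have hs' : s ∈ F₀ := hfixed s (sub_eq_zero.1 (by
    rcases smul_eq_zero.1 hnil with h | h
    · exact h
    · exact (smul_eq_zero.1 h).resolve_right hw0))
  have h7 := F₀.mul_mem (F₀.inv_mem hs') (hs i j)
  rw [← mul_assoc, inv_mul_cancel₀ hs0, one_mul] at h7
  have h8 : (1 : Matrix ι ι F) i j ∈ F₀ := by
    rw [Matrix.one_apply]; split_ifs <;> [exact F₀.one_mem; exact F₀.zero_mem]
  have h9 := F₀.sub_mem h7 h8
  rw [Matrix.add_apply, add_sub_cancel_left, Matrix.smul_apply, smul_eq_mul, div_mul_cancel₀ _ hij] at h9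
  exact h9

/-- Subfield groups are proper. -/
theorem not_le_subfieldSubgroup (hQ : IsNondegenerateQuadraticForm Q) (hn : 7 ≤ Fintype.card ι)
    {F₀ : Subfield F} (hF₀ : F₀ ≠ ⊤) (P : GL ι F) : ¬ omegaGL Q ≤ subfieldSubgroup F₀ P := by
  intro hle
  have hb := hQ.polar_bilinear
  obtain ⟨u, -, hu0, hqu⟩ := exists_singular hQ ⊤ (by rw [finrank_top, Module.finrank_fintype_fun_eq_card]; omega)
  obtain ⟨w, hp, hwS, -⟩ := exists_singular_pair hQ (by omega) hqu (S := Submodule.span F {u})
    (by rw [finrank_span_singleton hu0]; norm_num) (Submodule.mem_span_singleton_self u)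
  have hind : ∀ c : F, c • u ≠ w := fun c hc => hwS (hc ▸ Submodule.smul_mem _ c (Submodule.mem_span_singleton_self u))
  let N : Matrix ι ι F := Matrix.vecMulVec w (MaxSub.leftVec (B) u) - Matrix.vecMulVec u (MaxSub.leftVec (B) w)
  have hNx : ∀ x, N *ᵥ x = B x u • w - B x w • u := fun x => by
    funext a
    simp only [N, Matrix.sub_mulVec, Matrix.vecMulVec_mulVec, MaxSub.leftVec_dot hQ, Pi.sub_apply, Pi.smul_apply,
      smul_eq_mul, MulOpposite.smul_eq_mul_unop, MulOpposite.unop_op]
    ring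
  refine not_forall_subfield_of_nilpotent hF₀ (P := P) (N := N) ?_ ?_ (G := fun c => root Q u (c • w))
    (fun c => ?_) fun c => hle (root_mem hQ hn (hp.smul_right hQ c))
  · intro h0
    obtain ⟨t, htu, htw⟩ := exists_pairing_pair hQ hu0 hind 1 0
    have h1 := hNx t
    rw [h0, Matrix.zero_mulVec, htu, htw, one_smul, zero_smul, sub_zero] at h1
    exact hind 0 (by rw [zero_smul]; exact h1)
  · apply Matrix.toLin'.injective
    refine LinearMap.ext fun x => ?_
    rw [Matrix.toLin'_apply, Matrix.toLin'_apply, ← Matrix.mulVec_mulVec, hNx x, Matrix.mulVec_sub,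
      Matrix.mulVec_smul, Matrix.mulVec_smul, hNx, hNx, MaxSub.polar_self hQ, MaxSub.polar_self hQ, hp.left,
      hp.right, hp.orth, MaxSub.polar_symm u w, hp.orth]
    simp
  · apply Matrix.toLin'.injective
    refine LinearMap.ext fun x => ?_
    rw [Matrix.toLin'_apply, Matrix.toLin'_apply, root_mulVec hQ (hp.smul_right hQ c), Matrix.add_mulVec,
      Matrix.one_mulVec, Matrix.smul_mulVec, hNx, hb.smul_right, smul_sub, smul_smul, smul_smul, smul_smul,
      add_sub_assoc]
    module

end CfsgLib.AschbacherQuad
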