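import Cfsg.Agent.AschbacherQuad.Witt
import Cfsg.Agent.AschbacherForms.Frame

/-!
Decompositions into isometric parts: the type of the sum, frames inside small parts over small fields, and the
refinement of a decomposition along frames.
-/

set_option autoImplicit false
set_option linter.unusedSectionVars false
set_option linter.style.haveILetI false

namespace CfsgLib.AschbacherQuad

open Matrix Cfsg.Geo CfsgLib.Aschbacher CfsgLib.AschbacherForms

variable {ι : Type} [Fintype ι] [DecidableEq ι] {F : Type*} [Field F] {Q : (ι → F) → F}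

local notation "B" => QuadraticMap.polar Q

/-- A singular vector of a non-degenerate subspace has a hyperbolic partner there. -/
theorem exists_partner (hQ : IsNondegenerateQuadraticForm Q) {X : Submodule F (ι → F)}
    (hX : IsNondegenerateOn (B) X) {e : ι → F} (he : e ∈ X) (he0 : e ≠ 0) (hqe : Q e = 0) :
    ∃ f ∈ X, Q f = 0 ∧ B e f = 1 := by
  have hb := hQ.polar_bilinear
  have hf := isReflexive_polar hQ
  obtain ⟨-, t₀, ht0, hne⟩ := hX e he he0
  obtain ⟨t, htX, ht⟩ : ∃ t ∈ X, B e t = 1 :=
    ⟨(B e t₀)⁻¹ • t₀, X.smul_mem _ ht0, by rw [hb.smul_right, inv_mul_cancel₀ hne]⟩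
  refine ⟨t - Q t • e, X.sub_mem htX (X.smul_mem _ he), ?_, ?_⟩
  · rw [sub_eq_add_neg, ← neg_smul, MaxSub.quad_add (Q := Q), hQ.smul, hqe, hb.smul_right,
      MaxSub.polar_symm t e, ht]
    ring
  · rw [hf.sub_right, hb.smul_right, ht, MaxSub.polar_self hQ, hqe]
    ring

theorem orth_finset_sup (hQ : IsNondegenerateQuadraticForm Q) {κ : Type*} {D : κ → Submodule F (ι → F)}
    (hO : ∀ i j, i ≠ j → AreOrthogonalFor (B) (D i) (D j)) {a : κ} {S : Finset κ} (ha : a ∉ S) :
    AreOrthogonalFor (B) (D a) (S.sup D) := by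
  have hf := isReflexive_polar hQ
  have h : S.sup D ≤ hf.perp (D a) := Finset.sup_le fun i hi x hx w hw =>
    hO i a (fun e => ha (e ▸ hi)) x hx w hw
  exact fun u hu v hv => hf.orth_comm (h hv u hu)

/-- Isometries of orthogonal summands add up. -/
theorem isometric_sup (hQ : IsNondegenerateQuadraticForm Q) {W₁ W₂ W₁' W₂' : Submodule F (ι → F)}
    (h₁ : AreIsometricFor Q W₁ W₁') (h₂ : AreIsometricFor Q W₂ W₂') (hd : W₁ ⊓ W₂ = ⊥) (hd' : W₁' ⊓ W₂' = ⊥)
    (ho : AreOrthogonalFor (B) W₁ W₂) (ho' : AreOrthogonalFor (B) W₁' W₂') :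
    AreIsometricFor Q (W₁ ⊔ W₂) (W₁' ⊔ W₂') := by
  obtain ⟨e₁, he₁⟩ := h₁
  obtain ⟨e₂, he₂⟩ := h₂
  have hmk : ∀ {X Y : Submodule F (ι → F)}, X ⊓ Y = ⊥ → ∃ E : (X × Y) ≃ₗ[F] (X ⊔ Y : Submodule F (ι → F)),
      ∀ p : X × Y, (E p : ι → F) = (p.1 : ι → F) + p.2 := by
    intro X Y hXY
    let φ : (X × Y) →ₗ[F] (ι → F) := X.subtype.coprod Y.subtype
    have hinj : Function.Injective φ := by
      rw [injective_iff_map_eq_zero]
      rintro ⟨x, y⟩ h
      have h1 : (x : ι → F) + y = 0 := h
      have h2 : (x : ι → F) ∈ X ⊓ Y := ⟨x.2, by rw [eq_neg_of_add_eq_zero_left h1]; exact Y.neg_mem y.2⟩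
      rw [hXY, Submodule.mem_bot] at h2
      rw [h2, zero_add] at h1
      exact Prod.ext (Subtype.ext h2) (Subtype.ext h1)
    refine ⟨(LinearEquiv.ofInjective φ hinj).trans (LinearEquiv.ofEq _ _ ?_), fun p => rfl⟩
    rw [LinearMap.range_coprod, Submodule.range_subtype, Submodule.range_subtype]
  obtain ⟨E, hE⟩ := hmk hd
  obtain ⟨E', hE'⟩ := hmk hd'
  refine ⟨E.symm.trans ((e₁.prodCongr e₂).trans E'), fun w => ?_⟩
  obtain ⟨⟨x, y⟩, rfl⟩ := E.surjective w
  rw [LinearEquiv.trans_apply, LinearEquiv.symm_apply_apply, LinearEquiv.trans_apply, hE', hE]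
  show Q ((e₁ x : ι → F) + (e₂ y : ι → F)) = Q ((x : ι → F) + (y : ι → F))
  rw [MaxSub.quad_add (Q := Q), MaxSub.quad_add (Q := Q), he₁, he₂, ho _ x.2 _ y.2, ho' _ (e₁ x).2 _ (e₂ y).2]

theorem disjoint_finset_sup (hQ : IsNondegenerateQuadraticForm Q) {t m : ℕ} {D : Fin t → Submodule F (ι → F)}
    (hD : IsNondegenerateMDecomposition (B) m D) {a : Fin t} {S : Finset (Fin t)} (ha : a ∉ S) :
    D a ⊓ S.sup D = ⊥ := by
  rw [eq_bot_iff]
  exact fun x hx => (Submodule.mem_bot F).2
    (disjoint_of_orth (hD.nondegenerate a) (orth_finset_sup hQ hD.orthogonal ha) hx.1 hx.2)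

/-- An even number of isometric parts, half of them spanning an even dimension, make a space of plus type. -/
theorem plus_top_of_halves [Fintype F] (hQ : IsNondegenerateQuadraticForm Q) {t m : ℕ}
    {D : Fin t → Submodule F (ι → F)} (hD : IsNondegenerateMDecomposition (B) m D)
    (hiso : ∀ i j, AreIsometricFor Q (D i) (D j)) {h : ℕ} (ht : t = 2 * h) (he : Even (h * m)) :
    IsPlusTypeOn Q ⊤ := by
  classical
  subst ht
  have hf := isReflexive_polar hQ
  let π : Fin (2 * h) → Fin (2 * h) := fun i => ⟨(i + h) % (2 * h), Nat.mod_lt _ (lt_of_le_of_lt (Nat.zero_le _) i.2)⟩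
  let S : Finset (Fin (2 * h)) := Finset.univ.filter fun i => (i : ℕ) < h
  have key : ∀ S' : Finset (Fin (2 * h)), Set.InjOn π S' →
      AreIsometricFor Q (S'.sup D) ((S'.image π).sup D) ∧ Module.finrank F (S'.sup D : Submodule F (ι → F)) = S'.card * m := by
    intro S'
    induction S' using Finset.induction_on with
    | empty =>
      intro _
      refine ⟨?_, by simp⟩
      rw [Finset.image_empty, Finset.sup_empty]
      exact areIsometric_refl _
    | insert a S' ha ih =>
      intro hinj
      obtain ⟨h1, h2⟩ := ih (hinj.mono (by simp))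
      have ha' : π a ∉ S'.image π := by
        intro hm
        obtain ⟨b, hb, hba⟩ := Finset.mem_image.1 hm
        exact ha (hinj (by simp [hb]) (by simp) hba ▸ hb)
      refine ⟨?_, ?_⟩
      · rw [Finset.image_insert, Finset.sup_insert, Finset.sup_insert]
        exact isometric_sup hQ (hiso _ _) h1 (disjoint_finset_sup hQ hD ha) (disjoint_finset_sup hQ hD ha')
          (orth_finset_sup hQ hD.orthogonal ha) (orth_finset_sup hQ hD.orthogonal ha')
      · rw [Finset.sup_insert, Finset.card_insert_of_notMem ha]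
        have h3 := Submodule.finrank_sup_add_finrank_inf_eq (D a) (S'.sup D)
        rw [disjoint_finset_sup hQ hD ha, finrank_bot, hD.decomp.finrank_eq a, h2] at h3
        rw [add_mul, one_mul]
        omega
  have hval : ∀ i : Fin (2 * h), i ∈ S → (π i : ℕ) = i + h := fun i hi => by
    simp only [S, Finset.mem_filter] at hi
    exact Nat.mod_eq_of_lt (by omega)
  obtain ⟨hXY, hXd⟩ := key S fun i hi j hj hij => by
    have h3 := congrArg Fin.val hij
    rw [hval i hi, hval j hj] at h3
    exact Fin.ext (by omega)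
  set X := S.sup D with hXdef
  set Y := (S.image π).sup D with hYdef
  have hout : ∀ i, i ∉ S → i ∈ S.image π := by
    intro i hi
    simp only [S, Finset.mem_filter, Finset.mem_univ, true_and, not_lt] at hi
    have hlt := i.2
    refine Finset.mem_image.2 ⟨⟨i - h, by omega⟩, ?_, ?_⟩
    · simp only [S, Finset.mem_filter, Finset.mem_univ, true_and]
      omega
    · refine Fin.ext ?_
      show (i - h + h) % (2 * h) = (i : ℕ)
      rw [Nat.sub_add_cancel hi, Nat.mod_eq_of_lt hlt]
  have htop : X ⊔ Y = ⊤ := by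
    rw [eq_top_iff, ← hD.decomp.iSup_eq_top]
    refine iSup_le fun i => ?_
    by_cases hi : i ∈ S
    · exact le_sup_of_le_left (Finset.le_sup (f := D) hi)
    · exact le_sup_of_le_right (Finset.le_sup (f := D) (hout i hi))
  have horth : AreOrthogonalFor (B) X Y := by
    have h1 : Y ≤ hf.perp X := Finset.sup_le fun j hj => by
      obtain ⟨i, hi, rfl⟩ := Finset.mem_image.1 hj
      have hnm : π i ∉ S := by
        simp only [S, Finset.mem_filter, Finset.mem_univ, true_and, not_lt]
        rw [hval i hi]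
        omega
      exact fun x hx w hw => orth_finset_sup hQ hD.orthogonal hnm x hx w hw
    exact fun u hu v hv => hf.orth_comm (h1 hv u hu)
  have hnd : IsNondegenerateOn (B) X := by
    rw [hf.isNondegenerateOn_iff, eq_bot_iff]
    rintro x ⟨hx, hxp⟩
    rw [Submodule.mem_bot]
    refine hf.ext_right fun w => ?_
    obtain ⟨a, ha, b, hb, rfl⟩ := Submodule.mem_sup.1 (htop ▸ Submodule.mem_top : w ∈ X ⊔ Y)
    rw [hQ.polar_bilinear.add_left, hf.orth_comm (hxp a ha), hf.orth_comm (horth x hx b hb), hf.zero_right,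
      add_zero]
  have hcard : S.card = h := by
    have h1 : S.card ≤ h := by
      have := Finset.card_le_card_of_injOn (fun i : Fin (2 * h) => (i : ℕ)) (s := S) (t := Finset.range h)
        (fun i hi => by simpa [S] using hi) (fun i _ j _ hij => Fin.ext hij)
      simpa using this
    have h2 : h ≤ S.card := by
      have := Finset.card_le_card_of_injOn (fun i : Fin h => (⟨i, by omega⟩ : Fin (2 * h))) (s := Finset.univ) (t := S)
        (fun i _ => by simp [S]) (fun i _ j _ hij => Fin.ext (by simpa using hij))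
      simpa using this
    omega
  rw [hcard] at hXd
  obtain ⟨U, -, hU, hUd⟩ := exists_singular_of_isometric hQ hnd (by rw [hXd]; exact he) horth hXY
  refine ⟨U, le_top, hU, ?_⟩
  rw [hUd, finrank_top]
  obtain ⟨φ, -⟩ := hXY
  have h3 := Submodule.finrank_sup_add_finrank_inf_eq X Y
  have h4 : X ⊓ Y = ⊥ := eq_bot_iff.2 fun x hx => (Submodule.mem_bot F).2 (disjoint_of_orth hnd horth hx.1 hx.2)
  rw [htop, h4, finrank_bot, finrank_top, ← φ.finrank_eq] at h3
  omega

/-- Parts of plus type make a space of plus type. -/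
theorem plus_top_of_parts (hQ : IsNondegenerateQuadraticForm Q) {t m : ℕ} {D : Fin t → Submodule F (ι → F)}
    (hD : IsNondegenerateMDecomposition (B) m D) (hp : ∀ i, IsPlusTypeOn Q (D i)) : IsPlusTypeOn Q ⊤ := by
  classical
  choose U hU hUs hUd using hp
  have key : ∀ S : Finset (Fin t), IsTotallySingularQuad Q (S.sup U) ∧
      2 * Module.finrank F (S.sup U : Submodule F (ι → F)) = Module.finrank F (S.sup D : Submodule F (ι → F)) := by
    intro S
    induction S using Finset.induction_on with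
    | empty =>
      refine ⟨fun x hx => ?_, by rw [Finset.sup_empty, Finset.sup_empty, finrank_bot]⟩
      rw [Finset.sup_empty, Submodule.mem_bot] at hx
      rw [hx, MaxSub.quad_zero hQ]
    | insert a S ha ih =>
      have hle : S.sup U ≤ S.sup D := Finset.sup_mono_fun fun i _ => hU i
      rw [Finset.sup_insert, Finset.sup_insert]
      refine ⟨singular_sup (hUs a) ih.1
        (fun x hx y hy => orth_finset_sup hQ hD.orthogonal ha x (hU a hx) y (hle hy)), ?_⟩
      have h1 := Submodule.finrank_sup_add_finrank_inf_eq (D a) (S.sup D)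
      have h2 := Submodule.finrank_sup_add_finrank_inf_eq (U a) (S.sup U)
      have h3 : U a ⊓ S.sup U = ⊥ := eq_bot_iff.2 ((inf_le_inf (hU a) hle).trans (disjoint_finset_sup hQ hD ha).le)
      rw [disjoint_finset_sup hQ hD ha, finrank_bot] at h1
      rw [h3, finrank_bot] at h2
      have h4 := hUd a
      omega
  obtain ⟨h1, h2⟩ := key Finset.univ
  refine ⟨Finset.univ.sup U, le_top, h1, ?_⟩
  rw [h2, Finset.sup_univ_eq_iSup, hD.decomp.iSup_eq_top]

/-- Vectors of one non-zero value, orthogonal in pairs, are independent away from two. -/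
theorem linearIndependent_of_orth (hQ : IsNondegenerateQuadraticForm Q) (h2 : (2 : F) ≠ 0) {κ : Type*} [Fintype κ]
    {u : κ → ι → F} {a : F} (ha : a ≠ 0) (hv : ∀ i, Q (u i) = a) (ho : ∀ i j, i ≠ j → B (u i) (u j) = 0) :
    LinearIndependent F u := by
  classical
  have hf := isReflexive_polar hQ
  refine Fintype.linearIndependent_iff.2 fun c hc i => ?_
  have h1 : B (∑ j, c j • u j) (u i) = 0 := by rw [hc, hf.zero_left]
  rw [hf.sesq.sum_left, Finset.sum_eq_single i
    (fun j _ hji => by rw [hQ.polar_bilinear.smul_left, ho j i hji, mul_zero])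
    (fun h => absurd (Finset.mem_univ i) h), hQ.polar_bilinear.smul_left, MaxSub.polar_self hQ, hv] at h1
  exact (mul_eq_zero.1 h1).resolve_right (mul_ne_zero h2 ha)

/-- A decomposition whose parts have frames refines to a decomposition into lines. -/
theorem frame_refine (hQ : IsNondegenerateQuadraticForm Q) (h2 : (2 : F) ≠ 0) {H : Subgroup (GL ι F)}
    (hfix : FixesQuadForm (matrixSet H) Q) {t m : ℕ} {D : Fin t → Submodule F (ι → F)}
    (hD : IsNondegenerateMDecomposition (B) m D) (hiso : ∀ i j, AreIsometricFor Q (D i) (D j))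
    (hle : H ≤ decompositionStabilizer D) (i₀ : Fin t) {a : F} (ha : a ≠ 0) (v : Fin m → ι → F)
    (hv : ∀ k, v k ∈ D i₀) (hva : ∀ k, Q (v k) = a) (hvo : ∀ k l, k ≠ l → B (v k) (v l) = 0)
    (hall : ∀ w ∈ D i₀, Q w = a → ∃ k, w = v k ∨ w = -v k) :
    ∃ D' : Fin (t * m) → Submodule F (ι → F), IsOrthogonalMDecomposition Q 1 D' ∧
      H ≤ decompositionStabilizer D' := by
  classical
  have hf := isReflexive_polar hQ
  choose e he using hiso i₀
  let w : Fin t → Fin m → ι → F := fun i k => (e i ⟨v k, hv k⟩ : ι → F)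
  have hwD : ∀ i k, w i k ∈ D i := fun i k => (e i ⟨v k, hv k⟩).2
  have hwQ : ∀ i k, Q (w i k) = a := fun i k => (he i _).trans (hva k)
  have hpol : ∀ i (x y : D i₀), B (e i x : ι → F) (e i y : ι → F) = B (x : ι → F) (y : ι → F) := by
    intro i x y
    simp only [QuadraticMap.polar]
    rw [← Submodule.coe_add, ← map_add, he, he, he, Submodule.coe_add]
  have hwall : ∀ i, ∀ x ∈ D i, Q x = a → ∃ k, x = w i k ∨ x = -w i k := by
    intro i x hx hqx
    obtain ⟨y, hy⟩ := (e i).surjective ⟨x, hx⟩
    have hy' : (e i y : ι → F) = x := congrArg Subtype.val hy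
    obtain ⟨k, hk⟩ := hall y.1 y.2 (by rw [← he i y, hy']; exact hqx)
    refine ⟨k, hk.imp (fun hk => ?_) fun hk => ?_⟩
    · rw [← hy', show y = ⟨v k, hv k⟩ from Subtype.ext hk]
    · rw [← hy', show y = -(⟨v k, hv k⟩ : D i₀) from Subtype.ext hk, map_neg, Submodule.coe_neg]
  let ε := (finProdFinEquiv (m := t) (n := m)).symm
  let u : Fin (t * m) → ι → F := fun j => w (ε j).1 (ε j).2
  have huQ : ∀ j, Q (u j) = a := fun j => hwQ _ _
  have huo : ∀ i j, i ≠ j → B (u i) (u j) = 0 := by
    intro i j hij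
    by_cases h1 : (ε i).1 = (ε j).1
    · have h3 : (ε i).2 ≠ (ε j).2 := fun h => hij (ε.injective (Prod.ext h1 h))
      show B (w (ε i).1 (ε i).2) (w (ε j).1 (ε j).2) = 0
      rw [← h1]
      exact (hpol _ _ _).trans (hvo _ _ h3)
    · exact hD.orthogonal _ _ h1 _ (hwD _ _) _ (hwD _ _)
  have hu0 : ∀ j, u j ≠ 0 := fun j h => ha (by rw [← huQ j, h, MaxSub.quad_zero hQ])
  have hli := linearIndependent_of_orth hQ h2 ha huQ huo
  have hn : Fintype.card ι = t * m := by
    have h1 := hD.decomp.iSup_eq_top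
    have key : ∀ S : Finset (Fin t), Module.finrank F (S.sup D : Submodule F (ι → F)) = S.card * m := by
      intro S
      induction S using Finset.induction_on with
      | empty => simp
      | insert b S hb ih =>
        rw [Finset.sup_insert, Finset.card_insert_of_notMem hb, add_mul, one_mul]
        have h3 := Submodule.finrank_sup_add_finrank_inf_eq (D b) (S.sup D)
        rw [disjoint_finset_sup hQ hD hb, finrank_bot, hD.decomp.finrank_eq b, ih] at h3
        omega
    have h4 := key Finset.univ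
    rwa [Finset.sup_univ_eq_iSup, h1, finrank_top, Module.finrank_fintype_fun_eq_card, Finset.card_univ,
      Fintype.card_fin] at h4
  have htm : 2 ≤ t * m := le_trans hD.decomp.two_le (Nat.le_mul_of_pos_right t hD.decomp.pos)
  let D' : Fin (t * m) → Submodule F (ι → F) := fun j => Submodule.span F {u j}
  have hdec : IsMDecomposition 1 D' := by
    refine ⟨htm, one_pos, fun j => finrank_span_singleton (hu0 j), hli.iSupIndep_span_singleton, ?_⟩
    rw [← Submodule.span_range_eq_iSup]
    exact hli.span_eq_top_of_card_eq_finrank' (by rw [Fintype.card_fin, Module.finrank_fintype_fun_eq_card, hn])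
  have hnd : IsNondegenerateMDecomposition (B) 1 D' := by
    refine ⟨hdec, fun j => hf.isNondegenerateOn_iff.2 ?_, fun i j hij x hx y hy => ?_⟩
    · rw [eq_bot_iff]
      rintro x ⟨hx, hx'⟩
      obtain ⟨c, rfl⟩ := Submodule.mem_span_singleton.1 hx
      have h1 := hx' (u j) (Submodule.mem_span_singleton_self _)
      rw [hQ.polar_bilinear.smul_left, MaxSub.polar_self hQ, huQ] at h1
      rw [Submodule.mem_bot, (mul_eq_zero.1 h1).resolve_right (mul_ne_zero h2 ha), zero_smul]
    · obtain ⟨c, rfl⟩ := Submodule.mem_span_singleton.1 hx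
      obtain ⟨d, rfl⟩ := Submodule.mem_span_singleton.1 hy
      rw [hQ.polar_bilinear.smul_left, hQ.polar_bilinear.smul_right, huo i j hij, mul_zero, mul_zero]
  refine ⟨D', ⟨hnd, fun i j => ?_⟩, fun g hg => mem_decompositionStabilizer_of hdec fun j => ?_⟩
  · let E := (LinearEquiv.toSpanNonzeroSingleton F _ (u i) (hu0 i)).symm.trans
      (LinearEquiv.toSpanNonzeroSingleton F _ (u j) (hu0 j))
    refine ⟨E, fun x => ?_⟩
    obtain ⟨c, rfl⟩ := (LinearEquiv.toSpanNonzeroSingleton F _ (u i) (hu0 i)).surjective x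
    show Q (((LinearEquiv.toSpanNonzeroSingleton F _ (u j) (hu0 j))
      ((LinearEquiv.toSpanNonzeroSingleton F _ (u i) (hu0 i)).symm _) : D' j) : ι → F) = _
    rw [LinearEquiv.symm_apply_apply]
    show Q (c • u j) = Q (c • u i)
    rw [hQ.smul, hQ.smul, huQ, huQ]
  · obtain ⟨σ, hσ⟩ := hle hg
    have h1 : mat g *ᵥ u j ∈ D (σ (ε j).1) := by
      rw [← hσ (ε j).1]
      exact ⟨u j, hwD _ _, Matrix.toLin'_apply _ _⟩
    have h3 : Q (mat g *ᵥ u j) = a := (hfix _ (mem_matrixSet hg) _).trans (huQ j)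
    obtain ⟨k, hk⟩ := hwall _ _ h1 h3
    refine ⟨ε.symm (σ (ε j).1, k), fun x hx => ?_⟩
    have hu' : u (ε.symm (σ (ε j).1, k)) = w (σ (ε j).1) k := by simp [u]
    obtain ⟨c, rfl⟩ := Submodule.mem_span_singleton.1 hx
    rw [Matrix.mulVec_smul]
    refine Submodule.smul_mem _ _ (Submodule.mem_span_singleton.2 ?_)
    rcases hk with hk | hk
    · exact ⟨1, by rw [one_smul, hu', hk]⟩
    · exact ⟨-1, by rw [neg_one_smul, hu', hk]⟩

/-- Over three elements a frame of at most three vectors exhausts its value. -/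
theorem frame_all_card_three [Fintype F] (hQ : IsNondegenerateQuadraticForm Q) (hq : Fintype.card F = 3) {m : ℕ}
    (hm : m ≤ 3) {W : Submodule F (ι → F)} (hWd : Module.finrank F W = m) {a : F} (ha : a ≠ 0)
    {v : Fin m → ι → F} (hv : ∀ k, v k ∈ W) (hva : ∀ k, Q (v k) = a)
    (hvo : ∀ k l, k ≠ l → B (v k) (v l) = 0) {w : ι → F} (hw : w ∈ W) (hqw : Q w = a) :
    ∃ k, w = v k ∨ w = -v k := by
  classical
  have h3 := three_eq_zero_of_card_three hq
  have h2 : (2 : F) ≠ 0 := MaxSub.two_ne_zero_of_odd (by rw [hq]; decide)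
  have hli := linearIndependent_of_orth hQ h2 ha hva hvo
  have hspan : Submodule.span F (Set.range v) = W :=
    Submodule.eq_of_le_of_finrank_eq (Submodule.span_le.2 (Set.range_subset_iff.2 hv))
      (by rw [finrank_span_eq_card hli, Fintype.card_fin, hWd])
  rw [← hspan, Submodule.mem_span_range_iff_exists_fun] at hw
  obtain ⟨c, rfl⟩ := hw
  rw [quad_sum_orth hQ _ _ hvo] at hqw
  let S : Finset (Fin m) := Finset.univ.filter fun k => c k ≠ 0
  have hsum : ((S.card : F)) = 1 := by
    have h1 : ∀ k, c k ^ 2 * Q (v k) = if c k ≠ 0 then a else 0 := by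
      intro k
      rw [hva]
      rcases cases_card_three hq (c k) with h | h | h <;> rw [h] <;> simp
    rw [Finset.sum_congr rfl (fun k _ => h1 k), ← Finset.sum_filter, Finset.sum_const, nsmul_eq_mul] at hqw
    exact mul_right_cancel₀ ha (hqw.trans (one_mul a).symm)
  have hS3 : S.card ≤ 3 := (Finset.card_le_univ S).trans (by rw [Fintype.card_fin]; exact hm)
  have hS1 : S.card = 1 := by
    interval_cases h : S.card
    · simp at hsum
    · rfl
    · exact absurd (by push_cast at hsum; linear_combination hsum : (1 : F) = 0) one_ne_zero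
    · exact absurd (by push_cast at hsum; linear_combination h3 - hsum : (1 : F) = 0) one_ne_zero
  obtain ⟨k, hk⟩ := Finset.card_eq_one.1 hS1
  have hzero : ∀ j, j ≠ k → c j = 0 := fun j hj => by
    by_contra h
    have : j ∈ S := Finset.mem_filter.2 ⟨Finset.mem_univ _, h⟩
    rw [hk, Finset.mem_singleton] at this
    exact hj this
  have hk' : c k ≠ 0 := by
    have : k ∈ S := hk ▸ Finset.mem_singleton_self k
    exact (Finset.mem_filter.1 this).2
  refine ⟨k, ?_⟩
  rw [Finset.sum_eq_single k (fun j _ hj => by rw [hzero j hj, zero_smul])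
    (fun h => absurd (Finset.mem_univ k) h)]
  rcases cases_card_three hq (c k) with h | h | h
  · exact absurd h hk'
  · exact Or.inl (by rw [h, one_smul])
  · exact Or.inr (by rw [h, neg_one_smul])

/-- An anisotropic plane over three elements has a frame. -/
theorem exists_frame_minus_plane [Fintype F] (hQ : IsNondegenerateQuadraticForm Q) (hq : Fintype.card F = 3)
    {W : Submodule F (ι → F)} (hW : IsNondegenerateOn (B) W) (hWd : Module.finrank F W = 2)
    (hnp : ¬ IsPlusTypeOn Q W) :
    ∃ (a : F) (v : Fin 2 → ι → F), a ≠ 0 ∧ (∀ k, v k ∈ W) ∧ (∀ k, Q (v k) = a) ∧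
      ∀ k l, k ≠ l → B (v k) (v l) = 0 := by
  have hb := hQ.polar_bilinear
  have hf := isReflexive_polar hQ
  have h2 : (2 : F) ≠ 0 := MaxSub.two_ne_zero_of_odd (by rw [hq]; decide)
  have hns : ∀ x ∈ W, x ≠ 0 → Q x ≠ 0 := fun x hx hx0 hqx => hnp ⟨Submodule.span F {x},
    (Submodule.span_singleton_le_iff_mem x W).2 hx, singular_span_singleton hQ hqx,
    by rw [finrank_span_singleton hx0, hWd]⟩
  obtain ⟨x, hx, hx0⟩ := (Submodule.ne_bot_iff W).1 fun h => by rw [h, finrank_bot] at hWd; omega
  obtain ⟨y, hy, hyx⟩ : ∃ y ∈ W, y ∉ Submodule.span F {x} := by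
    by_contra h
    push Not at h
    have h5 := Submodule.finrank_mono (R := F) (h : W ≤ Submodule.span F {x})
    rw [finrank_span_singleton hx0] at h5
    omega
  set z := y - (B y x / B x x) • x with hz
  have hxx : B x x ≠ 0 := by rw [MaxSub.polar_self hQ]; exact mul_ne_zero h2 (hns x hx hx0)
  have hzW : z ∈ W := W.sub_mem hy (W.smul_mem _ hx)
  have hz0 : z ≠ 0 := fun h => hyx (Submodule.mem_span_singleton.2 ⟨B y x / B x x, (sub_eq_zero.1 h).symm⟩)
  have hzx : B z x = 0 := by rw [hz, hf.sub_left, hb.smul_left, div_mul_cancel₀ _ hxx, sub_self]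
  have hqz : Q z = Q x := by
    have h1 : Q (x + z) ≠ 0 := hns _ (W.add_mem hx hzW) fun h => hyx (Submodule.mem_span_singleton.2
      ⟨B y x / B x x - 1, by rw [hz] at h; linear_combination (norm := module) -h⟩)
    rw [MaxSub.quad_add (Q := Q), MaxSub.polar_symm x z, hzx, add_zero] at h1
    rcases cases_card_three hq (Q x) with h | h | h
    · exact absurd h (hns x hx hx0)
    all_goals
      rcases cases_card_three hq (Q z) with h' | h' | h'
      · exact absurd h' (hns z hzW hz0)
      all_goals first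
        | exact h'.trans h.symm
        | exact absurd (by rw [h, h']; ring) h1
  refine ⟨Q x, ![x, z], hns x hx hx0, ?_, ?_, ?_⟩
  · intro k; fin_cases k
    · exact hx
    · exact hzW
  · intro k; fin_cases k
    · rfl
    · exact hqz
  · intro k l hkl; fin_cases k <;> fin_cases l
    · exact absurd rfl hkl
    · show B x z = 0; rw [MaxSub.polar_symm]; exact hzx
    · exact hzx
    · exact absurd rfl hkl

/-- A three-dimensional space over three elements has a frame. -/
theorem exists_frame_three_space [Fintype F] (hQ : IsNondegenerateQuadraticForm Q) (hq : Fintype.card F = 3)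
    {W : Submodule F (ι → F)} (hW : IsNondegenerateOn (B) W) (hWd : Module.finrank F W = 3) :
    ∃ (a : F) (v : Fin 3 → ι → F), a ≠ 0 ∧ (∀ k, v k ∈ W) ∧ (∀ k, Q (v k) = a) ∧
      ∀ k l, k ≠ l → B (v k) (v l) = 0 := by
  have hb := hQ.polar_bilinear
  have h2 : (2 : F) ≠ 0 := MaxSub.two_ne_zero_of_odd (by rw [hq]; decide)
  have h3 := three_eq_zero_of_card_three hq
  have hnsq : ¬ IsSquare (-1 : F) := by
    rintro ⟨r, hr⟩
    rcases cases_card_three hq r with rfl | rfl | rfl
    · simp at hr
    · exact h2 (by linear_combination (-1 : F) * hr)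
    · exact h2 (by linear_combination (-1 : F) * hr)
  let BW : LinearMap.BilinForm F W := LinearMap.mk₂ F (fun x y : W => B (x : ι → F) (y : ι → F))
    (fun x x' y => hb.add_left _ _ _) (fun c x y => hb.smul_left _ _ _)
    (fun x y y' => hb.add_right _ _ _) (fun c x y => hb.smul_right _ _ _)
  obtain ⟨b, hb0, hb1, hb2⟩ := Forms.exists_diagonal_basis_symm h2 BW
    ⟨fun x y => MaxSub.polar_symm (Q := Q) _ _⟩
    (fun x hx => by
      by_contra hx0
      obtain ⟨-, y, hy, hne⟩ := hW x.1 x.2 (fun h => hx0 (Subtype.ext h))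
      exact hne (hx ⟨y, hy⟩))
    hnsq (n := 2) hWd
  have hQb : ∀ k, Q (b k : ι → F) = -B (b k : ι → F) (b k : ι → F) := fun k => by
    rw [MaxSub.polar_self hQ]; linear_combination (Q (b k : ι → F)) * h3
  have ho : ∀ k l, k ≠ l → B (b k : ι → F) (b l : ι → F) = 0 := hb0
  have h0 : Q (b 0 : ι → F) = -1 := by rw [hQb]; exact congrArg Neg.neg (hb1 0 (by decide))
  have h1 : Q (b 1 : ι → F) = -1 := by rw [hQb]; exact congrArg Neg.neg (hb1 1 (by decide))
  rcases hb2 with e2 | e2
  · refine ⟨-1, fun k => (b k : ι → F), neg_ne_zero.2 one_ne_zero, fun k => (b k).2, fun k => ?_, ho⟩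
    fin_cases k
    · exact h0
    · exact h1
    · show Q (b 2 : ι → F) = -1
      rw [hQb]; exact congrArg Neg.neg e2
  · have h2' : Q (b 2 : ι → F) = 1 := by
      rw [hQb, show B (b 2 : ι → F) (b 2 : ι → F) = -1 from e2, neg_neg]
    refine ⟨1, ![(b 0 : ι → F) + b 1, (b 0 : ι → F) + (-1 : F) • (b 1 : ι → F), b 2], one_ne_zero, ?_, ?_, ?_⟩
    · intro k; fin_cases k
      · exact W.add_mem (b 0).2 (b 1).2
      · exact W.add_mem (b 0).2 (W.smul_mem _ (b 1).2)
      · exact (b 2).2
    · intro k; fin_cases k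
      · show Q ((b 0 : ι → F) + b 1) = 1
        rw [MaxSub.quad_add (Q := Q), h0, h1, ho 0 1 (by decide)]
        linear_combination -h3
      · show Q ((b 0 : ι → F) + (-1 : F) • (b 1 : ι → F)) = 1
        rw [MaxSub.quad_add (Q := Q), hQ.smul, h0, h1,
          hb.smul_right, ho 0 1 (by decide)]
        linear_combination -h3
      · exact h2'
    · have hd : ∀ k, B (b k : ι → F) (b k : ι → F) = 2 * Q (b k : ι → F) := fun k => MaxSub.polar_self hQ _
      intro k l hkl
      fin_cases k <;> fin_cases l <;> first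
        | exact absurd rfl hkl
        | simp [hb.add_left, hb.add_right, hb.smul_left,
            hb.smul_right, (isReflexive_polar hQ).neg_left, (isReflexive_polar hQ).neg_right,
            ho 0 1 (by decide), ho 1 0 (by decide), ho 0 2 (by decide), ho 2 0 (by decide),
            ho 1 2 (by decide), ho 2 1 (by decide), hd, h0, h1, h2']

/-- The coordinates in a hyperbolic plane. -/
theorem exists_hyperbolic_basis (hQ : IsNondegenerateQuadraticForm Q) {W : Submodule F (ι → F)}
    (hW : IsNondegenerateOn (B) W) (hWd : Module.finrank F W = 2) (hp : IsPlusTypeOn Q W) :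
    ∃ e f, e ∈ W ∧ f ∈ W ∧ Q e = 0 ∧ Q f = 0 ∧ B e f = 1 ∧ (∀ x ∈ W, ∃ c d : F, c • e + d • f = x) ∧
      ∀ c d : F, Q (c • e + d • f) = c * d := by
  obtain ⟨U, hUW, hU, hUd⟩ := hp
  obtain ⟨e, he, he0⟩ := (Submodule.ne_bot_iff U).1 fun h => by rw [h, finrank_bot, hWd] at hUd; omega
  have hqe := hU e he
  obtain ⟨f, hf, hqf, hef⟩ := exists_partner hQ hW (hUW he) he0 hqe
  have hb := hQ.polar_bilinear
  have hli : LinearIndependent F ![e, f] := by
    rw [LinearIndependent.pair_iff]
    intro c d hcd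
    have hfr := isReflexive_polar hQ
    have h1 := congrArg (fun z => B z f) hcd
    have h2 := congrArg (fun z => B z e) hcd
    simp only [hb.add_left, hb.smul_left, hef, MaxSub.polar_symm (Q := Q) f e, MaxSub.polar_self hQ, hqe, hqf,
      hfr.zero_left] at h1 h2
    exact ⟨by linear_combination h1, by linear_combination h2⟩
  refine ⟨e, f, hUW he, hf, hqe, hqf, hef, fun x hx => ?_, fun c d => ?_⟩
  · have h1 : Submodule.span F (Set.range ![e, f]) = W := by
      refine Submodule.eq_of_le_of_finrank_eq (Submodule.span_le.2 (Set.range_subset_iff.2 fun i => ?_))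
        (by rw [finrank_span_eq_card hli, Fintype.card_fin, hWd])
      fin_cases i
      · exact hUW he
      · exact hf
    rw [← h1, Submodule.mem_span_range_iff_exists_fun] at hx
    obtain ⟨c, hc⟩ := hx
    exact ⟨c 0, c 1, by simpa [Fin.sum_univ_two] using hc⟩
  · rw [MaxSub.quad_add (Q := Q), hQ.smul, hQ.smul, hb.smul_left, hb.smul_right, hef, hqe, hqf]
    ring

/-- A hyperbolic plane over five elements has a frame. -/
theorem exists_frame_plus_five [Fintype F] (hQ : IsNondegenerateQuadraticForm Q) (hq : Fintype.card F = 5)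
    {W : Submodule F (ι → F)} (hW : IsNondegenerateOn (B) W) (hWd : Module.finrank F W = 2)
    (hp : IsPlusTypeOn Q W) :
    ∃ (a : F) (v : Fin 2 → ι → F), a ≠ 0 ∧ (∀ k, v k ∈ W) ∧ (∀ k, Q (v k) = a) ∧
      (∀ k l, k ≠ l → B (v k) (v l) = 0) ∧ ∀ w ∈ W, Q w = a → ∃ k, w = v k ∨ w = -v k := by
  obtain ⟨e, f, he, hf, hqe, hqf, hef, hspan, hval⟩ := exists_hyperbolic_basis hQ hW hWd hp
  have hb := hQ.polar_bilinear
  have h5 : (5 : F) = 0 := by
    have := FiniteField.cast_card_eq_zero F
    rw [hq] at this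
    exact_mod_cast this
  refine ⟨1, ![(1 : F) • e + (1 : F) • f, (2 : F) • e + (-2 : F) • f], one_ne_zero, ?_, ?_, ?_, ?_⟩
  · intro k; fin_cases k <;> exact W.add_mem (W.smul_mem _ he) (W.smul_mem _ hf)
  · intro k; fin_cases k
    · show Q ((1 : F) • e + (1 : F) • f) = 1
      rw [hval]; ring
    · show Q ((2 : F) • e + (-2 : F) • f) = 1
      rw [hval]; linear_combination (-1 : F) * h5
  · intro k l hkl
    fin_cases k <;> fin_cases l <;> first
      | exact absurd rfl hkl
      | simp [hb.add_left, hb.add_right, hb.smul_left, hb.smul_right, hef, (isReflexive_polar hQ).neg_left,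
          (isReflexive_polar hQ).neg_right, MaxSub.polar_symm (Q := Q) f e, MaxSub.polar_self hQ, hqe, hqf]
  · intro w hw hqw
    obtain ⟨c, d, rfl⟩ := hspan w hw
    rw [hval] at hqw
    have hc0 : c ≠ 0 := left_ne_zero_of_mul (hqw ▸ one_ne_zero)
    have h4 : c ^ 4 = 1 := by
      have := FiniteField.pow_card_sub_one_eq_one c hc0
      rwa [hq] at this
    have hcase : (c = 1 ∨ c = -1) ∨ c = 2 ∨ c = -2 := by
      have h6 : (c - 1) * (c + 1) * ((c - 2) * (c + 2)) = 0 := by linear_combination h4 + (1 - c ^ 2) * h5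
      rcases mul_eq_zero.1 h6 with h | h <;> rcases mul_eq_zero.1 h with h' | h'
      · exact Or.inl (Or.inl (sub_eq_zero.1 h'))
      · exact Or.inl (Or.inr (eq_neg_of_add_eq_zero_left h'))
      · exact Or.inr (Or.inl (sub_eq_zero.1 h'))
      · exact Or.inr (Or.inr (eq_neg_of_add_eq_zero_left h'))
    rcases hcase with (rfl | rfl) | rfl | rfl
    · refine ⟨0, Or.inl ?_⟩
      rw [show d = 1 by linear_combination hqw]; rfl
    · refine ⟨0, Or.inr ?_⟩
      rw [show d = -1 by linear_combination -hqw]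
      show _ = -((1 : F) • e + (1 : F) • f)
      module
    · refine ⟨1, Or.inl ?_⟩
      rw [show d = -2 by linear_combination -2 * hqw + (d + 0) * h5]; rfl
    · refine ⟨1, Or.inr ?_⟩
      rw [show d = 2 by linear_combination 2 * hqw + (d + 0) * h5]
      show _ = -((2 : F) • e + (-2 : F) • f)
      module

/-- Hyperbolic planes over at most three elements are not permuted irreducibly. -/
theorem not_plus_planes_small [Fintype F] (hQ : IsNondegenerateQuadraticForm Q) (hq : Fintype.card F ≤ 3)
    {H : Subgroup (GL ι F)} (hfix : FixesQuadForm (matrixSet H) Q) (hirr : ActsIrreducibly (matrixSet H))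
    {t : ℕ} {D : Fin t → Submodule F (ι → F)} (hD : IsNondegenerateMDecomposition (B) 2 D)
    (hle : H ≤ decompositionStabilizer D) (hp : ∀ i, IsPlusTypeOn Q (D i)) (hn : t < Fintype.card ι) : False := by
  have ht := hD.decomp.two_le
  have hex : ∀ i, ∃ p, p ∈ D i ∧ Q p = 1 ∧ ∀ x ∈ D i, Q x = 1 → x = p ∨ x = -p := by
    intro i
    obtain ⟨e, f, he, hf, -, -, -, hspan, hval⟩ :=
      exists_hyperbolic_basis hQ (hD.nondegenerate i) (hD.decomp.finrank_eq i) (hp i)
    refine ⟨(1 : F) • e + (1 : F) • f, (D i).add_mem ((D i).smul_mem _ he) ((D i).smul_mem _ hf),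
      by rw [hval, one_mul], fun x hx hqx => ?_⟩
    obtain ⟨c, d, rfl⟩ := hspan x hx
    rw [hval] at hqx
    have hc0 : c ≠ 0 := left_ne_zero_of_mul (hqx ▸ one_ne_zero)
    have h1 := FiniteField.pow_card_sub_one_eq_one c hc0
    have h2 : Fintype.card F = 2 ∨ Fintype.card F = 3 := by
      have := Fintype.one_lt_card (α := F); omega
    rcases h2 with h2 | h2 <;> rw [h2] at h1
    · rw [pow_one] at h1
      subst h1
      rw [show d = 1 by linear_combination hqx]
      exact Or.inl rfl
    · rcases mul_self_eq_one_iff.1 ((pow_two c).symm.trans h1) with rfl | rfl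
      · rw [show d = 1 by linear_combination hqx]
        exact Or.inl rfl
      · rw [show d = -1 by linear_combination -hqx]
        refine Or.inr ?_
        module
  choose p hpD hpQ hpu using hex
  set S := Submodule.span F (Set.range p) with hS
  have hinv : H ≤ subspaceStabilizer S := by
    intro g hg
    rw [mem_subspaceStabilizer_iff, ← map_le_iff, hS, Submodule.map_span, Submodule.span_le]
    rintro _ ⟨_, ⟨i, rfl⟩, rfl⟩
    obtain ⟨σ, hσ⟩ := hle hg
    have h1 : mat g *ᵥ p i ∈ D (σ i) := by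
      rw [← hσ i]; exact ⟨p i, hpD i, Matrix.toLin'_apply _ _⟩
    rw [Matrix.toLin'_apply, SetLike.mem_coe]
    rcases hpu _ _ h1 ((hfix _ (mem_matrixSet hg) _).trans (hpQ i)) with h | h <;> rw [h]
    · exact Submodule.subset_span ⟨_, rfl⟩
    · exact Submodule.neg_mem _ (Submodule.subset_span ⟨_, rfl⟩)
  rcases (actsIrreducibly_iff.1 hirr) S hinv with h | h
  · have h1 : p ⟨0, by omega⟩ ∈ S := Submodule.subset_span ⟨_, rfl⟩
    rw [h, Submodule.mem_bot] at h1
    have h2 := hpQ ⟨0, by omega⟩
    rw [h1, MaxSub.quad_zero hQ] at h2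
    exact zero_ne_one h2
  · have h1 : Module.finrank F S ≤ t := (finrank_range_le_card p).trans (by rw [Fintype.card_fin])
    rw [h, finrank_top, Module.finrank_fintype_fun_eq_card] at h1
    omega

end CfsgLib.AschbacherQuad
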