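import Cfsg.Agent.AschbacherForms.Adjoint
import Cfsg.Agent.MaxSub.QuadraticBasic
import Cfsg.Agent.TensorNonmax.Basic

/-!
Quadratic forms given as functions: singular vectors and the long root elements, which are commutators of
isometries and connect all singular vectors.
-/

set_option autoImplicit false
set_option linter.unusedSectionVars false

namespace CfsgLib.AschbacherQuad

open Matrix Cfsg.Geo CfsgLib.Aschbacher CfsgLib.AschbacherForms

variable {ι : Type} [Fintype ι] [DecidableEq ι] {F : Type*} [Field F] {Q : (ι → F) → F}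

local notation "B" => QuadraticMap.polar Q

/-- A quadratic form given as a function, bundled. -/
def quadForm (hQ : IsNondegenerateQuadraticForm Q) : QuadraticForm F (ι → F) :=
  QuadraticMap.ofPolar Q (fun a x => by rw [hQ.smul, smul_eq_mul, sq])
    (fun x x' y => hQ.polar_bilinear.add_left x x' y)
    (fun a x y => by rw [hQ.polar_bilinear.smul_left, smul_eq_mul])

theorem coe_quadForm (hQ : IsNondegenerateQuadraticForm Q) : ⇑(quadForm hQ) = Q := rfl

theorem quadForm_nondegenerate (hQ : IsNondegenerateQuadraticForm Q) :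
    (QuadraticMap.polarBilin (quadForm hQ)).Nondegenerate := by
  constructor
  · intro x hx
    by_contra h0
    obtain ⟨-, y, hy⟩ := hQ.nondegenerate x h0
    exact hy (hx y)
  · intro x hx
    by_contra h0
    obtain ⟨⟨y, hy⟩, -⟩ := hQ.nondegenerate x h0
    exact hy (hx y)

theorem isometry_of_omega {g : GL ι F} (hg : g ∈ omegaGL Q) (v : ι → F) : Q (mat g *ᵥ v) = Q v :=
  TensorNonmax.mem_isometryGroup.1 (TensorNonmax.omegaGL_le Q hg) v

theorem fixes_of_le {H : Subgroup (GL ι F)} (h : H ≤ omegaGL Q) :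
    FixesQuadForm (matrixSet H) Q ∧ FixesForm (matrixSet H) (B) := by
  refine ⟨forall_matrixSet.2 fun g hg v => isometry_of_omega (h hg) v, forall_matrixSet.2 fun g hg u v => ?_⟩
  exact MaxSub.polar_of_isometry (fun x => isometry_of_omega (h hg) x) u v

/-- A quadratic form on a space of dimension at least three over a finite field has a singular vector. -/
theorem exists_singular [Fintype F] (hQ : IsNondegenerateQuadraticForm Q) (K : Submodule F (ι → F))
    (hK : 3 ≤ Module.finrank F K) : ∃ z ∈ K, z ≠ 0 ∧ Q z = 0 := by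
  by_cases hodd : Odd (Fintype.card F)
  · exact MaxSub.exists_singular_mem hQ hodd K hK
  have hchar : ringChar F = 2 := by
    by_contra hc
    exact hodd (Nat.odd_iff.2 (FiniteField.odd_card_of_char_ne_two hc))
  have hf := isReflexive_polar hQ
  obtain ⟨x, hx, hx0⟩ := (Submodule.ne_bot_iff K).1 (fun h => by rw [h, finrank_bot] at hK; omega)
  by_cases hqx : Q x = 0
  · exact ⟨x, hx, hx0, hqx⟩
  have h1 := hf.finrank_perp (Submodule.span F {x})
  rw [finrank_span_singleton hx0] at h1
  have h2 : 2 ≤ Module.finrank F (K ⊓ hf.perp (Submodule.span F {x}) : Submodule F (ι → F)) := by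
    have h3 := Submodule.finrank_sup_add_finrank_inf_eq K (hf.perp (Submodule.span F {x}))
    have h4 := Submodule.finrank_le (K ⊔ hf.perp (Submodule.span F {x}))
    rw [Module.finrank_fintype_fun_eq_card] at h4
    omega
  obtain ⟨y, hy, hyx⟩ : ∃ y ∈ (K ⊓ hf.perp (Submodule.span F {x}) : Submodule F (ι → F)),
      y ∉ Submodule.span F {x} := by
    by_contra h
    push Not at h
    have h5 := Submodule.finrank_mono (R := F)
      (h : (K ⊓ hf.perp (Submodule.span F {x}) : Submodule F (ι → F)) ≤ Submodule.span F {x})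
    rw [finrank_span_singleton hx0] at h5
    omega
  obtain ⟨c, hc⟩ := FiniteField.isSquare_of_char_two hchar (Q y / Q x)
  refine ⟨y + c • x, K.add_mem hy.1 (K.smul_mem _ hx),
    fun h => hyx (Submodule.mem_span_singleton.2 ⟨-c, by rw [neg_smul, ← eq_neg_of_add_eq_zero_left h]⟩), ?_⟩
  have := ringChar.of_eq hchar
  rw [MaxSub.quad_add (Q := Q), hQ.smul, hQ.polar_bilinear.smul_right,
    show B y x = 0 from hy.2 x (Submodule.mem_span_singleton_self x), mul_zero, add_zero, sq, ← hc,
    div_mul_cancel₀ _ hqx, CharTwo.add_self_eq_zero]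

/-- A singular vector in a subspace, outside another. -/
theorem exists_singular_not_mem [Fintype F] (hQ : IsNondegenerateQuadraticForm Q) {K M : Submodule F (ι → F)}
    (h : Module.finrank F M + 3 ≤ Module.finrank F K) : ∃ z ∈ K, z ∉ M ∧ Q z = 0 := by
  obtain ⟨C, hC⟩ := Submodule.exists_isCompl M
  have h1 := Submodule.finrank_sup_add_finrank_inf_eq K C
  have h2 := Submodule.finrank_le (K ⊔ C)
  have h3 := Submodule.finrank_add_eq_of_isCompl hC
  rw [Module.finrank_fintype_fun_eq_card] at h2 h3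
  obtain ⟨z, hz, hz0, hq⟩ := exists_singular hQ (K ⊓ C) (by omega)
  exact ⟨z, hz.1, fun hM => hz0 (Submodule.disjoint_def.1 hC.disjoint z hM hz.2), hq⟩

/-- A vector with prescribed products with two independent vectors. -/
theorem exists_pairing_pair (hQ : IsNondegenerateQuadraticForm Q) {u w : ι → F}
    (hu : u ≠ 0) (hw : ∀ c : F, c • u ≠ w) (a b : F) : ∃ t, B t u = a ∧ B t w = b := by
  have hs := MaxSub.sesqForm_of_quadratic hQ
  obtain ⟨t₁, h1u, h1w⟩ := hs.exists_orth_not_orth hw
  obtain ⟨⟨t₀, h0⟩, -⟩ := hQ.nondegenerate u hu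
  obtain ⟨t₂, h2⟩ : ∃ t, B t u = 1 :=
    ⟨(B t₀ u)⁻¹ • t₀, by rw [hQ.polar_bilinear.smul_left, inv_mul_cancel₀ h0]⟩
  refine ⟨a • t₂ + ((b - a * B t₂ w) / B t₁ w) • t₁, ?_, ?_⟩
  · rw [hQ.polar_bilinear.add_left, hQ.polar_bilinear.smul_left, hQ.polar_bilinear.smul_left, h2, h1u]
    ring
  · have h1w0 : B t₁ w ≠ 0 := by rw [h1w]; exact one_ne_zero
    rw [hQ.polar_bilinear.add_left, hQ.polar_bilinear.smul_left, hQ.polar_bilinear.smul_left,
      div_mul_cancel₀ _ h1w0]
    ring

/-- A pair spanning a totally singular subspace. -/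
structure IsRootPair (Q : (ι → F) → F) (u w : ι → F) : Prop where
  left : Q u = 0
  right : Q w = 0
  orth : QuadraticMap.polar Q w u = 0

theorem IsRootPair.smul_right (hQ : IsNondegenerateQuadraticForm Q) {u w : ι → F} (h : IsRootPair Q u w) (c : F) :
    IsRootPair Q u (c • w) :=
  ⟨h.left, by rw [hQ.smul, h.right, mul_zero], by rw [hQ.polar_bilinear.smul_left, h.orth, mul_zero]⟩

/-- The long root element of a totally singular pair. -/
noncomputable def root (Q : (ι → F) → F) (u w : ι → F) : GL ι F := MaxSub.sieg Q u w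

theorem root_mulVec (hQ : IsNondegenerateQuadraticForm Q) {u w : ι → F} (h : IsRootPair Q u w) (x : ι → F) :
    mat (root Q u w) *ᵥ x = x + B x u • w - B x w • u := by
  rw [show mat (root Q u w) *ᵥ x = _ from MaxSub.sieg_mulVec hQ h.left h.orth x, h.right, zero_mul, add_zero]

theorem root_mem_isometry (hQ : IsNondegenerateQuadraticForm Q) {u w : ι → F} (h : IsRootPair Q u w) :
    root Q u w ∈ Cfsg.isometryGroup F Q :=
  TensorNonmax.mem_isometryGroup.2 fun x => MaxSub.sieg_quad hQ h.left h.orth x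

/-- Long root elements are commutators of isometries. -/
theorem root_mem [Fintype F] (hQ : IsNondegenerateQuadraticForm Q) (hn : 7 ≤ Fintype.card ι) {u w : ι → F}
    (h : IsRootPair Q u w) : root Q u w ∈ omegaGL Q := by
  have hf := isReflexive_polar hQ
  have hb := hQ.polar_bilinear
  have hrev : IsRootPair Q w u := ⟨h.right, h.left, by rw [MaxSub.polar_symm]; exact h.orth⟩
  set S := Submodule.span F (Set.range ![u, w]) with hS
  have hSdim : Module.finrank F S ≤ 2 := (finrank_range_le_card ![u, w]).trans (by simp)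
  have huS : u ∈ S := Submodule.subset_span ⟨0, rfl⟩
  have hwS : w ∈ S := Submodule.subset_span ⟨1, rfl⟩
  have hperp := hf.finrank_perp S
  obtain ⟨z, hz, hzS, hqz⟩ := exists_singular_not_mem hQ (K := hf.perp S) (M := S) (by omega)
  obtain ⟨t, ht, htz⟩ : ∃ t ∈ hf.perp S, B t z = 1 := by
    by_contra hall
    push Not at hall
    have hz' : z ∈ hf.perp (hf.perp S) := by
      intro t ht
      rw [MaxSub.polar_symm]
      by_contra hne
      exact hall ((B t z)⁻¹ • t) ((hf.perp S).smul_mem _ ht) (by rw [hb.smul_left, inv_mul_cancel₀ hne])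
    rw [hf.perp_perp] at hz'
    exact hzS hz'
  have hzu : B z u = 0 := hz u huS
  have hzw : B z w = 0 := hz w hwS
  have htu : B t u = 0 := ht u huS
  have htw : B t w = 0 := ht w hwS
  have hzz : B z z = 0 := by rw [MaxSub.polar_self hQ, hqz, mul_zero]
  set z' := t - Q t • z with hz'
  have hqz' : Q z' = 0 := by
    rw [hz', sub_eq_add_neg, ← neg_smul, MaxSub.quad_add (Q := Q), hQ.smul, hqz, hb.smul_right, htz]
    ring
  have hz'u : B z' u = 0 := by rw [hz', hf.sub_left, hb.smul_left, htu, hzu]; ring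
  have hz'w : B z' w = 0 := by rw [hz', hf.sub_left, hb.smul_left, htw, hzw]; ring
  have hz'z : B z' z = 1 := by rw [hz', hf.sub_left, hb.smul_left, htz, hzz]; ring
  have hp : IsRootPair Q (-u) z := ⟨by rw [← neg_one_smul F u, hQ.smul, h.left, mul_zero], hqz,
    by rw [hf.neg_right, hzu, neg_zero]⟩
  have hp' : IsRootPair Q z' w := ⟨hqz', h.right, by rw [MaxSub.polar_symm]; exact hz'w⟩
  have huu : B u u = 0 := by rw [MaxSub.polar_self hQ, h.left, mul_zero]
  have hww : B w w = 0 := by rw [MaxSub.polar_self hQ, h.right, mul_zero]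
  have key : root Q (-u) z * root Q z' w = root Q u w * root Q z' w * root Q (-u) z := by
    refine MaxSub.gl_ext fun x => ?_
    simp only [Units.val_mul, ← Matrix.mulVec_mulVec]
    rw [show ((root Q z' w : GL ι F) : Matrix ι ι F) *ᵥ x = _ from root_mulVec hQ hp' x,
      show ((root Q (-u) z : GL ι F) : Matrix ι ι F) *ᵥ x = _ from root_mulVec hQ hp x]
    rw [show ((root Q (-u) z : GL ι F) : Matrix ι ι F) *ᵥ (x + B x z' • w - B x w • z') = _ from
        root_mulVec hQ hp _,
      show ((root Q z' w : GL ι F) : Matrix ι ι F) *ᵥ (x + B x (-u) • z - B x z • -u) = _ from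
        root_mulVec hQ hp' _,
      show ((root Q u w : GL ι F) : Matrix ι ι F) *ᵥ _ = _ from root_mulVec hQ h _]
    simp only [hf.sub_left, hb.add_left, hb.smul_left, hf.neg_right, hf.neg_left, hz'u, hz'w, hz'z,
      MaxSub.polar_symm (Q := Q) w z, MaxSub.polar_symm (Q := Q) u z, MaxSub.polar_symm (Q := Q) z z',
      MaxSub.polar_symm (Q := Q) u w, MaxSub.polar_symm (Q := Q) u z', MaxSub.polar_symm (Q := Q) w z',
      hzu, hzw, hzz, huu, hww, h.orth]
    module
  have : root Q u w = root Q (-u) z * root Q z' w * (root Q (-u) z)⁻¹ * (root Q z' w)⁻¹ := by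
    rw [key]; group
  rw [this]
  exact TensorNonmax.commutator_mem_omegaGL (root_mem_isometry hQ hp) (root_mem_isometry hQ hp')

/-- Two orthogonal singular vectors are related by a long root element. -/
theorem exists_root_move (hQ : IsNondegenerateQuadraticForm Q) {s z : ι → F} (hs0 : s ≠ 0) (hs : Q s = 0)
    (hz : Q z = 0) (hsz : B z s = 0) (hind : ∀ c : F, c • s ≠ z) :
    ∃ u w, IsRootPair Q u w ∧ mat (root Q u w) *ᵥ s = z := by
  have hb := hQ.polar_bilinear
  have hf := isReflexive_polar hQ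
  obtain ⟨t, hts, htz⟩ := exists_pairing_pair hQ hs0 hind 1 1
  set u := t - Q t • s with hu
  have hss : B s s = 0 := by rw [MaxSub.polar_self hQ, hs, mul_zero]
  have hqu : Q u = 0 := by
    rw [hu, sub_eq_add_neg, ← neg_smul, MaxSub.quad_add (Q := Q), hQ.smul, hs, hb.smul_right, hts]
    ring
  have hus : B u s = 1 := by rw [hu, hf.sub_left, hb.smul_left, hts, hss]; ring
  have huz : B u z = 1 := by
    rw [hu, hf.sub_left, hb.smul_left, htz, MaxSub.polar_symm s z, hsz]; ring
  have hqw : Q (z - s) = 0 := by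
    rw [sub_eq_add_neg, ← neg_one_smul F s, MaxSub.quad_add (Q := Q), hQ.smul, hs, hz, hb.smul_right, hsz]
    ring
  have hp : IsRootPair Q u (z - s) :=
    ⟨hqu, hqw, by rw [MaxSub.polar_symm, hf.sub_right, huz, hus, sub_self]⟩
  refine ⟨u, z - s, hp, ?_⟩
  rw [root_mulVec hQ hp, MaxSub.polar_symm s u, hus, hf.sub_right, MaxSub.polar_symm s z, hsz, hss, sub_self,
    zero_smul, sub_zero, one_smul, add_sub_cancel]

/-- A set of vectors closed under long root elements containing a non-zero singular vector contains every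
non-zero singular vector. -/
theorem singular_mem_of_invariant [Fintype F] (hQ : IsNondegenerateQuadraticForm Q) (hn : 7 ≤ Fintype.card ι)
    {T : Set (ι → F)} (hT : ∀ u w, IsRootPair Q u w → ∀ x ∈ T, mat (root Q u w) *ᵥ x ∈ T)
    {s : ι → F} (hs : s ∈ T) (hs0 : s ≠ 0) (hqs : Q s = 0) {z : ι → F} (hz0 : z ≠ 0) (hqz : Q z = 0) :
    z ∈ T := by
  have hf := isReflexive_polar hQ
  have step : ∀ a b : ι → F, a ∈ T → a ≠ 0 → Q a = 0 → Q b = 0 → B b a = 0 → (∀ c : F, c • a ≠ b) → b ∈ T := by
    intro a b ha ha0 hqa hqb hab hind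
    obtain ⟨u, w, hp, hm⟩ := exists_root_move hQ ha0 hqa hqb hab hind
    exact hm ▸ hT u w hp a ha
  set S := Submodule.span F (Set.range ![s, z]) with hS
  have hSdim : Module.finrank F S ≤ 2 := (finrank_range_le_card ![s, z]).trans (by simp)
  have hperp := hf.finrank_perp S
  obtain ⟨y, hy, hyS, hqy⟩ := exists_singular_not_mem hQ (K := hf.perp S) (M := S) (by omega)
  have hsS : s ∈ S := Submodule.subset_span ⟨0, rfl⟩
  have hzS : z ∈ S := Submodule.subset_span ⟨1, rfl⟩
  have hy0 : y ≠ 0 := fun h => hyS (h ▸ S.zero_mem)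
  have hyT := step s y hs hs0 hqs hqy (hy s hsS) fun c hc => hyS (hc ▸ S.smul_mem c hsS)
  refine step y z hyT hy0 hqy hqz (by rw [MaxSub.polar_symm]; exact hy z hzS) fun c hc => ?_
  rcases eq_or_ne c 0 with rfl | hc0
  · exact hz0 (by rw [← hc, zero_smul])
  · exact hyS ((S.smul_mem_iff hc0).1 (hc ▸ hzS))

end CfsgLib.AschbacherQuad
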