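import Cfsg.Agent.AschbacherQuad.Witt
import Cfsg.Agent.AschbacherForms.Descent
import Cfsg.Agent.AschbacherForms.UnitaryNormal

/-!
Rational structures of quadratic forms over subfields, and the type forced by a subfield of index two.
-/

set_option autoImplicit false
set_option linter.unusedSectionVars false
set_option linter.style.haveILetI false
set_option maxHeartbeats 800000

namespace CfsgLib.AschbacherQuad

open Matrix Cfsg.Geo CfsgLib.Aschbacher CfsgLib.AschbacherForms Polynomial

variable {ι : Type} [Fintype ι] [DecidableEq ι] {F : Type*} [Field F] {Q : (ι → F) → F}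

local notation "B" => QuadraticMap.polar Q

/-- A rational structure of the polar form is one of the quadratic form when the group is irreducible. -/
theorem quad_rational [Fintype F] (hQ : IsNondegenerateQuadraticForm Q) (hn : 2 ≤ Fintype.card ι)
    {F₁ : Subfield F} {ζ : F} (hζ : ζ ≠ 0) {P : GL ι F} (hrat : IsFormRationalStructure (B) F₁ ζ P)
    {H : Subgroup (GL ι F)} (hfix : FixesQuadForm (matrixSet H) Q) (hirr : ActsIrreducibly (matrixSet H))
    (hle : H ≤ subfieldSubgroup F₁ P) : IsQuadFormRationalStructure (fun v => ζ * Q v) F₁ P := by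
  classical
  have hb := hQ.polar_bilinear
  haveI : Nonempty ι := Fintype.card_pos_iff.1 (by omega)
  by_cases h2 : (2 : F) = 0
  swap
  · intro u hu
    show ζ * Q (mat P *ᵥ u) ∈ F₁
    rw [show ζ * Q (mat P *ᵥ u) = (ζ * B (mat P *ᵥ u) (mat P *ᵥ u)) / 2 by
      rw [MaxSub.polar_self hQ]; field_simp]
    exact F₁.div_mem (hrat u u hu hu) (by simpa using ofNat_mem F₁ 2)
  haveI : CharP F 2 := CharTwo.of_one_ne_zero_of_two_eq_zero one_ne_zero h2
  let q : (ι → F) → F := fun x => ζ * Q (mat P *ᵥ x)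
  have hqadd : ∀ x y : ι → F, q (x + y) = q x + q y + ζ * B (mat P *ᵥ x) (mat P *ᵥ y) := fun x y => by
    simp only [q, Matrix.mulVec_add, MaxSub.quad_add (Q := Q)]; ring
  have hqsmul : ∀ (c : F) (x : ι → F), q (c • x) = c ^ 2 * q x := fun c x => by
    simp only [q, Matrix.mulVec_smul, hQ.smul]; ring
  let U : Set (ι → F) := {x | (∀ i, x i ∈ F₁) ∧ q x ∈ F₁}
  have hUadd : ∀ x ∈ U, ∀ y ∈ U, x + y ∈ U := fun x hx y hy =>
    ⟨fun i => F₁.add_mem (hx.1 i) (hy.1 i), by
      rw [hqadd]; exact F₁.add_mem (F₁.add_mem hx.2 hy.2) (hrat x y hx.1 hy.1)⟩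
  have hUsmul : ∀ c ∈ F₁, ∀ x ∈ U, c • x ∈ U := fun c hc x hx =>
    ⟨fun i => F₁.mul_mem hc (hx.1 i), by rw [hqsmul]; exact F₁.mul_mem (F₁.pow_mem hc 2) hx.2⟩
  have hP : Function.Injective (mat P).mulVec := Matrix.mulVec_injective_iff_isUnit.2 P.isUnit
  have hPsur : Function.Surjective (mat P).mulVec := Matrix.mulVec_surjective_iff_isUnit.2 P.isUnit
  -- the elements of the group are rational
  have hA : ∀ g ∈ H, ∃ A : Matrix ι ι F, (∀ i j, A i j ∈ F₁) ∧
      ∀ x, mat g *ᵥ (mat P *ᵥ x) = mat P *ᵥ (A *ᵥ x) := by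
    intro g hg
    obtain ⟨c, hc0, hc⟩ := exists_smul_of_mem_subfieldSubgroup (hle hg)
    set A := c • (mat P⁻¹ * mat g * mat P) with hAdef
    have hAx : ∀ x, mat P *ᵥ (A *ᵥ x) = c • (mat g *ᵥ (mat P *ᵥ x)) := fun x => by
      rw [hAdef, Matrix.smul_mulVec, Matrix.mulVec_smul, Matrix.mulVec_mulVec, Matrix.mulVec_mulVec, ← mul_assoc,
        ← mul_assoc, mat_mul_inv, one_mul]
    have hrat' : ∀ x : ι → F, (∀ i, x i ∈ F₁) → ∀ i, (A *ᵥ x) i ∈ F₁ := fun x hx i =>
      F₁.sum_mem fun j _ => F₁.mul_mem (hc i j) (hx j)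
    obtain ⟨a, b, hab⟩ : ∃ a b, B (mat P *ᵥ Pi.single a 1) (mat P *ᵥ Pi.single b 1) ≠ 0 := by
      by_contra hall
      push Not at hall
      obtain ⟨a⟩ := ‹Nonempty ι›
      obtain ⟨-, y, hy⟩ := hQ.nondegenerate (mat P *ᵥ Pi.single a 1) fun h => by
        simpa using congrFun (hP (h.trans (Matrix.mulVec_zero _).symm)) a
      obtain ⟨y, rfl⟩ := hPsur y
      refine hy ?_
      show B _ (mat P *ᵥ y) = 0
      rw [pi_eq_sum_univ' y, Matrix.mulVec_sum, (isReflexive_polar hQ).sesq.sum_right]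
      exact Finset.sum_eq_zero fun i _ => by rw [Matrix.mulVec_smul, hb.smul_right, hall, mul_zero]
    have hsing : ∀ (a i : ι), (Pi.single a (1 : F) : ι → F) i ∈ F₁ := fun a i => by
      rw [Pi.single_apply]; split_ifs <;> [exact F₁.one_mem; exact F₁.zero_mem]
    have hc2 : c ^ 2 ∈ F₁ := by
      have h1 := hrat _ _ (hrat' _ (hsing a)) (hrat' _ (hsing b))
      rw [hAx, hAx, hb.smul_left, hb.smul_right,
        MaxSub.polar_of_isometry (fun z => hfix _ (mem_matrixSet hg) z)] at h1
      have h3 := F₁.div_mem h1 (hrat _ _ (hsing a) (hsing b))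
      rwa [show ζ * (c * (c * B (mat P *ᵥ Pi.single a 1) (mat P *ᵥ Pi.single b 1))) /
          (ζ * B (mat P *ᵥ Pi.single a 1) (mat P *ᵥ Pi.single b 1)) = c ^ 2 by field_simp] at h3
    have hcF : c ∈ F₁ := by
      haveI : Fintype F₁ := Fintype.ofFinite _
      haveI : CharP F₁ 2 := Subfield.charP F₁ 2
      obtain ⟨d, hd⟩ := (FiniteField.isSquare_of_char_two (ringChar.eq F₁ 2) (⟨c ^ 2, hc2⟩ : F₁))
      have h4 : c ^ 2 = (d : F) * (d : F) := congrArg Subtype.val hd
      have h5 : (c + (d : F)) ^ 2 = 0 := by linear_combination h4 + ((d : F) * (c + d)) * h2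
      rw [eq_neg_of_add_eq_zero_left (sq_eq_zero_iff.1 h5), CharTwo.neg_eq]
      exact d.2
    refine ⟨c⁻¹ • A, fun i j => ?_, fun x => ?_⟩
    · rw [Matrix.smul_apply, smul_eq_mul]
      exact F₁.mul_mem (F₁.inv_mem hcF) (hc i j)
    · rw [Matrix.smul_mulVec, Matrix.mulVec_smul, hAx, smul_smul, inv_mul_cancel₀ hc0, one_smul]
  let W := Submodule.span F ((fun x => mat P *ᵥ x) '' U)
  have hinv : H ≤ subspaceStabilizer W := by
    intro g hg
    rw [mem_subspaceStabilizer_iff, ← map_le_iff, Submodule.map_span, Submodule.span_le]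
    rintro _ ⟨_, ⟨x, hx, rfl⟩, rfl⟩
    obtain ⟨A, hAF, hAx⟩ := hA g hg
    rw [Matrix.toLin'_apply, hAx]
    refine Submodule.subset_span ⟨_, ⟨fun i => F₁.sum_mem fun j _ => F₁.mul_mem (hAF i j) (hx.1 j), ?_⟩, rfl⟩
    show ζ * Q (mat P *ᵥ (A *ᵥ x)) ∈ F₁
    rw [← hAx, hfix _ (mem_matrixSet hg)]
    exact hx.2
  rcases (actsIrreducibly_iff.1 hirr) W hinv with h | h
  · exfalso
    -- then the group fixes every rational vector, so every line
    have hone : ∀ g ∈ H, ∀ x, mat g *ᵥ x = x := by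
      intro g hg
      obtain ⟨A, hAF, hAx⟩ := hA g hg
      have hcol : ∀ j, A *ᵥ Pi.single j 1 = Pi.single j 1 := by
        intro j
        have hj : ∀ i, (Pi.single j (1 : F) : ι → F) i ∈ F₁ := fun i => by
          rw [Pi.single_apply]; split_ifs <;> [exact F₁.one_mem; exact F₁.zero_mem]
        have hAj : ∀ i, (A *ᵥ Pi.single j 1) i ∈ F₁ := fun i => F₁.sum_mem fun k _ => F₁.mul_mem (hAF i k) (hj k)
        have hU : A *ᵥ Pi.single j 1 + Pi.single j 1 ∈ U := by
          refine ⟨fun i => F₁.add_mem (hAj i) (hj i), ?_⟩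
          rw [hqadd, show q (A *ᵥ Pi.single j 1) = q (Pi.single j 1) by
            simp only [q]; rw [← hAx, hfix _ (mem_matrixSet hg)], CharTwo.add_self_eq_zero, zero_add]
          exact hrat _ _ hAj hj
        have h1 : mat P *ᵥ (A *ᵥ Pi.single j 1 + Pi.single j 1) ∈ W := Submodule.subset_span ⟨_, hU, rfl⟩
        rw [h, Submodule.mem_bot] at h1
        have h3 := hP (h1.trans (Matrix.mulVec_zero _).symm)
        funext i
        have h4 := congrFun h3 i
        rw [Pi.add_apply, Pi.zero_apply] at h4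
        rw [eq_neg_of_add_eq_zero_left h4, CharTwo.neg_eq]
      intro x
      obtain ⟨y, rfl⟩ := hPsur x
      show mat g *ᵥ (mat P *ᵥ y) = mat P *ᵥ y
      rw [hAx, pi_eq_sum_univ' y, Matrix.mulVec_sum]
      simp only [Matrix.mulVec_smul, hcol]
    obtain ⟨a⟩ := ‹Nonempty ι›
    have hL : H ≤ subspaceStabilizer (Submodule.span F {(Pi.single a (1 : F) : ι → F)}) := fun g hg =>
      mem_subspaceStabilizer_iff.2 fun w hw => by rw [hone g hg]; exact hw
    rcases (actsIrreducibly_iff.1 hirr) _ hL with h' | h'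
    · rw [Submodule.span_singleton_eq_bot] at h'
      simpa using congrFun h' a
    · have h1 := congrArg (fun M : Submodule F (ι → F) => Module.finrank F M) h'
      simp only [finrank_top, Module.finrank_fintype_fun_eq_card] at h1
      rw [finrank_span_singleton (fun h0 => by simpa using congrFun h0 a)] at h1
      omega
  intro u hu
  show q u ∈ F₁
  obtain ⟨L, hL, -⟩ := Submodule.exists_dual_map_eq_bot_of_notMem
    (R := F₁) (p := (⊥ : Submodule F₁ F)) (x := (1 : F)) (by simp) inferInstance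
  let θ : F → F := fun d => (L d : F) / (L 1 : F)
  have hθF : ∀ d, θ d ∈ F₁ := fun d => F₁.div_mem (L d).2 (L 1).2
  have hθmul : ∀ c ∈ F₁, ∀ d, θ (c * d) = c * θ d := fun c hc d => by
    have e : (L (c * d) : F) = c * (L d : F) := congrArg Subtype.val (L.map_smul (⟨c, hc⟩ : F₁) d)
    simp only [θ, e, mul_div_assoc]
  have hθid : ∀ c ∈ F₁, θ c = c := fun c hc => by
    have h4 := hθmul c hc 1
    rw [mul_one] at h4
    rw [h4]
    simp only [θ]
    rw [div_self (fun h5 => hL (Subtype.ext h5)), mul_one]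
  have hu' : u ∈ Submodule.span F U := by
    have h1 : mat P *ᵥ u ∈ (Submodule.span F U).map (Matrix.toLin' (mat P)) := by
      rw [Submodule.map_span]
      have h2' : mat P *ᵥ u ∈ W := h ▸ Submodule.mem_top
      exact Submodule.span_mono (Set.image_mono Set.Subset.rfl |>.trans
        (fun y ⟨x, hx, hxy⟩ => ⟨x, hx, by rw [Matrix.toLin'_apply]; exact hxy⟩)) h2'
    obtain ⟨w, hw, hwu⟩ := h1
    rw [Matrix.toLin'_apply] at hwu
    rwa [← hP hwu]
  have key : ∀ d : F, (fun i => θ (d * u i)) ∈ U := by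
    refine Submodule.span_induction (p := fun x _ => ∀ d : F, (fun i => θ (d * x i)) ∈ U) ?_ ?_ ?_ ?_ hu'
    · intro x hx d
      rw [show (fun i => θ (d * x i)) = θ d • x from _root_.funext fun i => by
        rw [Pi.smul_apply, smul_eq_mul, mul_comm d, hθmul _ (hx.1 i), mul_comm]]
      exact hUsmul _ (hθF d) x hx
    · intro d
      rw [show (fun i => θ (d * (0 : ι → F) i)) = 0 from _root_.funext fun i => by simp [θ]]
      exact ⟨fun i => F₁.zero_mem, by simp [q, MaxSub.quad_zero hQ]⟩
    · intro x y _ _ hx hy d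
      rw [show (fun i => θ (d * (x + y) i)) = (fun i => θ (d * x i)) + fun i => θ (d * y i) from _root_.funext fun i => by
        simp [θ, mul_add, add_div]]
      exact hUadd _ (hx d) _ (hy d)
    · intro c x _ hx d
      simpa [mul_assoc] using hx (d * c)
  have h5 := key 1
  rw [show (fun i => θ (1 * u i)) = u from _root_.funext fun i => by rw [one_mul, hθid _ (hu i)]] at h5
  exact h5.2

/-- A quadratic polynomial over a subfield of index two has a root. -/
theorem exists_root_of_index_two [Fintype F] {F₁ : Subfield F} (hcard : Fintype.card F = Nat.card F₁ ^ 2)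
    {b c : F} (hb : b ∈ F₁) (hc : c ∈ F₁) : ∃ t : F, t ^ 2 + b * t + c = 0 := by
  classical
  let b' : F₁ := ⟨b, hb⟩
  let c' : F₁ := ⟨c, hc⟩
  by_cases h : ∃ t : F₁, t ^ 2 + b' * t + c' = 0
  · obtain ⟨t, ht⟩ := h
    exact ⟨t, congrArg Subtype.val ht⟩
  push Not at h
  let p : F₁[X] := X ^ 2 + C b' * X + C c'
  have hp : p.natDegree = 2 := by simp only [p]; compute_degree!
  haveI : Fact (Irreducible p) := ⟨(Polynomial.irreducible_iff_roots_eq_zero_of_degree_le_three (by omega)
    (by omega)).2 (Multiset.eq_zero_of_forall_notMem fun t ht => h t (by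
      have h1 := Polynomial.isRoot_of_mem_roots ht
      simpa [p, Polynomial.IsRoot] using h1))⟩
  haveI : Fintype F₁ := Fintype.ofFinite _
  have hfr : Module.finrank F₁ F = 2 := by
    have h1 := Module.card_eq_pow_finrank (K := F₁) (V := F)
    rw [hcard, Nat.card_eq_fintype_card] at h1
    exact (Nat.pow_right_injective Fintype.one_lt_card h1).symm
  have hK : Module.finrank F₁ (AdjoinRoot p) = 2 := by
    rw [(AdjoinRoot.powerBasis (fun h0 : p = 0 => by rw [h0] at hp; simp at hp)).finrank,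
      AdjoinRoot.powerBasis_dim, hp]
  obtain ⟨φ⟩ := FiniteField.nonempty_algHom_of_finrank_dvd (F := F₁) (K := AdjoinRoot p) (L := F)
    (by rw [hK, hfr])
  refine ⟨φ (AdjoinRoot.root p), ?_⟩
  generalize hτ : φ (AdjoinRoot.root p) = τ
  have h2 : Polynomial.aeval τ p = τ ^ 2 + b * τ + c := by
    simp only [p, map_add, map_mul, map_pow, Polynomial.aeval_X, Polynomial.aeval_C]
    rfl
  rw [← h2, ← hτ, Polynomial.aeval_algHom_apply, AdjoinRoot.aeval_eq, AdjoinRoot.mk_self, map_zero]

/-- A quadratic form rational over a subfield of index two has plus type in even dimension. -/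
theorem plus_of_index_two [Fintype F] (hQ : IsNondegenerateQuadraticForm Q) {m : ℕ} (hm : Fintype.card ι = 2 * m)
    (hm0 : 0 < m) {F₁ : Subfield F} (hcard : Fintype.card F = Nat.card F₁ ^ 2) {ζ : F} (hζ : ζ ≠ 0) {P : GL ι F}
    (hrat : IsQuadFormRationalStructure (fun v => ζ * Q v) F₁ P) : IsPlusTypeOn Q ⊤ := by
  classical
  haveI : Fintype F₁ := Fintype.ofFinite _
  have hb := hQ.polar_bilinear
  have hf := isReflexive_polar hQ
  let ξ : (ι → F₁) → (ι → F) := fun u => mat P *ᵥ fun i => (u i : F)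
  let q : (ι → F₁) → F₁ := fun u => ⟨ζ * Q (ξ u), hrat _ fun i => (u i).2⟩
  have hξadd : ∀ u v, ξ (u + v) = ξ u + ξ v := fun u v => by
    show mat P *ᵥ _ = _
    rw [← Matrix.mulVec_add]
    rfl
  have hξsmul : ∀ (c : F₁) u, ξ (c • u) = (c : F) • ξ u := fun c u => by
    show mat P *ᵥ _ = _
    rw [← Matrix.mulVec_smul]
    rfl
  have hpol : ∀ u v, ((QuadraticMap.polar q u v : F₁) : F) = ζ * B (ξ u) (ξ v) := fun u v => by
    simp only [QuadraticMap.polar, q, AddSubgroupClass.coe_sub, hξadd]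
    ring
  have hq : IsNondegenerateQuadraticForm q := by
    refine ⟨fun c v => Subtype.ext ?_, ⟨?_, ?_, ?_, ?_⟩, ?_⟩
    · push_cast [q, hξsmul, hQ.smul]; ring
    · intro x y v; refine Subtype.ext ?_
      push_cast [hpol, hξadd, hb.add_left]; ring
    · intro c x v; refine Subtype.ext ?_
      push_cast [hpol, hξsmul, hb.smul_left]; ring
    · intro v x y; refine Subtype.ext ?_
      push_cast [hpol, hξadd, hb.add_right]; ring
    · intro c v x; refine Subtype.ext ?_
      push_cast [hpol, hξsmul, hb.smul_right]; ring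
    intro u hu
    have hξ0 : ξ u ≠ 0 := fun h => hu (_root_.funext fun i => Subtype.ext
      (congrFun (Matrix.mulVec_injective_iff_isUnit.2 P.isUnit (h.trans (Matrix.mulVec_zero _).symm)) i))
    obtain ⟨a, ha⟩ : ∃ a, B (mat P *ᵥ Pi.single a 1) (ξ u) ≠ 0 := by
      by_contra hall
      push Not at hall
      obtain ⟨⟨y, hy⟩, -⟩ := hQ.nondegenerate _ hξ0
      obtain ⟨y, rfl⟩ := Matrix.mulVec_surjective_iff_isUnit.2 P.isUnit y
      refine hy ?_
      show B (mat P *ᵥ y) _ = 0
      rw [pi_eq_sum_univ' y, Matrix.mulVec_sum, hf.sesq.sum_left]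
      exact Finset.sum_eq_zero fun i _ => by rw [Matrix.mulVec_smul, hb.smul_left, hall, mul_zero]
    have hsing : ξ (Pi.single a 1) = mat P *ᵥ Pi.single a 1 := by
      show mat P *ᵥ _ = _
      congr 1
      funext i
      simp only [Pi.single_apply]
      split_ifs <;> rfl
    constructor
    · refine ⟨Pi.single a 1, fun h => mul_ne_zero hζ ha ?_⟩
      rw [← hsing, ← hpol, h]; rfl
    · refine ⟨Pi.single a 1, fun h => mul_ne_zero hζ ha ?_⟩
      rw [← hsing, MaxSub.polar_symm (Q := Q), ← hpol, h]; rfl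
  obtain ⟨U, hU, hUd⟩ := exists_singular_subspace hq (m - 1) (by omega)
  have hf₁ := isReflexive_polar hq
  obtain ⟨C, hC⟩ := Submodule.exists_isCompl U
  have hN : 2 ≤ Module.finrank F₁ (hf₁.perp U ⊓ C : Submodule F₁ (ι → F₁)) := by
    have h1 := Submodule.finrank_sup_add_finrank_inf_eq (hf₁.perp U) C
    have h2 := Submodule.finrank_le (hf₁.perp U ⊔ C)
    have h3 := Submodule.finrank_add_eq_of_isCompl hC
    have h4 := hf₁.finrank_perp U
    rw [Module.finrank_fintype_fun_eq_card] at h2 h3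
    omega
  let bN := Module.finBasis F₁ (hf₁.perp U ⊓ C : Submodule F₁ (ι → F₁))
  let bU := Module.finBasis F₁ U
  let w : Fin (Module.finrank F₁ U) ⊕ Fin 2 → ι → F₁ :=
    Sum.elim (fun i => (bU i : ι → F₁)) (fun i => (bN (Fin.castLE hN i) : ι → F₁))
  have hwli : LinearIndependent F₁ w := by
    refine LinearIndependent.sum_type (bU.linearIndependent.map' U.subtype U.ker_subtype)
      ((bN.linearIndependent.map' (Submodule.subtype _) (Submodule.ker_subtype _)).comp _
        (Fin.castLE_injective hN)) (hC.disjoint.mono ?_ ?_)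
    · exact Submodule.span_le.2 (by rintro _ ⟨i, rfl⟩; exact (bU i).2)
    · exact Submodule.span_le.2 (by rintro _ ⟨i, rfl⟩; exact (bN (Fin.castLE hN i)).2.2)
  have hξli : LinearIndependent F fun i => ξ (w i) := by
    refine Fintype.linearIndependent_iff.2 fun a ha i => ?_
    by_contra hai
    obtain ⟨L, hL, -⟩ := Submodule.exists_dual_map_eq_bot_of_notMem
      (R := F₁) (p := (⊥ : Submodule F₁ F)) (x := a i) (by simpa using hai) inferInstance
    refine hL ?_
    have h1 : ∑ j, a j • (fun k => (w j k : F)) = 0 := by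
      refine Matrix.mulVec_injective_iff_isUnit.2 P.isUnit ?_
      rw [Matrix.mulVec_sum, Matrix.mulVec_zero, ← ha]
      exact Finset.sum_congr rfl fun j _ => Matrix.mulVec_smul _ _ _
    refine Fintype.linearIndependent_iff.1 hwli (fun j => L (a j)) ?_ i
    funext k
    rw [Finset.sum_apply, Pi.zero_apply]
    have h2 := congrArg L (congrFun h1 k)
    rw [Pi.zero_apply, map_zero, Finset.sum_apply, map_sum] at h2
    refine Eq.trans (Finset.sum_congr rfl fun j _ => ?_) h2
    show L (a j) * w j k = L (a j * (w j k : F))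
    rw [mul_comm (a j), show ((w j k : F₁) : F) * a j = w j k • a j from rfl, L.map_smul, smul_eq_mul, mul_comm]
  have hq0 : ∀ i, Q (ξ (bU i : ι → F₁)) = 0 := fun i => (mul_eq_zero.1
    (congrArg Subtype.val (hU _ (bU i).2) : ζ * Q (ξ (bU i : ι → F₁)) = 0)).resolve_left hζ
  have horth : ∀ i j, B (ξ (bU i : ι → F₁)) (ξ (bU j : ι → F₁)) = 0 := fun i j => by
    refine (mul_eq_zero.1 ?_).resolve_left hζ
    rw [← hpol, polar_eq_zero_of_singular hU (bU i).2 (bU j).2]; rfl
  have horth' : ∀ i j, B (ξ (w (Sum.inr j))) (ξ (bU i : ι → F₁)) = 0 := fun i j => by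
    refine (mul_eq_zero.1 ?_).resolve_left hζ
    rw [← hpol, show QuadraticMap.polar q (w (Sum.inr j)) (bU i : ι → F₁) = 0 from
      (bN (Fin.castLE hN j)).2.1 _ (bU i).2]
    rfl
  set x := ξ (w (Sum.inr 0)) with hx
  set y := ξ (w (Sum.inr 1)) with hy
  obtain ⟨α, β, hne, hs⟩ : ∃ α β : F, (α ≠ 0 ∨ β ≠ 0) ∧ Q (α • x + β • y) = 0 := by
    by_cases hqx : Q x = 0
    · exact ⟨1, 0, Or.inl one_ne_zero, by rw [one_smul, zero_smul, add_zero, hqx]⟩
    have hX : ζ * Q x ∈ F₁ := hrat _ fun i => (w (Sum.inr 0) i).2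
    have hY : ζ * Q y ∈ F₁ := hrat _ fun i => (w (Sum.inr 1) i).2
    have hXY : ζ * B x y ∈ F₁ := by rw [hx, hy, ← hpol]; exact (QuadraticMap.polar q _ _).2
    obtain ⟨t, ht⟩ := exists_root_of_index_two hcard (b := ζ * B x y / (ζ * Q x)) (c := ζ * Q y / (ζ * Q x))
      (F₁.div_mem hXY hX) (F₁.div_mem hY hX)
    refine ⟨t, 1, Or.inr one_ne_zero, ?_⟩
    rw [MaxSub.quad_add (Q := Q), hQ.smul, one_smul, hb.smul_left]
    field_simp at ht
    linear_combination ht
  let κ := Option (Fin (Module.finrank F₁ U))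
  let v : κ → ι → F := fun o => o.elim (α • x + β • y) fun i => ξ (bU i : ι → F₁)
  have hvli : LinearIndependent F v := by
    refine Fintype.linearIndependent_iff.2 fun c hc => ?_
    rw [Fintype.sum_option] at hc
    have h1 := Fintype.linearIndependent_iff.1 hξli (Sum.elim (fun i => c (some i)) ![c none * α, c none * β]) (by
      rw [Fintype.sum_sum_type, Fin.sum_univ_two]
      simp only [w, Sum.elim_inl, Sum.elim_inr, Matrix.cons_val_zero, Matrix.cons_val_one]
      simp only [v, x, y, w, Option.elim, Sum.elim_inr, smul_add, smul_smul] at hc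
      rw [← hc, add_comm])
    rintro (_ | i)
    · rcases hne with h | h
      · exact (mul_eq_zero.1 (by simpa using h1 (Sum.inr 0))).resolve_right h
      · exact (mul_eq_zero.1 (by simpa using h1 (Sum.inr 1))).resolve_right h
    · simpa using h1 (Sum.inl i)
  refine ⟨Submodule.span F (Set.range v), le_top, ?_, ?_⟩
  · intro z hz
    obtain ⟨c, rfl⟩ := (Submodule.mem_span_range_iff_exists_fun F).1 hz
    have hxy : ∀ i, B (α • x + β • y) (ξ (bU i : ι → F₁)) = 0 := fun i => by
      rw [hb.add_left, hb.smul_left, hb.smul_left, horth', horth', mul_zero, mul_zero, add_zero]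
    rw [quad_sum_orth hQ _ _ (fun a b hab => by
      cases a <;> cases b
      · exact absurd rfl hab
      · exact hxy _
      · exact hf.orth_comm (hxy _)
      · exact horth _ _)]
    exact Finset.sum_eq_zero fun o _ => by
      cases o
      · rw [show v none = α • x + β • y from rfl, hs, mul_zero]
      · rw [show v (some _) = ξ _ from rfl, hq0, mul_zero]
  · rw [finrank_span_eq_card hvli, Fintype.card_option, Fintype.card_fin, hUd, finrank_top,
      Module.finrank_fintype_fun_eq_card, hm]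
    omega

end CfsgLib.AschbacherQuad
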