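import Cfsg.Agent.AschbacherQuad.NotLe
import Cfsg.Agent.OmegaOrbits.Basic

/-!
Totally singular subspaces and the two types: Lagrangians above a singular subspace, their families under `Ω`,
and orthogonal isometric pairs.
-/

set_option autoImplicit false
set_option linter.unusedSectionVars false
set_option linter.style.haveILetI false

namespace CfsgLib.AschbacherQuad

open Matrix Cfsg.Geo CfsgLib.Aschbacher CfsgLib.AschbacherForms

variable {ι : Type} [Fintype ι] [DecidableEq ι] {F : Type*} [Field F] {Q : (ι → F) → F}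

local notation "B" => QuadraticMap.polar Q

theorem areIsometric_refl (W : Submodule F (ι → F)) : AreIsometricFor Q W W :=
  ⟨LinearEquiv.refl F W, fun _ => rfl⟩

theorem areIsometric_symm {W W' : Submodule F (ι → F)} (h : AreIsometricFor Q W W') : AreIsometricFor Q W' W := by
  obtain ⟨e, he⟩ := h
  exact ⟨e.symm, fun w => by rw [← he (e.symm w), LinearEquiv.apply_symm_apply]⟩

theorem areIsometric_trans {W W' W'' : Submodule F (ι → F)} (h : AreIsometricFor Q W W')
    (h' : AreIsometricFor Q W' W'') : AreIsometricFor Q W W'' := by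
  obtain ⟨e, he⟩ := h
  obtain ⟨e', he'⟩ := h'
  exact ⟨e.trans e', fun w => by rw [LinearEquiv.trans_apply, he', he]⟩

theorem isPlusType_of_isometric {W W' : Submodule F (ι → F)} (h : AreIsometricFor Q W W')
    (hW : IsPlusTypeOn Q W) : IsPlusTypeOn Q W' := by
  obtain ⟨e, he⟩ := h
  obtain ⟨U, hU, hs, hd⟩ := hW
  let L : U →ₗ[F] (ι → F) := W'.subtype ∘ₗ e.toLinearMap ∘ₗ Submodule.inclusion hU
  have hinj : Function.Injective L := W'.subtype_injective.comp
    (e.injective.comp (Submodule.inclusion_injective hU))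
  refine ⟨LinearMap.range L, ?_, ?_, ?_⟩
  · rintro _ ⟨u, rfl⟩
    exact (e (Submodule.inclusion hU u)).2
  · rintro _ ⟨u, rfl⟩
    exact (he (Submodule.inclusion hU u)).trans (hs u.1 u.2)
  · rw [LinearMap.finrank_range_of_inj hinj, hd, e.finrank_eq]

/-- An irreducible group makes the members of an invariant decomposition isometric. -/
theorem isometric_of_irreducible {H : Subgroup (GL ι F)} (hfix : FixesQuadForm (matrixSet H) Q)
    (hirr : ActsIrreducibly (matrixSet H)) {t m : ℕ} {D : Fin t → Submodule F (ι → F)} (hD : IsMDecomposition m D)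
    (hle : H ≤ decompositionStabilizer D) (i j : Fin t) : AreIsometricFor Q (D i) (D j) := by
  classical
  let U : Submodule F (ι → F) := ⨆ k, ⨆ (_ : AreIsometricFor Q (D i) (D k)), D k
  have hU : H ≤ subspaceStabilizer U := by
    intro g hg
    rw [mem_subspaceStabilizer_iff, ← map_le_iff, Submodule.map_iSup]
    refine iSup_le fun k => ?_
    rw [Submodule.map_iSup]
    refine iSup_le fun hk => ?_
    obtain ⟨π, hπ⟩ := hle hg
    rw [hπ k]
    refine le_iSup₂_of_le (π k) (areIsometric_trans hk ?_) le_rfl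
    have e := Submodule.equivMapOfInjective _ (map_toLin'_injective g) (D k)
    refine ⟨(Submodule.equivMapOfInjective _ (map_toLin'_injective g) (D k)).trans (LinearEquiv.ofEq _ _ (hπ k)),
      fun w => ?_⟩
    rw [LinearEquiv.trans_apply, LinearEquiv.coe_ofEq_apply, Submodule.coe_equivMapOfInjective_apply,
      Matrix.toLin'_apply]
    exact hfix _ (mem_matrixSet hg) _
  have hne : ∀ k, D k ≠ ⊥ := fun k h => by
    have h4 := hD.finrank_eq k
    rw [h, finrank_bot] at h4
    exact hD.pos.ne h4
  rcases (actsIrreducibly_iff.1 hirr) U hU with h | h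
  · exact absurd (le_bot_iff.1 (h ▸ le_iSup₂_of_le i (areIsometric_refl (D i)) le_rfl)) (hne i)
  · by_contra hj
    refine hne j (le_bot_iff.1 ((hD.indep j) le_rfl (le_trans le_top (h.ge.trans ?_))))
    exact iSup_le fun k => iSup_le fun hk => le_iSup₂_of_le k (fun e => hj (e ▸ hk)) le_rfl

theorem polar_eq_zero_of_singular {U : Submodule F (ι → F)} (hU : IsTotallySingularQuad Q U) {a b : ι → F}
    (ha : a ∈ U) (hb : b ∈ U) : B a b = 0 := by
  simp only [QuadraticMap.polar, hU a ha, hU b hb, hU _ (U.add_mem ha hb)]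
  ring

theorem singular_sup {U U' : Submodule F (ι → F)} (hU : IsTotallySingularQuad Q U)
    (hU' : IsTotallySingularQuad Q U') (h : AreOrthogonalFor (B) U U') : IsTotallySingularQuad Q (U ⊔ U') := by
  intro x hx
  obtain ⟨a, ha, b, hb, rfl⟩ := Submodule.mem_sup.1 hx
  rw [MaxSub.quad_add (Q := Q), hU a ha, hU' b hb, h a ha b hb, add_zero, add_zero]

theorem singular_span_singleton (hQ : IsNondegenerateQuadraticForm Q) {v : ι → F} (hv : Q v = 0) :
    IsTotallySingularQuad Q (Submodule.span F {v}) := by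
  intro x hx
  obtain ⟨c, rfl⟩ := Submodule.mem_span_singleton.1 hx
  rw [hQ.smul, hv, mul_zero]

/-- Totally singular subspaces of every dimension below half. -/
theorem exists_singular_subspace [Fintype F] (hQ : IsNondegenerateQuadraticForm Q) :
    ∀ k : ℕ, 2 * k + 1 ≤ Fintype.card ι →
      ∃ U : Submodule F (ι → F), IsTotallySingularQuad Q U ∧ Module.finrank F U = k := by
  have hf := isReflexive_polar hQ
  intro k
  induction k with
  | zero => exact fun _ => ⟨⊥, fun x hx => by rw [(Submodule.mem_bot F).1 hx]; exact MaxSub.quad_zero hQ, finrank_bot _ _⟩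
  | succ k ih =>
    intro hk
    obtain ⟨U, hU, hd⟩ := ih (by omega)
    have h1 := hf.finrank_perp U
    obtain ⟨z, hz, hzU, hqz⟩ := exists_singular_not_mem hQ (K := hf.perp U) (M := U) (by omega)
    refine ⟨U ⊔ Submodule.span F {z}, singular_sup hU (singular_span_singleton hQ hqz) ?_, ?_⟩
    · intro a ha b hb
      obtain ⟨c, rfl⟩ := Submodule.mem_span_singleton.1 hb
      rw [hQ.polar_bilinear.smul_right, MaxSub.polar_symm a z, hz a ha, mul_zero]
    · have h2 := Submodule.finrank_sup_add_finrank_inf_eq U (Submodule.span F {z})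
      rw [disjoint_iff.1 (Submodule.disjoint_span_singleton_of_notMem hzU), finrank_bot,
        finrank_span_singleton (fun h => hzU (by rw [h]; exact U.zero_mem)), hd] at h2
      omega

/-- A Lagrangian above a totally singular subspace. -/
theorem exists_lagrangian_above (hQ : IsNondegenerateQuadraticForm Q) {m : ℕ} (hm : Fintype.card ι = 2 * m)
    {L₀ : Submodule F (ι → F)} (hL₀ : IsTotallySingularQuad Q L₀) (hd₀ : Module.finrank F L₀ = m)
    {U : Submodule F (ι → F)} (hU : IsTotallySingularQuad Q U) :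
    ∃ L, U ≤ L ∧ IsTotallySingularQuad Q L ∧ Module.finrank F L = m := by
  have hf := isReflexive_polar hQ
  have hperp : hf.perp L₀ = L₀ := by
    have h1 := hf.finrank_perp L₀
    exact (Submodule.eq_of_le_of_finrank_le (S₁ := L₀) (S₂ := hf.perp L₀) (fun x hx w hw => polar_eq_zero_of_singular hL₀ hx hw) (by omega)).symm
  have hinf : L₀ ⊓ hf.perp U = hf.perp (L₀ ⊔ U) := by
    ext x
    constructor
    · rintro ⟨h1, h2⟩ w hw
      obtain ⟨a, ha, b, hb, rfl⟩ := Submodule.mem_sup.1 hw
      rw [hQ.polar_bilinear.add_right, polar_eq_zero_of_singular hL₀ h1 ha, h2 b hb, add_zero]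
    · exact fun hx => ⟨hperp ▸ fun w hw => hx w (Submodule.mem_sup_left hw), fun w hw => hx w (Submodule.mem_sup_right hw)⟩
  refine ⟨(L₀ ⊓ hf.perp U) ⊔ U, le_sup_right,
    singular_sup (fun x hx => hL₀ x hx.1) hU (fun a ha b hb => ha.2 b hb), ?_⟩
  have h1 := Submodule.finrank_sup_add_finrank_inf_eq (L₀ ⊓ hf.perp U) U
  have h2 : (L₀ ⊓ hf.perp U) ⊓ U = L₀ ⊓ U :=
    le_antisymm (fun x hx => ⟨hx.1.1, hx.2⟩)
      (fun x hx => ⟨⟨hx.1, fun w hw => polar_eq_zero_of_singular hU hx.2 hw⟩, hx.2⟩)
  have h3 := hf.finrank_perp (L₀ ⊔ U)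
  have h4 := Submodule.finrank_sup_add_finrank_inf_eq L₀ U
  rw [h2, hinf] at h1
  rw [hinf]
  omega

/-- `Ω` preserves both families of Lagrangians. -/
theorem even_finrank_inf_omega [Fintype F] (hQ : IsNondegenerateQuadraticForm Q) {m : ℕ} (hm : Fintype.card ι = 2 * m)
    (h3 : 3 ≤ m) {g : GL ι F} (hg : g ∈ omegaGL Q) {W U : Submodule F (ι → F)}
    (hW : IsTotallySingularQuad Q W) (hWd : Module.finrank F W = m)
    (hU : IsTotallySingularQuad Q U) (hUd : Module.finrank F U = m) :
    Even (Module.finrank F (W ⊓ U.map (Matrix.toLin' (mat g)) : Submodule F (ι → F)) +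
      Module.finrank F (W ⊓ U : Submodule F (ι → F))) := by
  obtain ⟨k, hk, rfl⟩ := hg
  have hQ' := quadForm_nondegenerate hQ
  have hexc : Nat.card F ≠ 2 ∨ Fintype.card ι ≠ 4 := Or.inr (by omega)
  obtain ⟨vs, hvs⟩ := Forms.exists_isReflProd_finite (Q := quadForm hQ) hQ' hexc k
  have heven := ((OmegaOrbits.mem_omega_iff_even hQ' hexc hvs).1 hk).1
  have h1 := OmegaOrbits.even_finrank_inf_gmap hQ' hm hWd hW hUd hU vs k hvs
  rw [Nat.even_add] at h1
  exact h1.2 heven

/-- The stabiliser in `Ω` of a totally singular subspace of codimension one in a Lagrangian fixes that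
Lagrangian. -/
theorem stabilizer_le_lagrangian [Fintype F] (hQ : IsNondegenerateQuadraticForm Q) {m : ℕ}
    (hm : Fintype.card ι = 2 * m) (h3 : 3 ≤ m) {U L : Submodule F (ι → F)} (hUL : U ≤ L)
    (hL : IsTotallySingularQuad Q L) (hLd : Module.finrank F L = m) (hUd : Module.finrank F U + 1 = m)
    {g : GL ι F} (hg : g ∈ omegaGL Q) (hgU : g ∈ subspaceStabilizer U) : g ∈ subspaceStabilizer L := by
  have h1 := even_finrank_inf_omega hQ hm h3 hg hL hLd hL hLd
  rw [inf_idem, hLd] at h1
  have h2 : U ≤ L ⊓ L.map (Matrix.toLin' (mat g)) := le_inf hUL (by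
    intro x hx
    refine ⟨mat g⁻¹ *ᵥ x, hUL (mem_subspaceStabilizer_iff.1 (Subgroup.inv_mem _ hgU) x hx), ?_⟩
    rw [Matrix.toLin'_apply, mulVec_inv_mulVec])
  have h4 := Submodule.finrank_mono h2
  have h5 := Submodule.finrank_mono (inf_le_left : L ⊓ L.map (Matrix.toLin' (mat g)) ≤ L)
  have h6 : L ⊓ L.map (Matrix.toLin' (mat g)) = L := by
    refine Submodule.eq_of_le_of_finrank_le inf_le_left ?_
    obtain ⟨r, hr⟩ := h1
    omega
  refine mem_subspaceStabilizer_iff.2 fun x hx => ?_
  have h7 : L.map (Matrix.toLin' (mat g)) = L :=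
    (Submodule.eq_of_le_of_finrank_eq (inf_eq_left.1 h6) (finrank_map_gl g L).symm).symm
  exact h7 ▸ ⟨x, hx, Matrix.toLin'_apply _ _⟩

/-- A finite sum of orthogonal vectors. -/
theorem quad_sum_orth (hQ : IsNondegenerateQuadraticForm Q) {κ : Type*} [DecidableEq κ] (s : Finset κ)
    (y : κ → ι → F) (h : ∀ i j, i ≠ j → B (y i) (y j) = 0) (c : κ → F) :
    Q (∑ i ∈ s, c i • y i) = ∑ i ∈ s, c i ^ 2 * Q (y i) := by
  have hf := isReflexive_polar hQ
  induction s using Finset.induction_on with
  | empty => simpa using MaxSub.quad_zero hQ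
  | insert a s ha ih =>
    have hz : ∑ i ∈ s, B (c a • y a) (c i • y i) = 0 := Finset.sum_eq_zero fun i hi => by
      rw [hQ.polar_bilinear.smul_left, hQ.polar_bilinear.smul_right, h a i (fun e => ha (e ▸ hi))]
      ring
    rw [Finset.sum_insert ha, Finset.sum_insert ha, MaxSub.quad_add (Q := Q), hQ.smul, ih, hf.sesq.sum_right, hz,
      add_zero]

/-- An even-dimensional non-degenerate subspace has a similitude with multiplier `-1`. -/
theorem exists_neg_similitude [Fintype F] (hQ : IsNondegenerateQuadraticForm Q) {W : Submodule F (ι → F)}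
    (hW : IsNondegenerateOn (B) W) (he : Even (Module.finrank F W)) :
    ∃ ψ : W ≃ₗ[F] W, ∀ x : W, Q (ψ x : ι → F) = -Q (x : ι → F) := by
  classical
  by_cases h2 : (2 : F) = 0
  · refine ⟨LinearEquiv.refl F W, fun x => ?_⟩
    show Q (x : ι → F) = _
    linear_combination (Q (x : ι → F)) * h2
  obtain ⟨k, hk⟩ := he
  rcases Nat.eq_zero_or_pos k with rfl | hk0
  · haveI : Subsingleton W := Module.finrank_zero_iff.1 (by omega : Module.finrank F W = 0)
    refine ⟨LinearEquiv.refl F W, fun x => ?_⟩
    rw [Subsingleton.elim x 0]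
    simp [MaxSub.quad_zero hQ]
  have hb := hQ.polar_bilinear
  let BW : LinearMap.BilinForm F W := LinearMap.mk₂ F (fun x y : W => B (x : ι → F) (y : ι → F))
    (fun x x' y => hb.add_left _ _ _) (fun c x y => hb.smul_left _ _ _)
    (fun x y y' => hb.add_right _ _ _) (fun c x y => hb.smul_right _ _ _)
  have hsep : ∀ x : W, (∀ y, BW x y = 0) → x = 0 := by
    intro x hx
    by_contra hx0
    obtain ⟨-, y, hy, hne⟩ := hW x.1 x.2 (fun h => hx0 (Subtype.ext h))
    exact hne (hx ⟨y, hy⟩)
  obtain ⟨α, hα⟩ := FiniteField.exists_nonsquare (F := F) (fun h => h2 (by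
    haveI := ringChar.eq_iff.1 h
    exact CharTwo.two_eq_zero))
  obtain ⟨n, hn⟩ : ∃ n, Module.finrank F W = n + 1 := ⟨Module.finrank F W - 1, by omega⟩
  obtain ⟨b₀, hb0, hb1, hb2⟩ := Forms.exists_diagonal_basis_symm h2 BW
    ⟨fun x y => MaxSub.polar_symm (Q := Q) _ _⟩ hsep hα hn
  let b : Module.Basis (Fin k × Fin 2) F W :=
    b₀.reindex ((finCongr (by omega : n + 1 = k * 2)).trans finProdFinEquiv.symm)
  let a : Fin k × Fin 2 → F := fun i => Q (b i : ι → F)
  have horth : ∀ i j, i ≠ j → B (b i : ι → F) (b j : ι → F) = 0 := fun i j hij => by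
    simp only [b, Module.Basis.reindex_apply]
    exact hb0 _ _ fun h => hij (((finCongr (by omega : n + 1 = k * 2)).trans finProdFinEquiv.symm).symm.injective h)
  have ha : ∀ i, a i ≠ 0 := by
    intro i hi
    refine b.ne_zero i (hsep _ fun y => ?_)
    conv_lhs => rw [← b.sum_repr y, map_sum]
    refine Finset.sum_eq_zero fun j _ => ?_
    rw [map_smul, smul_eq_mul]
    rcases eq_or_ne i j with rfl | hij
    · show _ * B (b i : ι → F) (b i : ι → F) = 0
      rw [MaxSub.polar_self hQ, show Q (b i : ι → F) = 0 from hi, mul_zero, mul_zero]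
    · show _ * B (b i : ι → F) (b j : ι → F) = 0
      rw [horth i j hij, mul_zero]
  have hxy : ∀ r : Fin k, ∃ x y : F, a (r, 0) * x ^ 2 + a (r, 1) * y ^ 2 = -a (r, 0) := fun r =>
    MaxSub.exists_sq_add_sq (Nat.odd_iff.2 (FiniteField.odd_card_of_char_ne_two fun h => h2 (by
      haveI := ringChar.eq_iff.1 h
      exact CharTwo.two_eq_zero))) (ha _) (ha _) _
  choose x y hxy using hxy
  let z : Fin k × Fin 2 → W := fun i => if i.2 = 0 then x i.1 • b (i.1, 0) + y i.1 • b (i.1, 1)
    else (-(a (i.1, 1) * y i.1) / a (i.1, 0)) • b (i.1, 0) + x i.1 • b (i.1, 1)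
  have hz : ∀ i j, i ≠ j → B (z i : ι → F) (z j : ι → F) = 0 := by
    rintro ⟨r, p⟩ ⟨s, p'⟩ hne
    rcases eq_or_ne r s with rfl | hrs
    · have h01 := horth (r, 0) (r, 1) (by simp)
      have h10 := horth (r, 1) (r, 0) (by simp)
      have h00 : B (b (r, 0) : ι → F) (b (r, 0) : ι → F) = 2 * a (r, 0) := MaxSub.polar_self hQ _
      have h11 : B (b (r, 1) : ι → F) (b (r, 1) : ι → F) = 2 * a (r, 1) := MaxSub.polar_self hQ _
      fin_cases p <;> fin_cases p' <;> first
        | exact absurd rfl hne
        | (simp only [z, Fin.zero_eta, Fin.mk_one, if_pos, one_ne_zero, reduceIte, Submodule.coe_add,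
            Submodule.coe_smul, hb.add_left, hb.add_right, hb.smul_left, hb.smul_right, h01, h10, h00, h11]
           field_simp [ha (r, 0)]
           ring)
    · have h4 : ∀ p p' : Fin 2, B (b (r, p) : ι → F) (b (s, p') : ι → F) = 0 := fun p p' =>
        horth _ _ (by simp [hrs])
      simp only [z]
      split_ifs <;>
        simp [hb.add_left, hb.add_right, hb.smul_left, hb.smul_right, h4]
  have hzQ : ∀ i, Q (z i : ι → F) = -a i := by
    rintro ⟨r, p⟩
    have h01 := horth (r, 0) (r, 1) (by simp)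
    have h := hxy r
    fin_cases p
    · simp only [z, Fin.zero_eta, reduceIte, Submodule.coe_add, Submodule.coe_smul]
      rw [MaxSub.quad_add (Q := Q), hQ.smul, hQ.smul, hb.smul_left, hb.smul_right, h01]
      show _ + _ * a (r, 1) + _ = _
      show x r ^ 2 * a (r, 0) + y r ^ 2 * a (r, 1) + _ = _
      linear_combination h
    · simp only [z, Fin.mk_one, one_ne_zero, reduceIte, Submodule.coe_add, Submodule.coe_smul]
      rw [MaxSub.quad_add (Q := Q), hQ.smul, hQ.smul, hb.smul_left, hb.smul_right, h01]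
      show (-(a (r, 1) * y r) / a (r, 0)) ^ 2 * a (r, 0) + x r ^ 2 * a (r, 1) + _ = _
      field_simp [ha (r, 0)]
      linear_combination (a (r, 1)) * h
  let ψ : W →ₗ[F] W := b.constr F z
  have hψ : ∀ w : W, Q (ψ w : ι → F) = -Q (w : ι → F) := by
    intro w
    have h1 : (ψ w : ι → F) = ∑ i, b.repr w i • (z i : ι → F) := by
      simp [ψ, Module.Basis.constr_apply_fintype, Module.Basis.equivFun_apply]
    have h2' : (w : ι → F) = ∑ i, b.repr w i • (b i : ι → F) := by
      have h := congrArg W.subtype (b.sum_repr w)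
      simp only [map_sum, map_smul, Submodule.subtype_apply] at h
      exact h.symm
    rw [h1, h2', quad_sum_orth hQ _ _ hz, quad_sum_orth hQ _ _ horth, ← Finset.sum_neg_distrib]
    exact Finset.sum_congr rfl fun i _ => by rw [hzQ]; ring
  have hinj : Function.Injective ψ := by
    rw [injective_iff_map_eq_zero]
    intro w hw
    refine hsep w fun y => ?_
    have h1 : ∀ u v : W, B (ψ u : ι → F) (ψ v : ι → F) = -B (u : ι → F) (v : ι → F) := by
      intro u v
      simp only [QuadraticMap.polar]
      rw [← Submodule.coe_add, ← map_add, hψ, hψ, hψ, Submodule.coe_add]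
      ring
    show B (w : ι → F) (y : ι → F) = 0
    have h3 := h1 w y
    rw [hw] at h3
    rw [Submodule.coe_zero, (isReflexive_polar hQ).zero_left] at h3
    linear_combination h3
  exact ⟨LinearEquiv.ofBijective ψ ⟨hinj, LinearMap.injective_iff_surjective.1 hinj⟩, hψ⟩

theorem disjoint_of_orth {W W' : Submodule F (ι → F)} (hW : IsNondegenerateOn (B) W)
    (horth : AreOrthogonalFor (B) W W') {x : ι → F} (hx : x ∈ W) (hx' : x ∈ W') : x = 0 := by
  by_contra h0
  obtain ⟨⟨y, hy, hne⟩, -⟩ := hW x hx h0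
  exact hne (horth y hy x hx')

/-- Two orthogonal isometric subspaces of even dimension contain a totally singular subspace of that
dimension. -/
theorem exists_singular_of_isometric [Fintype F] (hQ : IsNondegenerateQuadraticForm Q)
    {W W' : Submodule F (ι → F)} (hW : IsNondegenerateOn (B) W) (he : Even (Module.finrank F W))
    (horth : AreOrthogonalFor (B) W W') (hiso : AreIsometricFor Q W W') :
    ∃ U, U ≤ W ⊔ W' ∧ IsTotallySingularQuad Q U ∧ Module.finrank F U = Module.finrank F W := by
  obtain ⟨e, hiso⟩ := hiso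
  obtain ⟨ψ, hψ⟩ := exists_neg_similitude hQ hW he
  let L : W →ₗ[F] (ι → F) := W.subtype ∘ₗ ψ.toLinearMap + W'.subtype ∘ₗ e.toLinearMap
  have hinj : Function.Injective L := by
    rw [injective_iff_map_eq_zero]
    intro x hx
    have h1 : (ψ x : ι → F) + (e x : ι → F) = 0 := hx
    have h2 := disjoint_of_orth hW horth (ψ x).2 (by
      rw [eq_neg_of_add_eq_zero_left h1]; exact W'.neg_mem (e x).2)
    exact ψ.map_eq_zero_iff.1 (Subtype.ext h2)
  refine ⟨LinearMap.range L, ?_, ?_, LinearMap.finrank_range_of_inj hinj⟩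
  · rintro _ ⟨x, rfl⟩
    exact Submodule.add_mem_sup (ψ x).2 (e x).2
  · rintro _ ⟨x, rfl⟩
    show Q ((ψ x : ι → F) + (e x : ι → F)) = 0
    rw [MaxSub.quad_add (Q := Q), hψ, hiso, horth _ (ψ x).2 _ (e x).2]
    ring

theorem exists_le_finrank {T : Submodule F (ι → F)} {k : ℕ} (hk : k ≤ Module.finrank F T) :
    ∃ T', T' ≤ T ∧ Module.finrank F T' = k := by
  let b := Module.finBasis F T
  let v : Fin k → ι → F := fun i => (b (Fin.castLE hk i) : ι → F)
  refine ⟨Submodule.span F (Set.range v), Submodule.span_le.2 ?_, ?_⟩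
  · rintro _ ⟨i, rfl⟩
    exact (b (Fin.castLE hk i)).2
  · rw [show v = (⇑T.subtype ∘ ⇑b) ∘ Fin.castLE hk from rfl,
      finrank_span_eq_card ((b.linearIndependent.map' T.subtype T.ker_subtype).comp _ (Fin.castLE_injective hk)),
      Fintype.card_fin]

/-- Orthogonal subspaces of equal even dimension containing a totally singular subspace of that dimension are
isometric. -/
theorem isometric_of_singular [Fintype F] (hQ : IsNondegenerateQuadraticForm Q) :
    ∀ (k : ℕ) (W W' T : Submodule F (ι → F)), Module.finrank F W = 2 * k → Module.finrank F W' = 2 * k →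
      IsNondegenerateOn (B) W → IsNondegenerateOn (B) W' → AreOrthogonalFor (B) W W' →
      T ≤ W ⊔ W' → IsTotallySingularQuad Q T → Module.finrank F T = 2 * k → AreIsometricFor Q W W' := by
  intro k
  induction k with
  | zero =>
    intro W W' T hW hW' _ _ _ _ _ _
    haveI : Subsingleton W := Module.finrank_zero_iff.1 (by omega)
    refine ⟨LinearEquiv.ofFinrankEq W W' (by omega), fun w => ?_⟩
    rw [Subsingleton.elim w 0, map_zero]
    simp [MaxSub.quad_zero hQ]
  | succ k ih =>
    intro W W' T hWd hW'd hWn hW'n horth hT hTs hTd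
    have hb := hQ.polar_bilinear
    have hf := isReflexive_polar hQ
    have horth' : AreOrthogonalFor (B) W' W := fun u hu v hv => hf.orth_comm (horth v hv u hu)
    have hdis : ∀ x ∈ W, x ∈ W' → x = 0 := fun x hx hx' => disjoint_of_orth hWn horth hx hx'
    by_cases hA : T ⊓ W = ⊥ ∧ T ⊓ W' = ⊥
    · obtain ⟨ψ, hψ⟩ := exists_neg_similitude hQ hWn ⟨k + 1, by omega⟩
      have hdec : ∀ t : T, ∃ p : W × W', (p.1 : ι → F) + (p.2 : ι → F) = t := fun t => by
        obtain ⟨a, ha, b, hb', hab⟩ := Submodule.mem_sup.1 (hT t.2)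
        exact ⟨(⟨a, ha⟩, ⟨b, hb'⟩), hab⟩
      choose p hp using hdec
      have huniq : ∀ (a a' : W) (b b' : W'), (a : ι → F) + b = a' + b' → a = a' ∧ b = b' := by
        intro a a' b b' h
        have h1 : ((a - a' : W) : ι → F) = ((b' - b : W') : ι → F) := by
          push_cast
          linear_combination h
        have h2 := hdis _ (a - a').2 (h1 ▸ (b' - b).2)
        have h3 : a = a' := sub_eq_zero.1 (Subtype.ext h2)
        refine ⟨h3, (sub_eq_zero.1 (Subtype.ext (h1.symm.trans h2))).symm⟩
      let pl : T →ₗ[F] W :=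
        { toFun := fun t => (p t).1
          map_add' := fun s t => (huniq _ ((p s).1 + (p t).1) _ ((p s).2 + (p t).2) (by
            rw [hp]; push_cast; rw [← hp s, ← hp t]; abel)).1
          map_smul' := fun c t => (huniq _ (c • (p t).1) _ (c • (p t).2) (by
            rw [hp]; push_cast; rw [← hp t, smul_add])).1 }
      let pr : T →ₗ[F] W' :=
        { toFun := fun t => (p t).2
          map_add' := fun s t => (huniq _ ((p s).1 + (p t).1) _ ((p s).2 + (p t).2) (by
            rw [hp]; push_cast; rw [← hp s, ← hp t]; abel)).2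
          map_smul' := fun c t => (huniq _ (c • (p t).1) _ (c • (p t).2) (by
            rw [hp]; push_cast; rw [← hp t, smul_add])).2 }
      have hli : Function.Injective pl := by
        rw [injective_iff_map_eq_zero]
        intro t ht
        have h1 := hp t
        rw [show (p t).1 = 0 from ht, Submodule.coe_zero, zero_add] at h1
        exact Subtype.ext ((Submodule.mem_bot F).1 (hA.2 ▸ (⟨t.2, h1 ▸ (p t).2.2⟩ : (t : ι → F) ∈ T ⊓ W')))
      have hri : Function.Injective pr := by
        rw [injective_iff_map_eq_zero]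
        intro t ht
        have h1 := hp t
        rw [show (p t).2 = 0 from ht, Submodule.coe_zero, add_zero] at h1
        exact Subtype.ext ((Submodule.mem_bot F).1 (hA.1 ▸ (⟨t.2, h1 ▸ (p t).1.2⟩ : (t : ι → F) ∈ T ⊓ W)))
      let el := LinearEquiv.ofBijective pl ⟨hli, (LinearMap.injective_iff_surjective_of_finrank_eq_finrank (by omega)).1 hli⟩
      let er := LinearEquiv.ofBijective pr ⟨hri, (LinearMap.injective_iff_surjective_of_finrank_eq_finrank (by omega)).1 hri⟩
      refine ⟨(ψ.trans el.symm).trans er, fun w => ?_⟩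
      set t := el.symm (ψ w)
      have h1 : (p t).1 = ψ w := el.apply_symm_apply (ψ w)
      have h2 := hTs _ t.2
      rw [← hp t, MaxSub.quad_add (Q := Q), horth _ (p t).1.2 _ (p t).2.2, h1, hψ] at h2
      show Q ((p t).2 : ι → F) = _
      linear_combination h2
    · have hcomp : ∀ {X X' : Submodule F (ι → F)}, Module.finrank F X' = 2 * (k + 1) → IsNondegenerateOn (B) X' →
          AreOrthogonalFor (B) X X' → T ≤ X ⊔ X' → T ⊓ X = ⊥ → T ⊓ X' = ⊥ := by
        intro X X' hX'd hX'n hXX hTX hTX0
        rw [eq_bot_iff]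
        intro y hy
        rw [Submodule.mem_bot]
        by_contra hy0
        obtain ⟨⟨z, hz, hzy⟩, -⟩ := hX'n y hy.2 hy0
        have hT' : T ≤ X ⊔ (X' ⊓ hf.perp (Submodule.span F {y})) := by
          intro t ht
          obtain ⟨a, ha, b, hb', rfl⟩ := Submodule.mem_sup.1 (hTX ht)
          refine Submodule.add_mem_sup ha ⟨hb', fun w hw => ?_⟩
          obtain ⟨c, rfl⟩ := Submodule.mem_span_singleton.1 hw
          have h1 : B (a + b) y = 0 := polar_eq_zero_of_singular hTs ht hy.1
          rw [hb.add_left, hXX a ha y hy.2, zero_add] at h1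
          rw [hb.smul_right, h1, mul_zero]
        have h1 : X' ⊓ hf.perp (Submodule.span F {y}) < X' :=
          lt_of_le_of_ne inf_le_left fun h => hzy ((h.symm ▸ hz : z ∈ X' ⊓ hf.perp (Submodule.span F {y})).2 y
            (Submodule.mem_span_singleton_self y))
        have h2 := Submodule.finrank_lt_finrank_of_lt h1
        have h3 := Submodule.finrank_sup_add_finrank_inf_eq T X
        have h4 := Submodule.finrank_mono (sup_le hT' le_sup_left : T ⊔ X ≤ X ⊔ (X' ⊓ hf.perp (Submodule.span F {y})))
        have h5 := Submodule.finrank_add_le_finrank_add_finrank X (X' ⊓ hf.perp (Submodule.span F {y}))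
        rw [hTX0, finrank_bot] at h3
        omega
      obtain ⟨e, he, he0⟩ := (Submodule.ne_bot_iff (T ⊓ W)).1 fun h => hA ⟨h, hcomp hW'd hW'n horth hT h⟩
      obtain ⟨e', he', he0'⟩ := (Submodule.ne_bot_iff (T ⊓ W')).1 fun h =>
        hA ⟨hcomp hWd hWn horth' (hT.trans (le_of_eq (sup_comm _ _))) h, h⟩
      have hpartner : ∀ {X : Submodule F (ι → F)}, IsNondegenerateOn (B) X → ∀ e ∈ X, e ≠ 0 → Q e = 0 →
          ∃ f ∈ X, Q f = 0 ∧ B e f = 1 := by
        intro X hX e he he0 hqe
        obtain ⟨-, t₀, ht0, hne⟩ := hX e he he0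
        obtain ⟨t, htX, ht⟩ : ∃ t ∈ X, B e t = 1 :=
          ⟨(B e t₀)⁻¹ • t₀, X.smul_mem _ ht0, by rw [hb.smul_right, inv_mul_cancel₀ hne]⟩
        refine ⟨t - Q t • e, X.sub_mem htX (X.smul_mem _ he), ?_, ?_⟩
        · rw [sub_eq_add_neg, ← neg_smul, MaxSub.quad_add (Q := Q), hQ.smul, hqe, hb.smul_right,
            MaxSub.polar_symm t e, ht]
          ring
        · rw [hf.sub_right, hb.smul_right, ht, MaxSub.polar_self hQ, hqe]
          ring
      have hqe := hTs e he.1
      have hqe' := hTs e' he'.1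
      obtain ⟨f, hfW, hqf, hef⟩ := hpartner hWn e he.2 he0 hqe
      obtain ⟨f', hfW', hqf', hef'⟩ := hpartner hW'n e' he'.2 he0' hqe'
      -- splitting off a hyperbolic plane
      have hsplit : ∀ {X : Submodule F (ι → F)} (e f : ι → F), e ∈ X → f ∈ X → Q e = 0 → Q f = 0 → B e f = 1 →
          Module.finrank F X = 2 * (k + 1) → IsNondegenerateOn (B) X →
          ∃ X₁, X₁ = X ⊓ hf.perp (Submodule.span F (Set.range ![e, f])) ∧ Module.finrank F X₁ = 2 * k ∧
            IsNondegenerateOn (B) X₁ ∧ ∀ x ∈ X, x - B x f • e - B x e • f ∈ X₁ := by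
        intro X e f he hfX hqe hqf hef hXd hXn
        have hee : B e e = 0 := by rw [MaxSub.polar_self hQ, hqe, mul_zero]
        have hff : B f f = 0 := by rw [MaxSub.polar_self hQ, hqf, mul_zero]
        have hfe : B f e = 1 := by rw [MaxSub.polar_symm]; exact hef
        set S := Submodule.span F (Set.range ![e, f]) with hS
        have hproj : ∀ x ∈ X, x - B x f • e - B x e • f ∈ X ⊓ hf.perp S := by
          intro x hx
          refine ⟨X.sub_mem (X.sub_mem hx (X.smul_mem _ he)) (X.smul_mem _ hfX), fun w hw => ?_⟩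
          rw [hS, Matrix.range_cons_cons_empty, Submodule.mem_span_pair] at hw
          obtain ⟨a, b, rfl⟩ := hw
          rw [hb.add_right, hb.smul_right, hb.smul_right, hf.sub_left, hf.sub_left, hf.sub_left, hf.sub_left,
            hb.smul_left, hb.smul_left, hb.smul_left, hb.smul_left, hee, hff, hef, hfe]
          ring
        have hSX : S ≤ X := Submodule.span_le.2 (by
          rintro _ ⟨i, rfl⟩
          fin_cases i
          · exact he
          · exact hfX)
        have hli : LinearIndependent F ![e, f] := by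
          rw [LinearIndependent.pair_iff]
          intro a b hab
          have h1 := congrArg (fun z => B z f) hab
          have h2 := congrArg (fun z => B z e) hab
          simp only [hb.add_left, hb.smul_left, hef, hff, hfe, hee, hf.zero_left] at h1 h2
          exact ⟨by linear_combination h1, by linear_combination h2⟩
        have hSd : Module.finrank F S = 2 := by rw [hS, finrank_span_eq_card hli, Fintype.card_fin]
        have hinf : S ⊓ (X ⊓ hf.perp S) = ⊥ := by
          rw [eq_bot_iff]
          rintro x ⟨hx, -, hx2⟩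
          rw [Submodule.mem_bot]
          have h1 := hx2 f (Submodule.subset_span ⟨1, rfl⟩)
          have h2 := hx2 e (Submodule.subset_span ⟨0, rfl⟩)
          rw [SetLike.mem_coe, hS, Matrix.range_cons_cons_empty, Submodule.mem_span_pair] at hx
          obtain ⟨a, b, rfl⟩ := hx
          simp only [hb.add_left, hb.smul_left, hef, hff, hfe, hee, mul_zero, mul_one, add_zero, zero_add] at h1 h2
          rw [h1, h2, zero_smul, zero_smul, add_zero]
        have hsup : S ⊔ (X ⊓ hf.perp S) = X := by
          refine le_antisymm (sup_le hSX inf_le_left) fun x hx => ?_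
          have h4 : x = (B x f • e + B x e • f) + (x - B x f • e - B x e • f) := by abel
          rw [h4]
          exact Submodule.add_mem_sup (S.add_mem (S.smul_mem _ (Submodule.subset_span ⟨0, rfl⟩))
            (S.smul_mem _ (Submodule.subset_span ⟨1, rfl⟩))) (hproj x hx)
        refine ⟨_, rfl, ?_, ?_, hproj⟩
        · have h4 := Submodule.finrank_sup_add_finrank_inf_eq S (X ⊓ hf.perp S)
          rw [hsup, hinf, finrank_bot, hSd, hXd] at h4
          omega
        · intro w hw hw0
          obtain ⟨-, y, hy, hne⟩ := hXn w hw.1 hw0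
          have h4 : B w (y - B y f • e - B y e • f) = B w y := by
            rw [hf.sub_right, hf.sub_right, hb.smul_right, hb.smul_right,
              hw.2 e (Submodule.subset_span ⟨0, rfl⟩), hw.2 f (Submodule.subset_span ⟨1, rfl⟩)]
            ring
          exact ⟨⟨_, hproj y hy, by rw [MaxSub.polar_symm, h4]; exact hne⟩, ⟨_, hproj y hy, by rw [h4]; exact hne⟩⟩
      obtain ⟨W₁, hW₁, hW₁d, hW₁n, hproj⟩ := hsplit e f he.2 hfW hqe hqf hef hWd hWn
      obtain ⟨W₁', hW₁', hW₁'d, hW₁'n, hproj'⟩ := hsplit e' f' he'.2 hfW' hqe' hqf' hef' hW'd hW'n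
      have hle1 : W₁ ≤ W := hW₁ ▸ inf_le_left
      have hle1' : W₁' ≤ W' := hW₁' ▸ inf_le_left
      have horth₁ : AreOrthogonalFor (B) W₁ W₁' := fun u hu v hv => horth u (hle1 hu) v (hle1' hv)
      set T₁ := T ⊓ (W₁ ⊔ W₁') with hT₁
      have hTle : T ≤ T₁ ⊔ (Submodule.span F {e} ⊔ Submodule.span F {e'}) := by
        intro t ht
        obtain ⟨a, ha, b, hb', rfl⟩ := Submodule.mem_sup.1 (hT ht)
        have hae : B a e = 0 := by
          have h1 := polar_eq_zero_of_singular hTs ht he.1
          rwa [hb.add_left, horth' b hb' e he.2, add_zero] at h1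
        have hbe : B b e' = 0 := by
          have h1 := polar_eq_zero_of_singular hTs ht he'.1
          rwa [hb.add_left, horth a ha e' he'.2, zero_add] at h1
        have h1 := hproj a ha
        have h2 := hproj' b hb'
        rw [hae, zero_smul, sub_zero] at h1
        rw [hbe, zero_smul, sub_zero] at h2
        have h3 : a + b = ((a - B a f • e) + (b - B b f' • e')) + (B a f • e + B b f' • e') := by abel
        rw [h3]
        refine Submodule.add_mem_sup ⟨?_, Submodule.add_mem_sup h1 h2⟩ (Submodule.add_mem_sup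
          (Submodule.smul_mem _ _ (Submodule.mem_span_singleton_self e))
          (Submodule.smul_mem _ _ (Submodule.mem_span_singleton_self e')))
        have h4 : (a - B a f • e) + (b - B b f' • e') = (a + b) - (B a f • e + B b f' • e') := by abel
        rw [h4]
        exact T.sub_mem ht (T.add_mem (T.smul_mem _ he.1) (T.smul_mem _ he'.1))
      have hT₁d : 2 * k ≤ Module.finrank F T₁ := by
        have h1 := Submodule.finrank_mono hTle
        have h2 := Submodule.finrank_add_le_finrank_add_finrank T₁ (Submodule.span F {e} ⊔ Submodule.span F {e'})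
        have h3 := Submodule.finrank_add_le_finrank_add_finrank (Submodule.span F {e}) (Submodule.span F {e'})
        rw [finrank_span_singleton he0, finrank_span_singleton he0'] at h3
        omega
      obtain ⟨T₂, hT₂, hT₂d⟩ := exists_le_finrank hT₁d
      obtain ⟨φ, hφ⟩ := ih W₁ W₁' T₂ hW₁d hW₁'d hW₁n hW₁'n horth₁ (hT₂.trans inf_le_right)
        (fun x hx => hTs x (hT₂ hx).1) hT₂d
      have hee : B e e = 0 := by rw [MaxSub.polar_self hQ, hqe, mul_zero]
      have hff : B f f = 0 := by rw [MaxSub.polar_self hQ, hqf, mul_zero]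
      have hee' : B e' e' = 0 := by rw [MaxSub.polar_self hQ, hqe', mul_zero]
      have hff' : B f' f' = 0 := by rw [MaxSub.polar_self hQ, hqf', mul_zero]
      let pr : W →ₗ[F] W₁ :=
        { toFun := fun w => ⟨_, hproj w.1 w.2⟩
          map_add' := fun u v => Subtype.ext (by
            simp only [Submodule.coe_add, hb.add_left, add_smul]; abel)
          map_smul' := fun c u => Subtype.ext (by
            simp only [Submodule.coe_smul, hb.smul_left, RingHom.id_apply, smul_sub, smul_smul]) }
      let L : W →ₗ[F] W' :=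
        { toFun := fun w => ⟨B (w : ι → F) f • e' + B (w : ι → F) e • f' + (φ (pr w) : ι → F),
            W'.add_mem (W'.add_mem (W'.smul_mem _ he'.2) (W'.smul_mem _ hfW')) (hle1' (φ (pr w)).2)⟩
          map_add' := fun u v => Subtype.ext (by
            simp only [Submodule.coe_add, hb.add_left, add_smul, map_add]; abel)
          map_smul' := fun c u => Subtype.ext (by
            simp only [Submodule.coe_smul, hb.smul_left, map_smul, RingHom.id_apply, smul_add, smul_smul]) }
      have hperp' : ∀ z ∈ W₁', B z e' = 0 ∧ B z f' = 0 := by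
        intro z hz
        rw [hW₁'] at hz
        exact ⟨hz.2 e' (Submodule.subset_span ⟨0, rfl⟩), hz.2 f' (Submodule.subset_span ⟨1, rfl⟩)⟩
      have hperp : ∀ z ∈ W₁, B z e = 0 ∧ B z f = 0 := by
        intro z hz
        rw [hW₁] at hz
        exact ⟨hz.2 e (Submodule.subset_span ⟨0, rfl⟩), hz.2 f (Submodule.subset_span ⟨1, rfl⟩)⟩
      have hquad : ∀ {e f z : ι → F} (a b : F), Q e = 0 → Q f = 0 → B e f = 1 → B z e = 0 → B z f = 0 →
          Q (a • e + b • f + z) = a * b + Q z := by
        intro e f z a b h1 h2 h3 h4 h5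
        rw [MaxSub.quad_add (Q := Q), MaxSub.quad_add (Q := Q), hQ.smul, hQ.smul, hb.add_left, hb.smul_left,
          hb.smul_left, hb.smul_left, hb.smul_right, h1, h2, h3, MaxSub.polar_symm e z, MaxSub.polar_symm f z, h4,
          h5]
        ring
      have hLQ : ∀ w : W, Q (L w : ι → F) = Q (w : ι → F) := by
        intro w
        have h1 := hperp' _ (φ (pr w)).2
        have h2 := hperp _ (pr w).2
        show Q (_ + _ + _) = _
        rw [hquad _ _ hqe' hqf' hef' h1.1 h1.2, hφ, ← hquad _ _ hqe hqf hef h2.1 h2.2]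
        congr 1
        show _ + ((w : ι → F) - _ - _) = _
        abel
      have hinj : Function.Injective L := by
        rw [injective_iff_map_eq_zero]
        intro w hw
        by_contra hw0
        obtain ⟨-, y, hy, hne⟩ := hWn w.1 w.2 (fun h => hw0 (Subtype.ext h))
        refine hne ?_
        have h1 : B (L w : ι → F) (L ⟨y, hy⟩ : ι → F) = B (w : ι → F) y := by
          simp only [QuadraticMap.polar]
          rw [← Submodule.coe_add, ← map_add, hLQ, hLQ, hLQ, Submodule.coe_add]
        rw [hw, Submodule.coe_zero, hf.zero_left] at h1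
        exact h1.symm
      exact ⟨LinearEquiv.ofBijective L ⟨hinj,
        (LinearMap.injective_iff_surjective_of_finrank_eq_finrank (by omega)).1 hinj⟩, hLQ⟩

/-- In a space of plus type the orthogonal of a half-dimensional subspace is isometric to it. -/
theorem isometric_perp [Fintype F] (hQ : IsNondegenerateQuadraticForm Q) (hplus : IsPlusTypeOn Q ⊤) {k : ℕ}
    (hn : Fintype.card ι = 4 * k) {W : Submodule F (ι → F)} (hW : IsNondegenerateOn (B) W)
    (hWd : Module.finrank F W = 2 * k) : AreIsometricFor Q W ((isReflexive_polar hQ).perp W) := by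
  have hf := isReflexive_polar hQ
  obtain ⟨L, -, hL, hLd⟩ := hplus
  rw [finrank_top, Module.finrank_fintype_fun_eq_card] at hLd
  have h1 := hf.finrank_perp W
  exact isometric_of_singular hQ k W (hf.perp W) L hWd (by omega) hW (hf.isNondegenerateOn_perp hW)
    (fun u hu v hv => hf.orth_comm (hv u hu)) (le_top.trans (hf.sup_perp hW).ge) hL (by omega)

/-- In a space of plus type, the orthogonal of a subspace of plus type is of plus type. -/
theorem plus_of_perp_plus (hQ : IsNondegenerateQuadraticForm Q) (hplus : IsPlusTypeOn Q ⊤) {m : ℕ}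
    (hm : Fintype.card ι = 2 * m) {W : Submodule F (ι → F)} (hW : IsNondegenerateOn (B) W)
    (hWp : IsPlusTypeOn Q W) : IsPlusTypeOn Q ((isReflexive_polar hQ).perp W) := by
  have hf := isReflexive_polar hQ
  obtain ⟨L₀, -, hL₀, hL₀d⟩ := hplus
  rw [finrank_top, Module.finrank_fintype_fun_eq_card] at hL₀d
  obtain ⟨U, hUW, hU, hUd⟩ := hWp
  obtain ⟨L, hUL, hL, hLd⟩ := exists_lagrangian_above hQ hm hL₀ (by omega) hU
  refine ⟨L ⊓ hf.perp W, inf_le_right, fun x hx => hL x hx.1, ?_⟩
  have hWU : W ⊓ hf.perp U = U := by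
    symm
    have hb' : U ≤ W ⊓ hf.perp U := fun x hx => ⟨hUW hx, fun w hw => polar_eq_zero_of_singular hU hx hw⟩
    refine Submodule.eq_of_le_of_finrank_le hb' ?_
    have hsup : hf.perp W ≤ hf.perp U := fun x hx w hw => hx w (hUW hw)
    have h1 : hf.perp W ⊔ (W ⊓ hf.perp U) ≤ hf.perp U := sup_le hsup inf_le_right
    have h2 := Submodule.finrank_mono h1
    have h3 := Submodule.finrank_sup_add_finrank_inf_eq (hf.perp W) (W ⊓ hf.perp U)
    have h4 : hf.perp W ⊓ (W ⊓ hf.perp U) = ⊥ := by
      rw [eq_bot_iff, ← hf.isNondegenerateOn_iff.1 hW]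
      exact fun x hx => ⟨hx.2.1, hx.1⟩
    rw [h4, finrank_bot] at h3
    have h5 := hf.finrank_perp W
    have h6 := hf.finrank_perp U
    omega
  have hle : L ≤ U ⊔ (L ⊓ hf.perp W) := by
    intro x hx
    obtain ⟨a, ha, b, hb', rfl⟩ := Submodule.mem_sup.1 (hf.sup_perp hW ▸ Submodule.mem_top : x ∈ W ⊔ hf.perp W)
    have haU : a ∈ U := by
      rw [← hWU]
      refine ⟨ha, fun w hw => ?_⟩
      have h1 : B (a + b) w = 0 := polar_eq_zero_of_singular hL hx (hUL hw)
      rwa [hQ.polar_bilinear.add_left, hb' w (hUW hw), add_zero] at h1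
    exact Submodule.add_mem_sup haU ⟨by simpa using L.sub_mem hx (hUL haU), hb'⟩
  have h1 := Submodule.finrank_mono hle
  have h2 := Submodule.finrank_add_le_finrank_add_finrank U (L ⊓ hf.perp W)
  have h3 : Module.finrank F (L ⊓ hf.perp W : Submodule F (ι → F)) * 2 ≤ Module.finrank F (hf.perp W) := by
    have h4 : (L ⊓ hf.perp W) ⊔ W ≤ hf.perp (L ⊓ hf.perp W) := sup_le
      (fun x hx w hw => polar_eq_zero_of_singular hL hx.1 hw.1)
      (fun x hx w hw => hf.orth_comm (hw.2 x hx))
    have h5 := Submodule.finrank_mono h4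
    have h6 := hf.finrank_perp (L ⊓ hf.perp W)
    have h7 := Submodule.finrank_sup_add_finrank_inf_eq (L ⊓ hf.perp W) W
    have h8 : (L ⊓ hf.perp W) ⊓ W = ⊥ := by
      rw [eq_bot_iff, ← hf.isNondegenerateOn_iff.1 hW]
      exact fun x hx => ⟨hx.2, hx.1.2⟩
    have h9 := hf.finrank_perp W
    rw [h8, finrank_bot] at h7
    omega
  have h5 := hf.finrank_perp W
  omega

end CfsgLib.AschbacherQuad
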