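import Cfsg.Agent.AschbacherQuad.Tensor
import Cfsg.Agent.AschbacherQuad.Witt

/-!
A symmetric factor of dimension four and plus type is a product of two binary alternating factors, which `Ω`
respects because it preserves the families of Lagrangians.
-/

set_option autoImplicit false
set_option linter.unusedSectionVars false
set_option linter.style.haveILetI false
set_option maxHeartbeats 1000000

namespace CfsgLib.AschbacherQuad

attribute [-simp] RingEquiv.coe_refl

open Matrix Cfsg.Geo CfsgLib.Aschbacher CfsgLib.AschbacherForms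
open scoped Kronecker

variable {F : Type*} [Field F]

/-- The left planes of a binary tensor square. -/
def leftPlane (u : Fin 2 → F) : Submodule F (Fin 2 × Fin 2 → F) :=
  LinearMap.range
    ({ toFun := fun v => AschbacherForms.pure u v
       map_add' := fun v w => funext fun a => mul_add _ _ _
       map_smul' := fun c v => funext fun a => mul_left_comm _ _ _ } :
      (Fin 2 → F) →ₗ[F] (Fin 2 × Fin 2 → F))

theorem mem_leftPlane {u : Fin 2 → F} {w : Fin 2 × Fin 2 → F} :
    w ∈ leftPlane u ↔ ∃ v, AschbacherForms.pure u v = w := Iff.rfl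

theorem finrank_leftPlane {u : Fin 2 → F} (hu : u ≠ 0) : Module.finrank F (leftPlane u) = 2 := by
  rw [leftPlane, LinearMap.finrank_range_of_inj, Module.finrank_fintype_fun_eq_card, Fintype.card_fin]
  intro v w h
  obtain ⟨i, hi⟩ := Function.ne_iff.1 hu
  exact funext fun j => mul_left_cancel₀ hi (congrFun h (i, j))

theorem dot_rot (w : Fin 2 × Fin 2 → F) :
    w ⬝ᵥ ((rot F ⊗ₖ rot F) *ᵥ w) = 2 * (w (0, 0) * w (1, 1) - w (0, 1) * w (1, 0)) := by
  simp [dotProduct, Matrix.mulVec, Fintype.sum_prod_type, Fin.sum_univ_two, rot, Matrix.kroneckerMap_apply]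
  ring

theorem rot_pure (u v v' : Fin 2 → F) :
    AschbacherForms.pure u v ⬝ᵥ ((rot F ⊗ₖ rot F) *ᵥ AschbacherForms.pure u v') = 0 := by
  rw [kronecker_mulVec_pure, dotProduct_pure]
  have : u ⬝ᵥ (rot F *ᵥ u) = 0 := by
    simp [dotProduct, Matrix.mulVec, Fin.sum_univ_two, rot]
    ring
  rw [this, zero_mul]

theorem exists_pure_of_det (w : Fin 2 × Fin 2 → F) (h : w (0, 0) * w (1, 1) - w (0, 1) * w (1, 0) = 0) :
    ∃ u v, AschbacherForms.pure u v = w := by
  by_cases h0 : w (0, 0) = 0
  · rw [h0, zero_mul, zero_sub, neg_eq_zero] at h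
    rcases mul_eq_zero.1 h with h1 | h1
    · exact ⟨![0, 1], ![w (1, 0), w (1, 1)], funext fun ⟨a, b⟩ => by
        fin_cases a <;> fin_cases b <;> simp [AschbacherForms.pure, h0, h1]⟩
    · exact ⟨![w (0, 1), w (1, 1)], ![0, 1], funext fun ⟨a, b⟩ => by
        fin_cases a <;> fin_cases b <;> simp [AschbacherForms.pure, h0, h1]⟩
  · exact ⟨![w (0, 0), w (1, 0)], ![1, w (0, 1) / w (0, 0)], funext fun ⟨a, b⟩ => by
      fin_cases a <;> fin_cases b <;> simp [AschbacherForms.pure] <;> field_simp
      linear_combination -h⟩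

/-- Two vectors with vanishing determinant are proportional. -/
theorem exists_smul_of_det {a b : Fin 2 → F} (ha : a ≠ 0) (h : a 0 * b 1 - a 1 * b 0 = 0) : ∃ t : F, b = t • a := by
  by_cases h0 : a 0 = 0
  · have h1 : a 1 ≠ 0 := fun h1 => ha (funext fun i => by fin_cases i <;> assumption)
    rw [h0, zero_mul, zero_sub, neg_eq_zero] at h
    refine ⟨b 1 / a 1, funext fun i => ?_⟩
    fin_cases i
    · simp [h0, (mul_eq_zero.1 h).resolve_left h1]
    · simp [h1]
  · refine ⟨b 0 / a 0, funext fun i => ?_⟩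
    fin_cases i
    · simp [h0]
    · simp only [Pi.smul_apply, smul_eq_mul, Fin.mk_one]
      field_simp
      linear_combination h

/-- A similitude of the split four-space keeping the parity of the left planes is a tensor product. -/
theorem similitude_split (h2 : (2 : F) ≠ 0) {M : Matrix (Fin 2 × Fin 2) (Fin 2 × Fin 2) F} (hM : IsUnit M) {μ : F}
    (hsim : Mᵀ * (rot F ⊗ₖ rot F) * M = μ • (rot F ⊗ₖ rot F))
    (hfam : ∀ u : Fin 2 → F, u ≠ 0 →
      Even (Module.finrank F (leftPlane u ⊓ (leftPlane u).map (Matrix.toLin' M) : Submodule F _))) :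
    ∃ A C : Matrix (Fin 2) (Fin 2) F, IsUnit A ∧ IsUnit C ∧ M = A ⊗ₖ C := by
  classical
  have hinj : Function.Injective M.mulVec := Matrix.mulVec_injective_iff_isUnit.2 hM
  have hpure : ∀ u v, ∃ a c, AschbacherForms.pure a c = M *ᵥ AschbacherForms.pure u v := by
    intro u v
    refine exists_pure_of_det _ ?_
    have h1 := rot_pure u v v
    have h3 : (M *ᵥ AschbacherForms.pure u v) ⬝ᵥ ((rot F ⊗ₖ rot F) *ᵥ (M *ᵥ AschbacherForms.pure u v)) = 0 := by
      rw [Matrix.mulVec_mulVec, ← Matrix.vecMul_transpose, ← Matrix.dotProduct_mulVec, Matrix.mulVec_mulVec,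
        ← mul_assoc, hsim, Matrix.smul_mulVec, dotProduct_smul, h1, smul_zero]
    rw [dot_rot] at h3
    exact (mul_eq_zero.1 h3).resolve_left h2
  have hleft : ∀ u, u ≠ 0 → ∃ a, a ≠ 0 ∧ ∀ v, ∃ c, M *ᵥ AschbacherForms.pure u v = AschbacherForms.pure a c := by
    intro u hu
    obtain ⟨i, hi⟩ := Function.ne_iff.1 hu
    obtain ⟨a, c, hac⟩ := hpure u ![1, 0]
    obtain ⟨a', c', hac'⟩ := hpure u ![0, 1]
    obtain ⟨x, y, hxy⟩ := hpure u ![1, 1]
    have hv : ∀ v : Fin 2 → F, AschbacherForms.pure u v =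
        v 0 • AschbacherForms.pure u ![1, 0] + v 1 • AschbacherForms.pure u ![0, 1] := fun v => funext fun ⟨p, q⟩ => by
      fin_cases q <;> simp [AschbacherForms.pure] <;> ring
    have hMv : ∀ v : Fin 2 → F, M *ᵥ AschbacherForms.pure u v =
        v 0 • AschbacherForms.pure a c + v 1 • AschbacherForms.pure a' c' := fun v => by
      rw [hv v, Matrix.mulVec_add, Matrix.mulVec_smul, Matrix.mulVec_smul, ← hac, ← hac']
    have hne : ∀ v : Fin 2 → F, v ≠ 0 → M *ᵥ AschbacherForms.pure u v ≠ 0 := fun v hv0 h => by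
      obtain ⟨j, hj⟩ := Function.ne_iff.1 hv0
      have h1 : AschbacherForms.pure u v = 0 := hinj (h.trans (Matrix.mulVec_zero _).symm)
      exact mul_ne_zero hi hj (congrFun h1 (i, j))
    have hac0 : AschbacherForms.pure a c ≠ 0 := hac ▸ hne _ fun h => by simpa using congrFun h 0
    have hac0' : AschbacherForms.pure a' c' ≠ 0 := hac' ▸ hne _ fun h => by simpa using congrFun h 1
    have ha : a ≠ 0 := fun h => hac0 (funext fun p => by simp [AschbacherForms.pure, h])
    have hc : c ≠ 0 := fun h => hac0 (funext fun p => by simp [AschbacherForms.pure, h])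
    have hc' : c' ≠ 0 := fun h => hac0' (funext fun p => by simp [AschbacherForms.pure, h])
    have hdet : (a 0 * a' 1 - a 1 * a' 0) * (c 0 * c' 1 - c 1 * c' 0) = 0 := by
      have h1 := hMv ![1, 1]
      rw [← hxy] at h1
      have e := fun p => congrFun h1 p
      simp only [AschbacherForms.pure, Pi.add_apply, Pi.smul_apply, smul_eq_mul, Matrix.cons_val_zero,
        Matrix.cons_val_one, one_mul, Prod.forall] at e
      linear_combination -(x 1 * y 1) * e 0 0 + (x 1 * y 0) * e 0 1 -
        (a 0 * c 0 + a' 0 * c' 0) * e 1 1 + (a 0 * c 1 + a' 0 * c' 1) * e 1 0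
    rcases mul_eq_zero.1 hdet with h | h
    · obtain ⟨t, ht⟩ := exists_smul_of_det ha h
      refine ⟨a, ha, fun v => ⟨v 0 • c + (v 1 * t) • c', ?_⟩⟩
      rw [hMv, ht]
      funext ⟨p, q⟩
      simp [AschbacherForms.pure]
      ring
    · by_cases hda : a 0 * a' 1 - a 1 * a' 0 = 0
      · obtain ⟨t, ht⟩ := exists_smul_of_det ha hda
        refine ⟨a, ha, fun v => ⟨v 0 • c + (v 1 * t) • c', ?_⟩⟩
        rw [hMv, ht]
        funext ⟨p, q⟩
        simp [AschbacherForms.pure]
        ring
      obtain ⟨t, ht⟩ := exists_smul_of_det hc h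
      have ht0 : t ≠ 0 := fun h0 => hc' (by rw [ht, h0, zero_smul])
      obtain ⟨α, β, hαβ⟩ : ∃ α β : F, ∀ p, α * a p + β * a' p = u p := by
        refine ⟨(u 0 * a' 1 - u 1 * a' 0) / (a 0 * a' 1 - a 1 * a' 0),
          (a 0 * u 1 - a 1 * u 0) / (a 0 * a' 1 - a 1 * a' 0), fun p => ?_⟩
        rw [div_mul_eq_mul_div, div_mul_eq_mul_div, ← add_div, div_eq_iff hda]
        fin_cases p <;> simp only [Fin.zero_eta, Fin.mk_one] <;> ring
      have hmem : AschbacherForms.pure u c ∈ leftPlane u ⊓ (leftPlane u).map (Matrix.toLin' M) := by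
        refine ⟨⟨c, rfl⟩, AschbacherForms.pure u ![α, β / t], ⟨_, rfl⟩, ?_⟩
        rw [Matrix.toLin'_apply, hMv, ht]
        funext ⟨p, q⟩
        simp [AschbacherForms.pure]
        rw [← hαβ p]
        field_simp
      have hpos : 0 < Module.finrank F (leftPlane u ⊓ (leftPlane u).map (Matrix.toLin' M) : Submodule F _) := by
        rcases Nat.eq_zero_or_pos
          (Module.finrank F (leftPlane u ⊓ (leftPlane u).map (Matrix.toLin' M) : Submodule F _)) with h0 | h0
        · rw [Submodule.finrank_eq_zero] at h0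
          rw [h0, Submodule.mem_bot] at hmem
          obtain ⟨j, hj⟩ := Function.ne_iff.1 hc
          exact absurd (congrFun hmem (i, j)) (mul_ne_zero hi hj)
        · exact h0
      have hle : Module.finrank F ((leftPlane u).map (Matrix.toLin' M)) ≤ 2 :=
        (Submodule.finrank_map_le _ _).trans (finrank_leftPlane hu).le
      have h5 := Submodule.finrank_mono
        (inf_le_right : leftPlane u ⊓ (leftPlane u).map (Matrix.toLin' M) ≤ (leftPlane u).map (Matrix.toLin' M))
      have heq : leftPlane u ⊓ (leftPlane u).map (Matrix.toLin' M) = (leftPlane u).map (Matrix.toLin' M) := by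
        refine Submodule.eq_of_le_of_finrank_le inf_le_right ?_
        obtain ⟨r, hr⟩ := hfam u hu
        omega
      refine ⟨u, hu, fun v => ?_⟩
      obtain ⟨w, hw⟩ := (inf_eq_right.1 heq) ⟨AschbacherForms.pure u v, ⟨v, rfl⟩, rfl⟩
      exact ⟨w, by rw [← Matrix.toLin'_apply]; exact hw.symm⟩
  choose α hα0 γ hγ using hleft
  have he0 : (![1, 0] : Fin 2 → F) ≠ 0 := fun h => by simpa using congrFun h 0
  have he1 : (![0, 1] : Fin 2 → F) ≠ 0 := fun h => by simpa using congrFun h 1
  have he2 : (![1, 1] : Fin 2 → F) ≠ 0 := fun h => by simpa using congrFun h 0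
  set a := α _ he0 with haD
  set b := α _ he1 with hbD
  set c := α _ he2 with hcD
  have hsum : ∀ v, AschbacherForms.pure c (γ _ he2 v) =
      AschbacherForms.pure a (γ _ he0 v) + AschbacherForms.pure b (γ _ he1 v) := by
    intro v
    rw [← hγ, ← hγ, ← hγ, ← Matrix.mulVec_add]
    congr 1
    funext ⟨p, q⟩
    fin_cases p <;> simp [AschbacherForms.pure]
  have hpne : ∀ (u : Fin 2 → F) (hu : u ≠ 0) (v : Fin 2 → F), v ≠ 0 → γ u hu v ≠ 0 := by
    intro u hu v hv h
    obtain ⟨i, hi⟩ := Function.ne_iff.1 hu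
    obtain ⟨j, hj⟩ := Function.ne_iff.1 hv
    have h1 : AschbacherForms.pure u v = 0 := hinj (by
      rw [hγ u hu v, h, Matrix.mulVec_zero]
      funext p
      simp [AschbacherForms.pure])
    exact mul_ne_zero hi hj (congrFun h1 (i, j))
  have hab : a 0 * b 1 - a 1 * b 0 ≠ 0 := by
    intro h
    obtain ⟨t, ht⟩ := exists_smul_of_det (hα0 _ he0) h
    have hrange : ∀ x, ∃ w, M *ᵥ x = AschbacherForms.pure a w := by
      intro x
      refine ⟨γ _ he0 (fun q => x (0, q)) + t • γ _ he1 (fun q => x (1, q)), ?_⟩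
      have hx : x = AschbacherForms.pure ![1, 0] (fun q => x (0, q)) + AschbacherForms.pure ![0, 1] (fun q => x (1, q)) :=
        funext fun ⟨p, q⟩ => by fin_cases p <;> simp [AschbacherForms.pure]
      conv_lhs => rw [hx]
      rw [Matrix.mulVec_add, hγ _ he0, hγ _ he1, ← haD, ← hbD, ht]
      funext ⟨p, q⟩
      simp [AschbacherForms.pure]
      ring
    obtain ⟨x, hx⟩ := (Matrix.mulVec_surjective_iff_isUnit.2 hM) (AschbacherForms.pure ![-a 1, a 0] ![1, 0])
    obtain ⟨w, hw⟩ := hrange x
    rw [hx] at hw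
    have e0 := congrFun hw (0, 0)
    have e1 := congrFun hw (1, 0)
    simp [AschbacherForms.pure] at e0 e1
    have hz : a 0 = 0 ∧ a 1 = 0 → False := fun ⟨h0, h1⟩ => hα0 _ he0 (funext fun i => by fin_cases i <;> assumption)
    by_cases hw0 : w 0 = 0
    · rw [hw0, mul_zero] at e0 e1
      exact hz ⟨e1, by linear_combination -e0⟩
    · have h4 : a 0 * a 0 + a 1 * a 1 = 0 := by
        linear_combination a 0 * e1 - a 1 * e0
      have h6 : (1 + w 0 * w 0) * a 1 = 0 := by
        linear_combination -e0 - w 0 * e1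
      have h7 : (1 + w 0 * w 0) * a 0 = 0 := by
        linear_combination e1 - w 0 * e0
      by_cases hw1 : 1 + w 0 * w 0 = 0
      · -- a second vector outside the plane
        obtain ⟨x', hx'⟩ := (Matrix.mulVec_surjective_iff_isUnit.2 hM) (AschbacherForms.pure ![1, 0] ![1, 0])
        obtain ⟨w', hw'⟩ := hrange x'
        rw [hx'] at hw'
        have e0' := congrFun hw' (0, 0)
        have e1' := congrFun hw' (1, 0)
        simp [AschbacherForms.pure] at e0' e1'
        rcases e1' with h8 | h8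
        · exact hz ⟨by rw [h8, mul_zero, add_zero] at h4; exact mul_self_eq_zero.1 h4, h8⟩
        · rw [h8, mul_zero] at e0'
          exact one_ne_zero e0'
      · exact hz ⟨(mul_eq_zero.1 h7).resolve_left hw1, (mul_eq_zero.1 h6).resolve_left hw1⟩
  set r := (c 0 * b 1 - c 1 * b 0) / (a 0 * b 1 - a 1 * b 0) with hr
  set s := (a 0 * c 1 - a 1 * c 0) / (a 0 * b 1 - a 1 * b 0) with hs
  have h01 : ∀ v, γ _ he0 v = r • γ _ he2 v ∧ γ _ he1 v = s • γ _ he2 v := by
    intro v
    constructor <;> funext q <;>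
      [have e0 := congrFun (hsum v) (0, q); have e0 := congrFun (hsum v) (0, q)] <;>
      (have e1 := congrFun (hsum v) (1, q)
       simp only [AschbacherForms.pure, Pi.add_apply] at e0 e1
       simp only [Pi.smul_apply, smul_eq_mul, hr, hs]
       rw [div_mul_eq_mul_div, eq_div_iff hab])
    · linear_combination -b 1 * e0 + b 0 * e1
    · linear_combination a 1 * e0 - a 0 * e1
  let A : Matrix (Fin 2) (Fin 2) F := !![r * a 0, s * b 0; r * a 1, s * b 1]
  let C : Matrix (Fin 2) (Fin 2) F := Matrix.of fun q q' => γ _ he2 (Pi.single q' 1) q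
  have hMAC : M = A ⊗ₖ C := by
    ext ⟨p, q⟩ ⟨p', q'⟩
    have hsing : Pi.single (p', q') (1 : F) =
        AschbacherForms.pure (Pi.single p' 1) (Pi.single q' 1) := funext fun ⟨x, y⟩ => by
      by_cases hx : x = p' <;> by_cases hy : y = q' <;> simp [AschbacherForms.pure, hx, hy]
    have h1 : M (p, q) (p', q') = (M *ᵥ Pi.single (p', q') 1) (p, q) := by
      rw [Matrix.mulVec_single_one]; rfl
    rw [h1, hsing]
    fin_cases p'
    · rw [show (Pi.single ((fun i : Fin 2 => i) ⟨0, by omega⟩) 1 : Fin 2 → F) = ![1, 0] from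
        funext fun i => by fin_cases i <;> simp, hγ _ he0, (h01 _).1]
      fin_cases p <;> simp [AschbacherForms.pure, A, C, ← haD] <;> ring
    · rw [show (Pi.single ((fun i : Fin 2 => i) ⟨1, by omega⟩) 1 : Fin 2 → F) = ![0, 1] from
        funext fun i => by fin_cases i <;> simp, hγ _ he1, (h01 _).2]
      fin_cases p <;> simp [AschbacherForms.pure, A, C, ← hbD] <;> ring
  have hdet : A.det ^ 2 * C.det ^ 2 ≠ 0 := by
    have h := ((Matrix.isUnit_iff_isUnit_det _).1 hM).ne_zero
    rwa [hMAC, Matrix.det_kronecker, Fintype.card_fin] at h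
  exact ⟨A, C, (Matrix.isUnit_iff_isUnit_det _).2
      (pow_ne_zero_iff two_ne_zero |>.1 (left_ne_zero_of_mul hdet)).isUnit,
    (Matrix.isUnit_iff_isUnit_det _).2 (pow_ne_zero_iff two_ne_zero |>.1 (right_ne_zero_of_mul hdet)).isUnit, hMAC⟩

variable {ι : Type} [Fintype ι] [DecidableEq ι] {Q : (ι → F) → F}

local notation "B" => QuadraticMap.polar Q

/-- Products of symmetric factors of dimensions three and four, the second of plus type, regroup into a product of
alternating factors of dimensions two and six. -/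
theorem tensor_regroup [Fintype F] (hQ : IsNondegenerateQuadraticForm Q) (h2 : (2 : F) ≠ 0)
    {H : Subgroup (GL ι F)} (hH : H ≤ omegaGL Q) {e : ι ≃ Fin 3 × Fin 4} {P : GL ι F}
    {S : Matrix (Fin 3) (Fin 3) F} {T : Matrix (Fin 4) (Fin 4) F} (hS : IsUnit S) (hT : IsUnit T)
    (hSs : Sᵀ = S) (hTs : Tᵀ = T)
    (hplus : IsPlusTypeOn (fun v : Fin 4 → F => formOf (RingEquiv.refl F) T v v) ⊤)
    (hle : H ≤ tensorProductSubgroup 3 4 e P)
    (hform : ∀ x y : Fin 3 × Fin 4 → F, B (mat P *ᵥ (x ∘ e)) (mat P *ᵥ (y ∘ e)) =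
      formOfGram (RingEquiv.refl F) (S ⊗ₖ T) x y) :
    ∃ (e' : ι ≃ Fin 2 × Fin 6) (P' : GL ι F) (T' : Matrix (Fin 6) (Fin 6) F), IsUnit T' ∧ T'ᵀ = -T' ∧
      H ≤ tensorProductSubgroup 2 6 e' P' ∧
      ∀ x y : Fin 2 × Fin 6 → F, B (mat P' *ᵥ (x ∘ e')) (mat P' *ᵥ (y ∘ e')) =
        formOfGram (RingEquiv.refl F) (rot F ⊗ₖ T') x y := by
  classical
  have hcard : Fintype.card ι = 12 := by
    rw [Fintype.card_congr e, Fintype.card_prod, Fintype.card_fin, Fintype.card_fin]
  haveI : Nonempty ι := Fintype.card_pos_iff.1 (by omega)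
  have hf := isReflexive_polar hQ
  have hdot : ∀ {κ : Type} [Fintype κ] (G : Matrix κ κ F) (x y : κ → F),
      formOfGram (RingEquiv.refl F) G x y = x ⬝ᵥ (G *ᵥ y) := fun G x y => formOfGram_eq _ G x y
  have hrot : (rot F).det = 1 := by simp [rot, Matrix.det_fin_two]
  have hdR : (rot F ⊗ₖ rot F).det = 1 := by rw [Matrix.det_kronecker, hrot]; simp
  -- the split model of the second factor
  obtain ⟨g, hg⟩ : ∃ g : (Fin 2 × Fin 2 → F) ≃ₗ[F] (Fin 4 → F),
      ∀ x y, g x ⬝ᵥ (T *ᵥ g y) = x ⬝ᵥ ((rot F ⊗ₖ rot F) *ᵥ y) := by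
    obtain ⟨X, -, hX, hXd⟩ := hplus
    rw [finrank_top, Module.finrank_fintype_fun_eq_card, Fintype.card_fin] at hXd
    have hb := isBilinearForm_formOf (F := F) T
    have hsymm := (isSymmetricForm_formOf hT hTs).symm
    have hsq := (exists_isotropic_iff h2 hT hTs (r := 2) (Fintype.card_fin 4)).1 ⟨X, by omega, fun x hx y hy => by
      have h1 : formOf (RingEquiv.refl F) T (x + y) (x + y) = 0 := hX _ (X.add_mem hx hy)
      have h3 : formOf (RingEquiv.refl F) T x x = 0 := hX _ hx
      have h5 : formOf (RingEquiv.refl F) T y y = 0 := hX _ hy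
      rw [hb.add_left, hb.add_right, hb.add_right, h3, h5, hsymm y x] at h1
      show formOf (RingEquiv.refl F) T x y = 0
      exact (mul_eq_zero.1 (by linear_combination h1 : (2 : F) * formOf (RingEquiv.refl F) T x y = 0)).resolve_left h2⟩
    have hsymG : ∀ {κ : Type} [Fintype κ] [DecidableEq κ] (G : Matrix κ κ F), Gᵀ = G →
        (Matrix.toBilin' G).IsSymm := fun G hG => ⟨fun x y => by
      rw [Matrix.toBilin'_apply', Matrix.toBilin'_apply', dotProduct_mulVec, dotProduct_comm, ← mulVec_transpose, hG]⟩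
    obtain ⟨g, hg⟩ := Forms.exists_isometry_of_isSquare h2 (Matrix.toBilin' (rot F ⊗ₖ rot F)) (Matrix.toBilin' T)
      (hsymG _ (by
        rw [← Matrix.kroneckerMap_transpose, rot_transpose, ← neg_one_smul F (rot F), Matrix.smul_kronecker,
          Matrix.kronecker_smul, smul_smul, neg_one_mul, neg_neg, one_smul]))
      (hsymG _ hTs) (Pi.basisFun F _) (Pi.basisFun F _)
      (by rw [Fintype.card_prod, Fintype.card_fin, Fintype.card_fin])
      (by rw [LinearMap.BilinForm.toMatrix_basisFun, LinearMap.BilinForm.toMatrix'_toBilin', hdR]; exact one_ne_zero)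
      (by rw [LinearMap.BilinForm.toMatrix_basisFun, LinearMap.BilinForm.toMatrix'_toBilin']
          exact ((Matrix.isUnit_iff_isUnit_det _).1 hT).ne_zero)
      (by rw [LinearMap.BilinForm.toMatrix_basisFun, LinearMap.BilinForm.toMatrix'_toBilin',
            LinearMap.BilinForm.toMatrix_basisFun, LinearMap.BilinForm.toMatrix'_toBilin', hdR, one_mul]
          simpa using hsq)
    exact ⟨g, fun x y => by simpa only [Matrix.toBilin'_apply'] using hg x y⟩
  let G : Matrix (Fin 4) (Fin 2 × Fin 2) F := LinearMap.toMatrix' g.toLinearMap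
  have hG : ∀ x, G *ᵥ x = g x := fun x => by
    show LinearMap.toMatrix' g.toLinearMap *ᵥ x = _
    rw [LinearMap.toMatrix'_mulVec]
    rfl
  let G' : Matrix (Fin 2 × Fin 2) (Fin 4) F := LinearMap.toMatrix' g.symm.toLinearMap
  have hG' : ∀ x, G' *ᵥ x = g.symm x := fun x => by
    show LinearMap.toMatrix' g.symm.toLinearMap *ᵥ x = _
    rw [LinearMap.toMatrix'_mulVec]
    rfl
  have hGG : G * G' = 1 := Matrix.toLin'.injective (LinearMap.ext fun x => by
    rw [Matrix.toLin'_apply, ← Matrix.mulVec_mulVec, hG', hG, LinearEquiv.apply_symm_apply, Matrix.toLin'_one]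
    rfl)
  have hG'G : G' * G = 1 := Matrix.toLin'.injective (LinearMap.ext fun x => by
    rw [Matrix.toLin'_apply, ← Matrix.mulVec_mulVec, hG, hG', LinearEquiv.symm_apply_apply, Matrix.toLin'_one]
    rfl)
  -- each element of the group splits
  have hsplit : ∀ h ∈ H, ∃ (a : Matrix (Fin 3) (Fin 3) F) (A C : Matrix (Fin 2) (Fin 2) F), IsUnit a ∧ IsUnit A ∧
      IsUnit C ∧ mat h = tensorEquiv e P (a ⊗ₖ (G * (A ⊗ₖ C) * G')) := by
    intro h hh
    obtain ⟨a, b, hab⟩ := exists_of_mem_tensorProductSubgroup (hle hh)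
    have hiso : ∀ x y, B (mat h *ᵥ x) (mat h *ᵥ y) = B x y := fun x y =>
      MaxSub.polar_of_isometry (fun z => isometry_of_omega (hH hh) z) x y
    obtain ⟨μ, hμ, -, hb⟩ := factors_similitude hf hS.ne_zero hT.ne_zero hform hiso hab
    rw [show (mat b).map (RingEquiv.refl F) = mat b from Matrix.ext fun _ _ => rfl] at hb
    set M := G' * mat b * G with hMdef
    have hMunit : IsUnit M := by
      refine Matrix.mulVec_injective_iff_isUnit.1 fun x y hxy => ?_
      rw [hMdef, ← Matrix.mulVec_mulVec, ← Matrix.mulVec_mulVec, ← Matrix.mulVec_mulVec, ← Matrix.mulVec_mulVec,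
        hG', hG', hG, hG] at hxy
      exact g.injective (Matrix.mulVec_injective_iff_isUnit.2 b.isUnit (g.symm.injective hxy))
    have hsim : Mᵀ * (rot F ⊗ₖ rot F) * M = μ⁻¹ • (rot F ⊗ₖ rot F) := by
      have hGT : Gᵀ * T * G = rot F ⊗ₖ rot F := by
        apply Matrix.toBilin'.injective
        refine LinearMap.BilinForm.ext fun x y => ?_
        rw [Matrix.toBilin'_apply', Matrix.toBilin'_apply', ← hg, ← hG, ← hG, ← Matrix.mulVec_mulVec,
          ← Matrix.mulVec_mulVec, Matrix.dotProduct_mulVec x Gᵀ, Matrix.vecMul_transpose]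
      rw [← hGT]
      calc Mᵀ * (Gᵀ * T * G) * M = Gᵀ * ((mat b)ᵀ * ((G * G')ᵀ * T * (G * G')) * mat b) * G := by
            simp only [hMdef, Matrix.transpose_mul, Matrix.mul_assoc]
        _ = Gᵀ * (μ⁻¹ • T) * G := by rw [hGG, Matrix.transpose_one, Matrix.one_mul, Matrix.mul_one, hb]
        _ = _ := by rw [Matrix.mul_smul, Matrix.smul_mul]
    have hfam : ∀ u : Fin 2 → F, u ≠ 0 →
        Even (Module.finrank F (leftPlane u ⊓ (leftPlane u).map (Matrix.toLin' M) : Submodule F _)) := by
      intro u hu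
      set U := (leftPlane u).map g.toLinearMap with hUdef
      let rowMap : ∀ U : Submodule F (Fin 4 → F), (Fin 3 → U) →ₗ[F] (ι → F) := fun U =>
        (coords e P).toLinearMap ∘ₗ
          { toFun := fun z p => (z p.1 : Fin 4 → F) p.2
            map_add' := fun _ _ => rfl
            map_smul' := fun _ _ => rfl }
      let rows : Submodule F (Fin 4 → F) → Submodule F (ι → F) := fun U => LinearMap.range (rowMap U)
      have hrows : ∀ (U : Submodule F (Fin 4 → F)) (x : Fin 3 × Fin 4 → F),
          coords e P x ∈ rows U ↔ ∀ i, (fun j => x (i, j)) ∈ U := by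
        intro U x
        constructor
        · rintro ⟨z, hz⟩ i
          have h1 := (coords e P).injective hz
          rw [← h1]
          exact (z i).2
        · intro hx
          exact ⟨fun i => ⟨_, hx i⟩, rfl⟩
      have hrd : ∀ U : Submodule F (Fin 4 → F), Module.finrank F (rows U) = 3 * Module.finrank F U := by
        intro U
        rw [LinearMap.finrank_range_of_inj, Module.finrank_pi_fintype, Finset.sum_const, Finset.card_univ,
          Fintype.card_fin, smul_eq_mul]
        intro z z' hzz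
        have h1 := (coords e P).injective hzz
        exact funext fun i => Subtype.ext (funext fun j => congrFun h1 (i, j))
      have hUd : Module.finrank F U = 2 := by rw [hUdef, LinearEquiv.finrank_map_eq, finrank_leftPlane hu]
      have hTS : IsTotallySingularQuad Q (rows U) := by
        intro v hv
        obtain ⟨x, rfl⟩ := (coords e P).surjective v
        have hx := (hrows U x).1 hv
        have hrow : ∀ i i', (fun j => x (i, j)) ⬝ᵥ (T *ᵥ fun j => x (i', j)) = 0 := by
          intro i i'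
          obtain ⟨w, ⟨v, rfl⟩, hw⟩ := hx i
          obtain ⟨w', ⟨v', rfl⟩, hw'⟩ := hx i'
          rw [← hw, ← hw']
          exact (hg _ _).trans (rot_pure u v v')
        have h1 : B (coords e P x) (coords e P x) = 0 := by
          rw [coords_apply, hform, hdot]
          simp only [dotProduct, Matrix.mulVec, Fintype.sum_prod_type, Matrix.kroneckerMap_apply, Finset.mul_sum]
          refine Finset.sum_eq_zero fun i _ => ?_
          rw [Finset.sum_comm]
          refine Finset.sum_eq_zero fun i' _ => ?_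
          have h3 := congrArg (fun t => S i i' * t) (hrow i i')
          simp only [dotProduct, Matrix.mulVec, Finset.mul_sum, mul_zero] at h3
          rw [← h3]
          exact Finset.sum_congr rfl fun j _ => Finset.sum_congr rfl fun j' _ => by ring
        rw [MaxSub.polar_self hQ] at h1
        exact (mul_eq_zero.1 h1).resolve_left h2
      have hmap : (rows U).map (Matrix.toLin' (mat h)) = rows (U.map (Matrix.toLin' (mat b))) := by
        refine Submodule.eq_of_le_of_finrank_eq ?_ (by
          rw [finrank_map_gl, hrd, hrd, finrank_map_gl])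
        rintro _ ⟨v, hv, rfl⟩
        obtain ⟨x, rfl⟩ := (coords e P).surjective v
        rw [Matrix.toLin'_apply, hab, tensorEquiv_mulVec, hrows]
        intro i
        have hrow : (fun j => ((mat a ⊗ₖ mat b) *ᵥ x) (i, j)) = ∑ i', mat a i i' • (mat b *ᵥ fun j => x (i', j)) := by
          funext j
          simp only [Matrix.mulVec, dotProduct, Fintype.sum_prod_type, Matrix.kroneckerMap_apply, Finset.sum_apply,
            Pi.smul_apply, smul_eq_mul, Finset.mul_sum]
          exact Finset.sum_congr rfl fun _ _ => Finset.sum_congr rfl fun _ _ => mul_assoc _ _ _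
        rw [hrow]
        exact Submodule.sum_mem _ fun i' _ => Submodule.smul_mem _ _ ⟨_, (hrows U x).1 hv i', Matrix.toLin'_apply _ _⟩
      have hinf : rows U ⊓ rows (U.map (Matrix.toLin' (mat b))) = rows (U ⊓ U.map (Matrix.toLin' (mat b))) := by
        ext v
        obtain ⟨x, rfl⟩ := (coords e P).surjective v
        simp only [Submodule.mem_inf, hrows, forall_and]
      have h6 := even_finrank_inf_omega hQ (m := 6) (by omega) (by norm_num) (hH hh) hTS
        (by rw [hrd, hUd]) hTS (by rw [hrd, hUd])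
      rw [hmap, inf_idem, hinf, hrd, hrd, hUd] at h6
      have hback : (U ⊓ U.map (Matrix.toLin' (mat b))) =
          (leftPlane u ⊓ (leftPlane u).map (Matrix.toLin' M)).map g.toLinearMap := by
        rw [Submodule.map_inf _ g.injective, ← hUdef, ← Submodule.map_comp]
        congr 1
        rw [← Submodule.map_comp]
        congr 1
        refine LinearMap.ext fun x => ?_
        simp only [LinearMap.comp_apply, LinearEquiv.coe_coe, Matrix.toLin'_apply, hMdef]
        rw [← Matrix.mulVec_mulVec, ← Matrix.mulVec_mulVec, hG, hG', LinearEquiv.apply_symm_apply]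
      rw [hback, LinearEquiv.finrank_map_eq] at h6
      rw [Nat.even_add] at h6
      have h7 := h6.2 (by decide)
      rcases Nat.even_mul.1 h7 with h | h
      · exact absurd h (by decide)
      · exact h
    obtain ⟨A, C, hA, hC, hAC⟩ := similitude_split h2 hMunit hsim hfam
    refine ⟨mat a, A, C, a.isUnit, hA, hC, ?_⟩
    rw [hab, ← hAC, hMdef]
    congr 2
    calc mat b = (G * G') * mat b * (G * G') := by rw [hGG, Matrix.one_mul, Matrix.mul_one]
      _ = G * (G' * mat b * G) * G' := by simp only [Matrix.mul_assoc]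
  -- regrouped coordinates
  let ε : Fin 3 × Fin 2 ≃ Fin 6 := finProdFinEquiv
  let ρ : Fin 2 × Fin 6 ≃ Fin 3 × Fin 2 × Fin 2 :=
    { toFun := fun x => ((ε.symm x.2).1, x.1, (ε.symm x.2).2)
      invFun := fun y => (y.2.1, ε (y.1, y.2.2))
      left_inv := fun x => by
        show (x.1, ε (ε.symm x.2)) = x
        rw [Equiv.apply_symm_apply]
      right_inv := fun y => by
        show ((ε.symm (ε (y.1, y.2.2))).1, y.2.1,
          (ε.symm (ε (y.1, y.2.2))).2) = y
        rw [Equiv.symm_apply_apply] }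
  let Φ : (Fin 2 × Fin 6 → F) ≃ₗ[F] (Fin 3 × Fin 4 → F) :=
    (LinearEquiv.funCongrLeft F F ρ.symm).trans
      ((LinearEquiv.curry F F (Fin 3) (Fin 2 × Fin 2)).trans
        ((LinearEquiv.piCongrRight fun _ => g).trans (LinearEquiv.curry F F (Fin 3) (Fin 4)).symm))
  have hΦ : ∀ x i j, Φ x (i, j) = (G *ᵥ fun p => x (ρ.symm (i, p))) j := fun x i j => by rw [hG]; rfl
  let e' : ι ≃ Fin 2 × Fin 6 :=
    Fintype.equivOfCardEq (by rw [hcard, Fintype.card_prod, Fintype.card_fin, Fintype.card_fin])
  let L : (ι → F) ≃ₗ[F] (ι → F) :=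
    ((LinearEquiv.funCongrLeft F F e'.symm).trans Φ).trans (coords e P)
  have hLu : IsUnit (LinearMap.toMatrix' L.toLinearMap) :=
    Matrix.mulVec_injective_iff_isUnit.1 fun x y h => L.injective (by
      simpa [LinearMap.toMatrix'_mulVec] using h)
  let P' : GL ι F := hLu.unit
  have hP' : ∀ x, coords e' P' x = coords e P (Φ x) := fun x => by
    rw [coords_apply]
    show LinearMap.toMatrix' L.toLinearMap *ᵥ (x ∘ e') = _
    rw [LinearMap.toMatrix'_mulVec]
    show coords e P (Φ ((x ∘ e') ∘ e'.symm)) = _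
    rw [show (x ∘ e') ∘ e'.symm = x from funext fun a => by simp]
  let T' : Matrix (Fin 6) (Fin 6) F :=
    (S ⊗ₖ rot F).submatrix ε.symm ε.symm
  refine ⟨e', P', T', ?_, ?_, fun h hh => ?_, fun x y => ?_⟩
  · refine (Matrix.isUnit_submatrix_equiv (ε.symm) (ε.symm)).2 ?_
    rw [Matrix.isUnit_iff_isUnit_det, Matrix.det_kronecker, hrot, one_pow, mul_one]
    exact (pow_ne_zero _ ((Matrix.isUnit_iff_isUnit_det _).1 hS).ne_zero).isUnit
  · show (Matrix.submatrix _ _ _)ᵀ = -Matrix.submatrix _ _ _
    rw [Matrix.transpose_submatrix, ← Matrix.kroneckerMap_transpose, hSs, rot_transpose]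
    ext p q
    simp [Matrix.kroneckerMap_apply]
  · obtain ⟨a, A, C, ha, hA, hC, hh'⟩ := hsplit h hh
    let D : Matrix (Fin 6) (Fin 6) F :=
      (a ⊗ₖ C).submatrix ε.symm ε.symm
    refine mem_tensorProductSubgroup_of (b := D) hA ((Matrix.isUnit_submatrix_equiv (ε.symm) (ε.symm)).2 ?_) ?_
    · rw [Matrix.isUnit_iff_isUnit_det, Matrix.det_kronecker]
      exact (mul_ne_zero (pow_ne_zero _ ((Matrix.isUnit_iff_isUnit_det _).1 ha).ne_zero)
        (pow_ne_zero _ ((Matrix.isUnit_iff_isUnit_det _).1 hC).ne_zero)).isUnit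
    refine Matrix.toLin'.injective (LinearMap.ext fun v => ?_)
    obtain ⟨x, rfl⟩ := (coords e' P').surjective v
    rw [Matrix.toLin'_apply, Matrix.toLin'_apply, tensorEquiv_mulVec, hP', hP', hh', tensorEquiv_mulVec]
    congr 1
    funext ⟨i, j⟩
    rw [hΦ]
    have hrow : (fun j => ((a ⊗ₖ (G * (A ⊗ₖ C) * G')) *ᵥ Φ x) (i, j)) =
        ∑ i', a i i' • (G *ᵥ ((A ⊗ₖ C) *ᵥ fun p => x (ρ.symm (i', p)))) := by
      have h1 : ∀ i', (G * (A ⊗ₖ C) * G') *ᵥ (fun j => Φ x (i', j)) =
          G *ᵥ ((A ⊗ₖ C) *ᵥ fun p => x (ρ.symm (i', p))) := fun i' => by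
        rw [show (fun j => Φ x (i', j)) = G *ᵥ fun p => x (ρ.symm (i', p)) from funext fun j => hΦ x i' j,
          Matrix.mulVec_mulVec, Matrix.mul_assoc, hG'G, Matrix.mul_one, ← Matrix.mulVec_mulVec]
      simp only [← h1]
      generalize G * (A ⊗ₖ C) * G' = N
      funext j
      simp only [Matrix.mulVec, dotProduct, Fintype.sum_prod_type, Matrix.kroneckerMap_apply, Finset.sum_apply,
        Pi.smul_apply, smul_eq_mul, Finset.mul_sum]
      exact Finset.sum_congr rfl fun _ _ => Finset.sum_congr rfl fun _ _ => mul_assoc _ _ _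
    rw [show ((a ⊗ₖ (G * (A ⊗ₖ C) * G')) *ᵥ Φ x) (i, j) = _ from congrFun hrow j]
    have hin : (fun p => ((A ⊗ₖ D) *ᵥ x) (ρ.symm (i, p))) =
        ∑ i', a i i' • ((A ⊗ₖ C) *ᵥ fun p => x (ρ.symm (i', p))) := by
      funext ⟨l, m⟩
      simp only [Matrix.mulVec, dotProduct, Finset.sum_apply, Pi.smul_apply, smul_eq_mul, Finset.mul_sum,
        Matrix.kroneckerMap_apply]
      rw [← Equiv.sum_comp ρ.symm, Fintype.sum_prod_type]
      refine Finset.sum_congr rfl fun i' _ => Finset.sum_congr rfl fun p _ => ?_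
      simp only [D, ρ, Equiv.coe_fn_symm_mk, Matrix.submatrix_apply, Equiv.symm_apply_apply,
        Matrix.kroneckerMap_apply]
      ring
    rw [hin, Matrix.mulVec_sum]
    simp only [Matrix.mulVec_smul]
  · show B (coords e' P' x) (coords e' P' y) = _
    rw [hP', hP', coords_apply, coords_apply, hform, hdot, hdot]
    have h1 : ∀ i i', (fun j => Φ x (i, j)) ⬝ᵥ (T *ᵥ fun j => Φ y (i', j)) =
        (fun p => x (ρ.symm (i, p))) ⬝ᵥ ((rot F ⊗ₖ rot F) *ᵥ fun p => y (ρ.symm (i', p))) :=
      fun i i' => hg _ _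
    calc Φ x ⬝ᵥ ((S ⊗ₖ T) *ᵥ Φ y)
        = ∑ i, ∑ i', S i i' * ((fun j => Φ x (i, j)) ⬝ᵥ (T *ᵥ fun j => Φ y (i', j))) := by
          simp only [dotProduct, Matrix.mulVec, Fintype.sum_prod_type, Matrix.kroneckerMap_apply, Finset.mul_sum]
          refine Finset.sum_congr rfl fun i _ => ?_
          rw [Finset.sum_comm]
          exact Finset.sum_congr rfl fun i' _ => Finset.sum_congr rfl fun j _ => Finset.sum_congr rfl fun j' _ => by ring
      _ = ∑ i, ∑ i', S i i' * ((fun p => x (ρ.symm (i, p))) ⬝ᵥ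
            ((rot F ⊗ₖ rot F) *ᵥ fun p => y (ρ.symm (i', p)))) := by simp only [h1]
      _ = _ := by
          simp only [dotProduct, Matrix.mulVec, Finset.mul_sum, Matrix.kroneckerMap_apply]
          rw [← Equiv.sum_comp ρ.symm (fun a => ∑ b, x a * _), Fintype.sum_prod_type]
          refine Finset.sum_congr rfl fun i _ => ?_
          rw [Finset.sum_comm]
          refine Finset.sum_congr rfl fun p _ => ?_
          rw [← Equiv.sum_comp ρ.symm (fun b => _ * (_ * y b)), Fintype.sum_prod_type]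
          refine Finset.sum_congr rfl fun i' _ => Finset.sum_congr rfl fun p' _ => ?_
          simp only [T', ρ, Equiv.coe_fn_symm_mk, Matrix.submatrix_apply, Equiv.symm_apply_apply,
            Matrix.kroneckerMap_apply]
          ring

end CfsgLib.AschbacherQuad
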