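import Cfsg.Agent.AschbacherQuad.SmallFields
import Cfsg.Agent.AschbacherQuad.TensorSplit
import Cfsg.Agent.AschbacherQuad.Descent
import Cfsg.Agent.AschbacherForms.Twelve
import Cfsg.Agent.AschbacherTwelve.Basic
import Cfsg.Agent.CharTwo.AlternatingForm

/-!
The outcomes of the reduction for maximal subgroups of `Ω` in dimension twelve.
-/

set_option autoImplicit false
set_option linter.unusedSectionVars false
set_option linter.style.haveILetI false
set_option maxHeartbeats 1000000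

namespace CfsgLib.AschbacherQuad

attribute [-simp] RingEquiv.coe_refl

open Matrix Cfsg.Geo CfsgLib.Aschbacher CfsgLib.AschbacherForms
open scoped Kronecker

variable {ι : Type} [Fintype ι] [DecidableEq ι] {F : Type*} [Field F] [Fintype F] {Q : (ι → F) → F}

local notation "B" => QuadraticMap.polar Q

theorem two_eq_zero_of_not_odd (h : ¬ Odd (Fintype.card F)) : (2 : F) = 0 := by
  by_contra h2
  exact h (Nat.odd_iff.2 (FiniteField.odd_card_of_char_ne_two fun hc => h2 (by
    haveI := ringChar.of_eq hc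
    exact CharTwo.two_eq_zero)))

theorem odd_card_of_two_ne_zero (h : (2 : F) ≠ 0) : Odd (Fintype.card F) := by
  by_contra ho
  exact h (two_eq_zero_of_not_odd ho)

/-- In characteristic two non-degenerate subspaces have even dimension. -/
theorem two_ne_zero_of_odd_finrank (hQ : IsNondegenerateQuadraticForm Q) {W : Submodule F (ι → F)}
    (hW : IsNondegenerateOn (B) W) (ho : Odd (Module.finrank F W)) : (2 : F) ≠ 0 := by
  intro h2
  have hb := hQ.polar_bilinear
  let BW : W →ₗ[F] W →ₗ[F] F := LinearMap.mk₂ F (fun x y : W => B (x : ι → F) (y : ι → F))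
    (fun x x' y => hb.add_left _ _ _) (fun c x y => hb.smul_left _ _ _)
    (fun x y y' => hb.add_right _ _ _) (fun c x y => hb.smul_right _ _ _)
  refine Nat.not_even_iff_odd.2 ho (CharTwo.even_finrank_of_isAlt _ BW rfl (fun x => ?_) fun x hx => ?_)
  · show B (x : ι → F) (x : ι → F) = 0
    rw [MaxSub.polar_self hQ, h2, zero_mul]
  · by_contra h0
    obtain ⟨-, y, hy, hne⟩ := hW x.1 x.2 fun h => h0 (Subtype.ext h)
    exact hne (hx ⟨y, hy⟩)

/-- The field with four or fewer than six elements has no six elements. -/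
theorem card_ne_six : Fintype.card F ≠ 6 := by
  intro h
  obtain ⟨p, hp⟩ := CharP.exists F
  haveI := hp
  obtain ⟨n, hpp, hn⟩ := FiniteField.card F p
  rw [h] at hn
  have h2 : p ∣ 2 * 3 := by rw [show 2 * 3 = p ^ (n : ℕ) from hn]; exact dvd_pow_self p n.ne_zero
  rcases (Nat.Prime.dvd_mul hpp).1 h2 with h3 | h3
  · rw [(Nat.prime_dvd_prime_iff_eq hpp Nat.prime_two).1 h3] at hn
    have h4 : 3 ∣ 2 ^ (n : ℕ) := hn ▸ (by norm_num)
    exact absurd ((Nat.prime_dvd_prime_iff_eq Nat.prime_three Nat.prime_two).1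
      (Nat.prime_three.dvd_of_dvd_pow h4)) (by norm_num)
  · rw [(Nat.prime_dvd_prime_iff_eq hpp Nat.prime_three).1 h3] at hn
    have h4 : 2 ∣ 3 ^ (n : ℕ) := hn ▸ (by norm_num)
    exact absurd ((Nat.prime_dvd_prime_iff_eq Nat.prime_two Nat.prime_three).1
      (Nat.prime_two.dvd_of_dvd_pow h4)) (by norm_num)

/-- A hyperbolic plane over at most three elements has a distinguished non-singular line. -/
theorem plus_plane_line (hQ : IsNondegenerateQuadraticForm Q) (hq : Fintype.card F ≤ 3) {H : Subgroup (GL ι F)}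
    (hfix : FixesQuadForm (matrixSet H) Q) {W : Submodule F (ι → F)} (hW : IsNondegenerateOn (B) W)
    (hWd : Module.finrank F W = 2) (hp : IsPlusTypeOn Q W) (hle : H ≤ subspaceStabilizer W) :
    ∃ v, Q v ≠ 0 ∧ H ≤ subspaceStabilizer (Submodule.span F {v}) := by
  obtain ⟨e, f, he, hf, -, -, -, hspan, hval⟩ := exists_hyperbolic_basis hQ hW hWd hp
  refine ⟨(1 : F) • e + (1 : F) • f, by rw [hval, one_mul]; exact one_ne_zero, fun g hg => ?_⟩
  rw [mem_subspaceStabilizer_iff]
  intro x hx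
  obtain ⟨a, rfl⟩ := Submodule.mem_span_singleton.1 hx
  rw [Matrix.mulVec_smul]
  refine Submodule.smul_mem _ _ (Submodule.mem_span_singleton.2 ?_)
  obtain ⟨c, d, hcd⟩ := hspan _
    (mem_subspaceStabilizer_iff.1 (hle hg) _ (W.add_mem (W.smul_mem (1 : F) he) (W.smul_mem (1 : F) hf)))
  have h1 : c * d = 1 := by
    rw [← hval, hcd, hfix _ (mem_matrixSet hg), hval, one_mul]
  have hc0 : c ≠ 0 := left_ne_zero_of_mul (h1 ▸ one_ne_zero)
  have h2 := FiniteField.pow_card_sub_one_eq_one c hc0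
  have h3 : d = c := by
    have hq' : Fintype.card F = 2 ∨ Fintype.card F = 3 := by
      have := Fintype.one_lt_card (α := F); omega
    rcases hq' with h | h <;> rw [h] at h2
    · rw [pow_one] at h2
      subst h2
      rw [← h1, one_mul]
    · calc d = c ^ 2 * d := by rw [show c ^ 2 = 1 from h2, one_mul]
        _ = c * (c * d) := by ring
        _ = c := by rw [h1, mul_one]
  exact ⟨c, by rw [← hcd, h3, smul_add, smul_smul, smul_smul, mul_one]⟩

/-- Maximal subgroups fixing a proper subspace. -/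
theorem reducible_cases (hQ : IsNondegenerateQuadraticForm Q) (h12 : Fintype.card ι = 12)
    {H : Subgroup (GL ι F)} (hH : IsMaximalIn (omegaGL Q) H) (hirr : ¬ ActsIrreducibly (matrixSet H)) :
    (∃ W : Submodule F (ι → F), W ≠ ⊥ ∧ IsTotallySingularQuad Q W ∧ H = subspaceStabilizer W ⊓ omegaGL Q) ∨
    (Odd (Fintype.card F) ∧ ∃ W : Submodule F (ι → F), W ≠ ⊥ ∧ W ≠ ⊤ ∧ Odd (Module.finrank F W) ∧
      2 * Module.finrank F W ≠ 12 ∧ IsNondegenerateOn (B) W ∧ H = subspaceStabilizer W ⊓ omegaGL Q) ∨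
    (∃ W : Submodule F (ι → F), Module.finrank F W = 2 ∧ IsNondegenerateOn (B) W ∧ ¬ IsPlusTypeOn Q W ∧
      H = subspaceStabilizer W ⊓ omegaGL Q) ∨
    (4 ≤ Fintype.card F ∧ ∃ W : Submodule F (ι → F), Module.finrank F W = 2 ∧ IsNondegenerateOn (B) W ∧
      IsPlusTypeOn Q W ∧ H = subspaceStabilizer W ⊓ omegaGL Q) ∨
    (∃ W : Submodule F (ι → F), Module.finrank F W = 4 ∧ IsNondegenerateOn (B) W ∧
      H = subspaceStabilizer W ⊓ omegaGL Q) ∨
    (∃ W : Submodule F (ι → F), Module.finrank F W = 6 ∧ IsNondegenerateOn (B) W ∧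
      H ≤ subspaceStabilizer W ∧ H = subspaceStabilizer W ⊓ omegaGL Q) ∨
    (¬ Odd (Fintype.card F) ∧ ∃ v : ι → F, Q v ≠ 0 ∧
      H = subspaceStabilizer (Submodule.span F {v}) ⊓ omegaGL Q) := by
  classical
  have hf := isReflexive_polar hQ
  have hb := hQ.polar_bilinear
  have hn7 : 7 ≤ Fintype.card ι := by omega
  have hHS : H ≤ omegaGL Q := hH.1.le
  obtain ⟨hfix, hfixB⟩ := fixes_of_le hHS
  have heq : ∀ {W : Submodule F (ι → F)}, H ≤ subspaceStabilizer W → W ≠ ⊥ → W ≠ ⊤ →
      H = subspaceStabilizer W ⊓ omegaGL Q := fun hle h0 h1 =>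
    eq_inf_of_maximal hH hle (not_le_subspaceStabilizer hQ hn7 h0 h1)
  have hiso : ∀ g ∈ H, ∀ u v, B (mat g *ᵥ u) (mat g *ᵥ v) = B u v := fixesForm_iff.1 hfixB
  rw [actsIrreducibly_iff] at hirr
  push Not at hirr
  obtain ⟨W₀, hW₀, hW0, hW1⟩ := hirr
  -- singular vectors in the radical
  have hts : ∀ R : Submodule F (ι → F), H ≤ subspaceStabilizer R → IsTotallySingularFor (B) R →
      (∃ x ∈ R, x ≠ 0 ∧ Q x = 0) →
      ∃ W : Submodule F (ι → F), W ≠ ⊥ ∧ IsTotallySingularQuad Q W ∧ H = subspaceStabilizer W ⊓ omegaGL Q := by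
    intro R hR hRt ⟨x, hx, hx0, hqx⟩
    let S : Submodule F (ι → F) :=
      { carrier := {y | y ∈ R ∧ Q y = 0}
        add_mem' := fun {a b} ha hb' => ⟨R.add_mem ha.1 hb'.1, by
          rw [MaxSub.quad_add (Q := Q), ha.2, hb'.2, hRt a ha.1 b hb'.1, add_zero, add_zero]⟩
        zero_mem' := ⟨R.zero_mem, MaxSub.quad_zero hQ⟩
        smul_mem' := fun c a ha => ⟨R.smul_mem c ha.1, by rw [hQ.smul, ha.2, mul_zero]⟩ }
    have hS : H ≤ subspaceStabilizer S := fun g hg => mem_subspaceStabilizer_iff.2 fun y hy =>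
      ⟨mem_subspaceStabilizer_iff.1 (hR hg) y hy.1, (hfix _ (mem_matrixSet hg) y).trans hy.2⟩
    have hS0 : S ≠ ⊥ := fun h => hx0 ((Submodule.mem_bot F).1 (h ▸ (⟨hx, hqx⟩ : x ∈ S)))
    have hS1 : S ≠ ⊤ := by
      intro h
      obtain ⟨y, hy⟩ := (hQ.nondegenerate x hx0).1
      have hy' : y ∈ S := h ▸ Submodule.mem_top
      exact hy (hRt y hy'.1 x hx)
    exact ⟨S, hS0, fun y hy => hy.2, heq hS hS0 hS1⟩
  -- non-singular lines
  have hvec : ∀ v : ι → F, Q v ≠ 0 → H ≤ subspaceStabilizer (Submodule.span F {v}) →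
      (Odd (Fintype.card F) ∧ ∃ W : Submodule F (ι → F), W ≠ ⊥ ∧ W ≠ ⊤ ∧ Odd (Module.finrank F W) ∧
        2 * Module.finrank F W ≠ 12 ∧ IsNondegenerateOn (B) W ∧ H = subspaceStabilizer W ⊓ omegaGL Q) ∨
      (¬ Odd (Fintype.card F) ∧ ∃ v : ι → F, Q v ≠ 0 ∧
        H = subspaceStabilizer (Submodule.span F {v}) ⊓ omegaGL Q) := by
    intro v hv hle
    have hv0 : v ≠ 0 := fun h => hv (h ▸ MaxSub.quad_zero hQ)
    have hd : Module.finrank F (Submodule.span F {v}) = 1 := finrank_span_singleton hv0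
    have h0 : Submodule.span F {v} ≠ ⊥ := fun h => by rw [h, finrank_bot] at hd; omega
    have h1 : Submodule.span F {v} ≠ ⊤ := fun h => by
      rw [h, finrank_top, Module.finrank_fintype_fun_eq_card] at hd; omega
    by_cases hodd : Odd (Fintype.card F)
    · refine Or.inl ⟨hodd, _, h0, h1, by rw [hd]; exact odd_one, by omega, ?_, heq hle h0 h1⟩
      rw [hf.isNondegenerateOn_iff, eq_bot_iff]
      rintro x ⟨hx, hx'⟩
      obtain ⟨c, rfl⟩ := Submodule.mem_span_singleton.1 hx
      have h3 := hx' v (Submodule.mem_span_singleton_self v)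
      rw [hb.smul_left, MaxSub.polar_self hQ] at h3
      rw [Submodule.mem_bot,
        (mul_eq_zero.1 h3).resolve_right (mul_ne_zero (MaxSub.two_ne_zero_of_odd hodd) hv), zero_smul]
    · exact Or.inr ⟨hodd, v, hv, heq hle h0 h1⟩
  have hWp : ∀ {W : Submodule F (ι → F)}, H ≤ subspaceStabilizer W → H ≤ subspaceStabilizer (hf.perp W) :=
    fun hW g hg => hf.stabilizer_perp (hiso g hg) (hW hg)
  by_cases hrad : W₀ ⊓ hf.perp W₀ = ⊥
  swap
  · set R := W₀ ⊓ hf.perp W₀ with hR
    have hRs : H ≤ subspaceStabilizer R := fun g hg => mem_subspaceStabilizer_iff.2 fun w hw =>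
      ⟨mem_subspaceStabilizer_iff.1 (hW₀ hg) w hw.1, mem_subspaceStabilizer_iff.1 (hWp hW₀ hg) w hw.2⟩
    have hRt : IsTotallySingularFor (B) R := fun u hu v hv => hu.2 v hv.1
    by_cases hx : ∃ x ∈ R, x ≠ 0 ∧ Q x = 0
    · exact Or.inl (hts R hRs hRt hx)
    push Not at hx
    obtain ⟨v, hv, hv0⟩ := (Submodule.ne_bot_iff R).1 hrad
    have hline : R = Submodule.span F {v} := by
      refine le_antisymm (fun y hy => ?_) ((Submodule.span_singleton_le_iff_mem _ _).2 hv)
      by_cases hodd : Odd (Fintype.card F)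
      · have h1 : B v v = 0 := hRt v hv v hv
        rw [MaxSub.polar_self hQ] at h1
        exact absurd ((mul_eq_zero.1 h1).resolve_left (MaxSub.two_ne_zero_of_odd hodd)) (hx v hv hv0)
      · have h2 := two_eq_zero_of_not_odd hodd
        obtain ⟨c, hc⟩ := FiniteField.isSquare_of_char_two (by
          by_contra hc
          exact hodd (Nat.odd_iff.2 (FiniteField.odd_card_of_char_ne_two hc))) (Q y / Q v)
        rw [Submodule.mem_span_singleton]
        refine ⟨c, (sub_eq_zero.1 ?_).symm⟩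
        by_contra hne
        refine hx _ (R.sub_mem hy (R.smul_mem c hv)) hne ?_
        rw [sub_eq_add_neg, ← neg_smul, MaxSub.quad_add (Q := Q), hQ.smul, hb.smul_right, hRt y hy v hv,
          show (-c) ^ 2 = c * c by ring, ← hc, div_mul_cancel₀ _ (hx v hv hv0)]
        linear_combination Q y * h2
    rcases hvec v (hx v hv hv0) (hline ▸ hRs) with h | h
    · exact Or.inr (Or.inl h)
    · exact Or.inr (Or.inr (Or.inr (Or.inr (Or.inr (Or.inr h)))))
  have hnd₀ := hf.isNondegenerateOn_iff.2 hrad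
  obtain ⟨W, hW, hW0, hnd, hd6⟩ : ∃ W : Submodule F (ι → F), H ≤ subspaceStabilizer W ∧ W ≠ ⊥ ∧
      IsNondegenerateOn (B) W ∧ Module.finrank F W ≤ 6 := by
    by_cases h6 : Module.finrank F W₀ ≤ 6
    · exact ⟨W₀, hW₀, hW0, hnd₀, h6⟩
    have hd := hf.finrank_perp W₀
    rw [h12] at hd
    refine ⟨hf.perp W₀, hWp hW₀, fun h => hW1 ?_, hf.isNondegenerateOn_perp hnd₀, by omega⟩
    rw [← hf.perp_perp W₀, h]
    exact eq_top_iff.2 fun x _ w hw => by rw [(Submodule.mem_bot F).1 hw, hf.zero_right]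
  have hW1' : W ≠ ⊤ := fun h => by rw [h, finrank_top, Module.finrank_fintype_fun_eq_card] at hd6; omega
  have hd0 : Module.finrank F W ≠ 0 := fun h => hW0 (Submodule.finrank_eq_zero.1 h)
  rcases Nat.even_or_odd (Module.finrank F W) with he | ho
  · obtain ⟨r, hr⟩ := he
    obtain h | h | h : Module.finrank F W = 2 ∨ Module.finrank F W = 4 ∨ Module.finrank F W = 6 := by omega
    · by_cases hp : IsPlusTypeOn Q W
      · by_cases hq : 4 ≤ Fintype.card F
        · exact Or.inr (Or.inr (Or.inr (Or.inl ⟨hq, W, h, hnd, hp, heq hW hW0 hW1'⟩)))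
        · obtain ⟨v, hv, hle⟩ := plus_plane_line hQ (by omega) hfix hnd h hp hW
          rcases hvec v hv hle with h' | h'
          · exact Or.inr (Or.inl h')
          · exact Or.inr (Or.inr (Or.inr (Or.inr (Or.inr (Or.inr h')))))
      · exact Or.inr (Or.inr (Or.inl ⟨W, h, hnd, hp, heq hW hW0 hW1'⟩))
    · exact Or.inr (Or.inr (Or.inr (Or.inr (Or.inl ⟨W, h, hnd, heq hW hW0 hW1'⟩))))
    · exact Or.inr (Or.inr (Or.inr (Or.inr (Or.inr (Or.inl ⟨W, h, hnd, hW, heq hW hW0 hW1'⟩)))))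
  · exact Or.inr (Or.inl ⟨odd_card_of_two_ne_zero (two_ne_zero_of_odd_finrank hQ hnd ho), W, hW0, hW1', ho,
      fun h => by obtain ⟨r, hr⟩ := ho; omega, hnd, heq hW hW0 hW1'⟩)

/-- Tensor decompositions with factors of dimensions two and six. -/
theorem tensor_two_six_cases (hQ : IsNondegenerateQuadraticForm Q) (h12 : Fintype.card ι = 12)
    {H : Subgroup (GL ι F)} (hfix : FixesQuadForm (matrixSet H) Q) (hfixB : FixesForm (matrixSet H) (B))
    (hirr : ActsIrreducibly (matrixSet H)) (ht : HasFormTensorOf (RingEquiv.refl F) (B) H 2 6) :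
    (∃ (e : ι ≃ Fin 2 × Fin 6) (P : GL ι F) (S : Matrix (Fin 2) (Fin 2) F) (T : Matrix (Fin 6) (Fin 6) F),
      IsSymplecticForm (formOf (RingEquiv.refl F) S) ∧ IsSymplecticForm (formOf (RingEquiv.refl F) T) ∧
      H ≤ tensorProductSubgroup 2 6 e P ∧
      (∀ (y : Fin 2 → F) (z : Fin 6 → F), Q (mat P *ᵥ (AschbacherForms.pure y z ∘ e)) = 0) ∧
      ∀ x y : Fin 2 × Fin 6 → F, B (mat P *ᵥ (x ∘ e)) (mat P *ᵥ (y ∘ e)) =
        formOfGram (RingEquiv.refl F) (S ⊗ₖ T) x y) ∨
    (∃ D : Fin 2 → Submodule F (ι → F), IsMDecomposition 6 D ∧ (∀ i, IsTotallySingularQuad Q (D i)) ∧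
      H ≤ decompositionStabilizer D) ∨
    ∃ K : Subalgebra F (Matrix ι ι F), IsFieldSubalgebra 2 K ∧ H ≤ subalgebraNormalizer K := by
  classical
  haveI : Nonempty ι := Fintype.card_pos_iff.1 (by omega)
  have hf := isReflexive_polar hQ
  obtain ⟨e, P, S, T, hS, hT, hle, hform⟩ := ht
  have hS0 := hS.ne_zero
  have hT0 := hT.ne_zero
  obtain ⟨a, b, ha, hSa, hTb, hab⟩ := factors_reflexive hf hS0 hT0 hform
  have hrefl : ∀ {n : ℕ} (M : Matrix (Fin n) (Fin n) F), Mᵀ.map (RingEquiv.refl F) = Mᵀ :=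
    fun M => Matrix.ext fun _ _ => rfl
  rw [hrefl] at hSa hTb
  obtain ⟨i, j, hij⟩ : ∃ i j, S i j ≠ 0 := by
    by_contra hn; push Not at hn; exact hS0 (Matrix.ext hn)
  have e1 : S j i = a * S i j := congrFun (congrFun hSa i) j
  have e2 : S i j = a * S j i := congrFun (congrFun hSa j) i
  have h3 : (a * a - 1) * S i j = 0 := by linear_combination -e2 - a * e1
  have h4 := (mul_eq_zero.1 h3).resolve_right hij
  by_cases h2 : (2 : F) = 0
  · haveI : CharP F 2 := CharTwo.of_one_ne_zero_of_two_eq_zero one_ne_zero h2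
    have ha1 : a = 1 := by
      have h5 : (a - 1) * (a - 1) = 0 := by linear_combination h4 - (a - 1) * h2
      exact sub_eq_zero.1 (mul_self_eq_zero.1 h5)
    subst ha1
    rw [show b = 1 by linear_combination hab, one_smul] at hTb
    rw [one_smul] at hSa
    have hdS := left_factor_alternating hf hfixB hirr h2 le_rfl (by norm_num) hle hS0 hT0 hform
    have hdT := left_factor_alternating hf hfixB hirr h2 (by norm_num) (by norm_num)
      (hle.trans (tensorProductSubgroup_swap e P)) hT0 hS0 (formTensor_swap hform)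
    have hS' := formOf_self_of_diag h2 hSa hdS
    have hT' := formOf_self_of_diag h2 hTb hdT
    refine Or.inl ⟨e, P, S, T, ⟨isBilinearForm_formOf S, fun u v => ?_, hS', nondegenerate_formOf _ hS⟩,
      ⟨isBilinearForm_formOf T, fun u v => ?_, hT', nondegenerate_formOf _ hT⟩, hle,
      pure_singular_of_two hQ h2 (by omega) hfix hfixB hirr hle hS' hT' hform, hform⟩
    · rw [CharTwo.neg_eq, formOf_symm (a := 1) (by rw [one_smul]; exact hSa) v u, one_mul]
    · rw [CharTwo.neg_eq, formOf_symm (a := 1) (by rw [one_smul]; exact hTb) v u, one_mul]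
  rcases mul_self_eq_one_iff.1 (sub_eq_zero.1 h4) with h | h <;> subst h
  · rw [one_smul] at hSa
    rcases binary_factor_dichotomy hf h2 hfixB hirr hS hT hSa hle hform with
      ⟨n, D, hD, hn, hts, hle'⟩ | ⟨K, hK, -, -, hle', -⟩
    · obtain rfl : n = 6 := by omega
      refine Or.inr (Or.inl ⟨D, hD, fun i x hx => ?_, hle'⟩)
      have h1 : B x x = 0 := hts i x hx x hx
      rw [MaxSub.polar_self hQ] at h1
      exact (mul_eq_zero.1 h1).resolve_left h2
    · exact Or.inr (Or.inr ⟨K, hK, hle'⟩)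
  · rw [neg_one_smul] at hSa
    rw [show b = -1 by linear_combination -hab, neg_one_smul] at hTb
    exact Or.inl ⟨e, P, S, T, isSymplecticForm_formOf hS hSa (formOf_self_of_skew h2 hSa),
      isSymplecticForm_formOf hT hTb (formOf_self_of_skew h2 hTb), hle, pure_singular_of_skew hQ h2 hSa hform, hform⟩

/-- Tensor decompositions with factors of dimensions three and four have symmetric factors in odd characteristic. -/
theorem tensor_three_four_cases (hQ : IsNondegenerateQuadraticForm Q) (h12 : Fintype.card ι = 12)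
    {H : Subgroup (GL ι F)} (hfixB : FixesForm (matrixSet H) (B))
    (hirr : ActsIrreducibly (matrixSet H)) (ht : HasFormTensorOf (RingEquiv.refl F) (B) H 3 4) :
    (2 : F) ≠ 0 ∧ ∃ (e : ι ≃ Fin 3 × Fin 4) (P : GL ι F) (S : Matrix (Fin 3) (Fin 3) F)
      (T : Matrix (Fin 4) (Fin 4) F), IsUnit S ∧ IsUnit T ∧ Sᵀ = S ∧ Tᵀ = T ∧
      H ≤ tensorProductSubgroup 3 4 e P ∧
      ∀ x y : Fin 3 × Fin 4 → F, B (mat P *ᵥ (x ∘ e)) (mat P *ᵥ (y ∘ e)) =
        formOfGram (RingEquiv.refl F) (S ⊗ₖ T) x y := by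
  classical
  haveI : Nonempty ι := Fintype.card_pos_iff.1 (by omega)
  have hf := isReflexive_polar hQ
  obtain ⟨e, P, S, T, hS, hT, hle, hform⟩ := ht
  have hS0 := hS.ne_zero
  have hT0 := hT.ne_zero
  have hdet := ((Matrix.isUnit_iff_isUnit_det _).1 hS).ne_zero
  obtain ⟨a, b, ha, hSa, hTb, hab⟩ := factors_reflexive hf hS0 hT0 hform
  have hrefl : ∀ {n : ℕ} (M : Matrix (Fin n) (Fin n) F), Mᵀ.map (RingEquiv.refl F) = Mᵀ :=
    fun M => Matrix.ext fun _ _ => rfl
  rw [hrefl] at hSa hTb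
  obtain ⟨i, j, hij⟩ : ∃ i j, S i j ≠ 0 := by
    by_contra hn; push Not at hn; exact hS0 (Matrix.ext hn)
  have e1 : S j i = a * S i j := congrFun (congrFun hSa i) j
  have e2 : S i j = a * S j i := congrFun (congrFun hSa j) i
  have h3 : (a * a - 1) * S i j = 0 := by linear_combination -e2 - a * e1
  have h4 := (mul_eq_zero.1 h3).resolve_right hij
  have h2 : (2 : F) ≠ 0 := by
    intro h2
    have ha1 : a = 1 := by
      have h5 : (a - 1) * (a - 1) = 0 := by linear_combination h4 - (a - 1) * h2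
      exact sub_eq_zero.1 (mul_self_eq_zero.1 h5)
    rw [ha1, one_smul] at hSa
    have hd := left_factor_alternating hf hfixB hirr h2 (by norm_num) (by norm_num) hle hS0 hT0 hform
    refine hdet ?_
    have s10 : S 1 0 = S 0 1 := congrFun (congrFun hSa 0) 1
    have s20 : S 2 0 = S 0 2 := congrFun (congrFun hSa 0) 2
    have s21 : S 2 1 = S 1 2 := congrFun (congrFun hSa 1) 2
    rw [Matrix.det_fin_three, hd 0, hd 1, hd 2, s10, s20, s21]
    linear_combination (S 0 1 * S 1 2 * S 0 2) * h2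
  rcases mul_self_eq_one_iff.1 (sub_eq_zero.1 h4) with h | h <;> subst h
  · rw [one_smul] at hSa
    rw [show b = 1 by linear_combination hab, one_smul] at hTb
    exact ⟨h2, e, P, S, T, hS, hT, hSa, hTb, hle, hform⟩
  · exfalso
    rw [neg_one_smul] at hSa
    have hd := congrArg Matrix.det hSa
    rw [Matrix.det_transpose, Matrix.det_neg, Fintype.card_fin] at hd
    have h0 : (2 : F) * S.det = 0 := by linear_combination hd
    exact hdet ((mul_eq_zero.1 h0).resolve_left h2)

/-- Almost simple groups give subfield groups or the residual class. -/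
theorem core_cases (hQ : IsNondegenerateQuadraticForm Q) (hn : 2 ≤ Fintype.card ι) {H P : Subgroup (GL ι F)}
    (hfix : FixesQuadForm (matrixSet H) Q) (hfixB : FixesForm (matrixSet H) (B))
    (hirr : ActsIrreducibly (matrixSet H)) (hP : IsSimpleCore H P) :
    (∃ (F₀ : Subfield F) (r : ℕ) (A : GL ι F) (ζ : F), r.Prime ∧ F₀ ≠ ⊤ ∧ Fintype.card F = Nat.card F₀ ^ r ∧
      ζ ≠ 0 ∧ IsQuadFormRationalStructure (fun v => ζ * Q v) F₀ A ∧ H ≤ subfieldSubgroup F₀ A) ∨
    InOrthogonalResidualClass H := by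
  haveI : Nonempty ι := Fintype.card_pos_iff.1 (by omega)
  have hf := isReflexive_polar hQ
  have hPfix : FixesForm (matrixSet P) (B) := fun s hs => hfixB s (Set.image_mono hP.le hs)
  by_cases hreal : ∃ F₀ : Subfield F, F₀ ≠ ⊤ ∧ RealisableOver F₀ (matrixSet P)
  · obtain ⟨F₀, h0, hreal⟩ := hreal
    obtain ⟨F₁, r, A, ζ, hr, hcard, hζ, hrat, hle⟩ :=
      exists_form_subfield hf h0 hP.normal hP.absIrred hPfix hreal
    have hF₁ : F₁ ≠ ⊤ := by
      rintro rfl
      have h1 : Nat.card (⊤ : Subfield F) = Fintype.card F := by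
        rw [← Nat.card_eq_fintype_card]
        exact Nat.card_congr Subfield.topEquiv.toEquiv
      rw [h1] at hcard
      nth_rw 1 [← pow_one (Fintype.card F)] at hcard
      exact hr.ne_one (Nat.pow_right_injective Fintype.one_lt_card hcard).symm
    exact Or.inl ⟨F₁, r, A, ζ, hr, hF₁, hcard, hζ, quad_rational hQ hn hζ hrat hfix hirr hle, hle⟩
  · refine Or.inr ⟨P, hP.toResidualCore fun F₀ h0 hr => hreal ⟨F₀, h0, hr⟩, ?_⟩
    rintro ⟨σ, f, hf', hfix'⟩
    exact hreal (realisable_of_two_forms hf hf' hP.absIrred hPfix hfix')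

end CfsgLib.AschbacherQuad
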