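import Cfsg.Agent.AschbacherQuad.Planes
import Cfsg.Agent.MaxSub.SlotForms
import Cfsg.Agent.MaxSub.SocleSection
import Cfsg.Agent.MaxSub.AbelianSocleClasses
import Cfsg.Agent.MaxSub.OrthOddStructure

/-!
In dimension eight socles of symplectic type and tensor cubes occur only for forms of plus type.
-/

set_option autoImplicit false
set_option linter.unusedSectionVars false
set_option linter.style.haveILetI false
set_option maxHeartbeats 1000000

namespace CfsgLib.AschbacherQuad

attribute [-simp] RingEquiv.coe_refl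

open Matrix Cfsg.Geo CfsgLib.Aschbacher CfsgLib.AschbacherForms CfsgLib.MaxSub CfsgLib.TensorNonmax
open scoped Kronecker commutatorElement

variable {ι : Type} [Fintype ι] [DecidableEq ι] {F : Type*} [Field F] [Fintype F] {Q : (ι → F) → F}

local notation "B" => QuadraticMap.polar Q

/-- A perfect group preserving a symmetric, non-alternating form on a plane is trivial. -/
theorem perfect_isometry_two {β : (Fin 2 → F) → (Fin 2 → F) → F} (hs : IsSesq (RingEquiv.refl F) β)
    (hnd : IsNondegenerateForm β) (hsym : ∀ u v, β v u = β u v) {v₀ : Fin 2 → F} (hv₀ : β v₀ v₀ ≠ 0)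
    {G : Subgroup (GL (Fin 2) F)} (hG : ⁅G, G⁆ = G)
    (hiso : ∀ x ∈ G, ∀ u v, β (mat x *ᵥ u) (mat x *ᵥ v) = β u v) : G = ⊥ := by
  classical
  set S := gramMatrix β
  have hS : IsUnit S.det := (Matrix.isUnit_iff_isUnit_det _).1 (gram_isUnit hs hnd)
  let J : Matrix (Fin 2) (Fin 2) F := !![0, 1; -1, 0]
  let M := S⁻¹ * J
  have hSM : S * M = J := by rw [← mul_assoc, Matrix.mul_nonsing_inv _ hS, one_mul]
  have hdet : ∀ x : G, (mat x.1).det = 1 := fun x => by
    have h := perfect_hom_trivial hG (Matrix.GeneralLinearGroup.det.comp G.subtype) (fun a b => mul_comm _ _) x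
    exact congrArg Units.val h
  have hgr : ∀ x : G, (mat x.1)ᵀ * S * mat x.1 = S := fun x => by
    refine Matrix.ext fun i j => ?_
    have h1 : ((mat x.1)ᵀ * S * mat x.1) i j = β (mat x.1 *ᵥ Pi.single i 1) (mat x.1 *ᵥ Pi.single j 1) := by
      rw [hs.gram_eq]
      simp [Matrix.mul_apply, Fin.sum_univ_two, Matrix.mulVec, dotProduct, Pi.single_apply, S]
      fin_cases i <;> fin_cases j <;> ring
    rw [h1, hiso _ x.2]
    rfl
  have hJ : ∀ x : G, (mat x.1)ᵀ * J * mat x.1 = J := fun x => by
    have h := hdet x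
    rw [Matrix.det_fin_two] at h
    ext i j
    fin_cases i <;> fin_cases j <;> simp [J, Matrix.mul_apply, Fin.sum_univ_two] <;>
      first | ring1 | linear_combination h | linear_combination -h
  have hcomm : ∀ x : G, mat x.1 * M = M * mat x.1 := fun x => by
    have h1 : (mat x.1)ᵀ * S * (mat x.1 * M) = (mat x.1)ᵀ * S * (M * mat x.1) := by
      calc (mat x.1)ᵀ * S * (mat x.1 * M) = J := by rw [← mul_assoc, hgr, hSM]
        _ = (mat x.1)ᵀ * S * (M * mat x.1) := by
          rw [mul_assoc (mat x.1)ᵀ S, ← mul_assoc S M, hSM, ← mul_assoc]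
          exact (hJ x).symm
    have hu : IsUnit ((mat x.1)ᵀ * S) :=
      ((Matrix.isUnit_iff_isUnit_det _).2 (by rw [Matrix.det_transpose, hdet x]; exact isUnit_one)).mul
        (gram_isUnit hs hnd)
    exact hu.mul_left_cancel h1
  have hM : M 0 1 ≠ 0 ∨ M 1 0 ≠ 0 ∨ M 1 1 - M 0 0 ≠ 0 := by
    by_contra h
    push Not at h
    obtain ⟨h01, h10, h11⟩ := h
    apply hv₀
    have e00 := congrFun (congrFun hSM 0) 0
    have e11 := congrFun (congrFun hSM 1) 1
    have e01 := congrFun (congrFun hSM 0) 1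
    have e10 := congrFun (congrFun hSM 1) 0
    simp [J, Matrix.mul_apply, Fin.sum_univ_two, h01, h10] at e00 e11 e01 e10
    rw [sub_eq_zero.1 h11] at e11 e01
    have hm : M 0 0 ≠ 0 := fun h0 => by rw [h0, mul_zero] at e01; exact zero_ne_one e01
    have s00 : S 0 0 = 0 := e00.resolve_right hm
    have s11 : S 1 1 = 0 := e11.resolve_right hm
    have hsS : S 0 1 = S 1 0 := (hsym _ _).symm
    rw [← hsS, e01] at e10
    rw [hs.gram_eq]
    simp [Matrix.mulVec, dotProduct, Fin.sum_univ_two, show gramMatrix β = S from rfl, s00, s11, ← hsS]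
    linear_combination (v₀ 0 * v₀ 1 * S 0 1) * e10
  have hab : ∀ a b : G, MonoidHom.id G a * MonoidHom.id G b = MonoidHom.id G b * MonoidHom.id G a := by
    intro a b
    refine Subtype.ext (Units.ext ?_)
    show mat a.1 * mat b.1 = mat b.1 * mat a.1
    have key : ∀ x : G, mat x.1 0 1 * M 1 0 = mat x.1 1 0 * M 0 1 ∧
        mat x.1 0 1 * (M 1 1 - M 0 0) = M 0 1 * (mat x.1 1 1 - mat x.1 0 0) ∧
        mat x.1 1 0 * (M 1 1 - M 0 0) = M 1 0 * (mat x.1 1 1 - mat x.1 0 0) := fun x => by
      have h00 := congrFun (congrFun (hcomm x) 0) 0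
      have h01 := congrFun (congrFun (hcomm x) 0) 1
      have h10 := congrFun (congrFun (hcomm x) 1) 0
      simp [Matrix.mul_apply, Fin.sum_univ_two] at h00 h01 h10
      exact ⟨by linear_combination h00, by linear_combination h01, by linear_combination -h10⟩
    obtain ⟨a1, a2, a3⟩ := key a
    obtain ⟨b1, b2, b3⟩ := key b
    set A := mat a.1
    set C := mat b.1
    have p1 : A 0 1 * C 1 0 = A 1 0 * C 0 1 := by
      rcases hM with h | h | h <;> apply mul_left_cancel₀ h
      · linear_combination (C 0 1) * a1 - (A 0 1) * b1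
      · linear_combination (C 1 0) * a1 - (A 1 0) * b1
      · linear_combination (A 0 1) * b3 - (A 1 0) * b2 + (C 1 1 - C 0 0) * a1
    have p2 : A 0 1 * (C 1 1 - C 0 0) = C 0 1 * (A 1 1 - A 0 0) := by
      rcases hM with h | h | h <;> apply mul_left_cancel₀ h
      · linear_combination (C 0 1) * a2 - (A 0 1) * b2
      · linear_combination (C 1 1 - C 0 0) * a1 - (A 1 1 - A 0 0) * b1 - (A 1 0) * b2 + (C 1 0) * a2 - (M 1 1 - M 0 0) * p1
      · linear_combination (C 1 1 - C 0 0) * a2 - (A 1 1 - A 0 0) * b2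
    have p3 : A 1 0 * (C 1 1 - C 0 0) = C 1 0 * (A 1 1 - A 0 0) := by
      rcases hM with h | h | h <;> apply mul_left_cancel₀ h
      · linear_combination -(A 0 1) * b3 + (C 0 1) * a3 - (C 1 1 - C 0 0) * a1 + (A 1 1 - A 0 0) * b1 + (M 1 1 - M 0 0) * p1
      · linear_combination (C 1 0) * a3 - (A 1 0) * b3
      · linear_combination (C 1 1 - C 0 0) * a3 - (A 1 1 - A 0 0) * b3
    ext i j
    fin_cases i <;> fin_cases j <;> simp [Matrix.mul_apply, Fin.sum_univ_two]
    · linear_combination p1
    · linear_combination p2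
    · linear_combination -p3
    · linear_combination -p1
  rw [eq_bot_iff]
  intro x hx
  exact Subgroup.mem_bot.2 (congrArg Subtype.val (perfect_hom_trivial hG (MonoidHom.id G) hab ⟨x, hx⟩))

/-- A tensor cube of planes has plus type. -/
theorem plus_of_slotPower (hQ : IsNondegenerateQuadraticForm Q) {H : Subgroup (GL ι F)}
    (hfix : FixesQuadForm (matrixSet H) Q) (hirr : ActsIrreducibly (matrixSet H)) {e : ι ≃ (Fin 3 → Fin 2)}
    {P : GL ι F} {β : (Fin 2 → F) → (Fin 2 → F) → F} (h : IsSlotPower (RingEquiv.refl F) (B) H e P β) :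
    IsPlusTypeOn Q ⊤ := by
  classical
  have hf := isReflexive_polar hQ
  obtain ⟨c, hc, hform⟩ := h.form
  obtain ⟨a, ha, hr⟩ := h.refl
  simp only [RingEquiv.refl_apply] at ha hr
  have hex : ∃ u v, β u v ≠ 0 := by
    obtain ⟨-, y, hy⟩ := h.nondegenerate (Pi.single 0 1) (by simp)
    exact ⟨_, _, hy⟩
  obtain ⟨u₁, v₁, huv⟩ := hex
  have halt : ∀ v, β v v = 0 := by
    by_contra hh
    push Not at hh
    obtain ⟨v₀, hv₀⟩ := hh
    have ha1 : a = 1 := (mul_eq_right₀ hv₀).1 (hr v₀ v₀).symm
    obtain ⟨G, hG, hG0, hiso⟩ := h.perfect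
    exact hG0 (perfect_isometry_two h.sesq h.nondegenerate (fun u v => by rw [hr, ha1, one_mul]) hv₀ hG hiso)
  have hskew : β v₁ u₁ = -β u₁ v₁ := by
    have h1 := halt (u₁ + v₁)
    rw [h.sesq.add_left, h.sesq.add_right, h.sesq.add_right, halt, halt] at h1
    linear_combination h1
  have h2 : (2 : F) = 0 := by
    have h1 := MaxSub.polar_symm (Q := Q) (ptmul e P fun _ => u₁) (ptmul e P fun _ => v₁)
    rw [hform, hform] at h1
    simp only [Finset.prod_const, Finset.card_univ, Fintype.card_fin, hskew] at h1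
    have h3 : (2 : F) * (c * β u₁ v₁ ^ 3) = 0 := by
      linear_combination h1
    exact (mul_eq_zero.1 h3).resolve_right (mul_ne_zero hc (pow_ne_zero _ huv))
  haveI : CharP F 2 := CharTwo.of_one_ne_zero_of_two_eq_zero one_ne_zero h2
  have hchar : ringChar F = 2 := ringChar.eq F 2
  -- the values on pure tensors are squares of a linear function
  have hsq : ∀ x : F, ∃ s : F, x = s ^ 2 := fun x => by
    obtain ⟨s, hs⟩ := FiniteField.isSquare_of_char_two hchar x
    exact ⟨s, by rw [hs, sq]⟩
  have hinj : ∀ x y : F, x ^ 2 = y ^ 2 → x = y := fun x y hxy => by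
    have h1 : (x - y) ^ 2 = 0 := by linear_combination hxy + (y ^ 2 - x * y) * h2
    exact sub_eq_zero.1 (sq_eq_zero_iff.1 h1)
  choose r hr' using fun a : Fin 3 → Fin 2 => hsq (Q (cvec e P (Pi.single a 1)))
  obtain ⟨L, hL⟩ : ∃ L : (ι → F) →ₗ[F] F, ∀ a, L (cvec e P (Pi.single a 1)) = r a := by
    let C : ((Fin 3 → Fin 2) → F) ≃ₗ[F] (ι → F) := LinearEquiv.ofBijective (cvec e P)
      ((LinearMap.injective_iff_surjective_of_finrank_eq_finrank (by
        rw [Module.finrank_fintype_fun_eq_card, Module.finrank_fintype_fun_eq_card, Fintype.card_congr e])).1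
        (cvec_injective e P) |> fun hs => ⟨cvec_injective e P, hs⟩)
    refine ⟨(∑ a, r a • LinearMap.proj a : ((Fin 3 → Fin 2) → F) →ₗ[F] F).comp C.symm.toLinearMap, fun a => ?_⟩
    simp only [LinearMap.comp_apply, LinearEquiv.coe_coe]
    rw [show cvec e P (Pi.single a 1) = C (Pi.single a 1) from rfl, LinearEquiv.symm_apply_apply]
    simp [Pi.single_apply]
  have hslot : ∀ (xs : Fin 3 → Fin 2 → F) (i : Fin 3) (x y : Fin 2 → F) (l m : F),
      ptmul e P (Function.update xs i (l • x + m • y)) =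
        l • ptmul e P (Function.update xs i x) + m • ptmul e P (Function.update xs i y) := by
    intro xs i x y l m
    rw [ptmul, ptmul, ptmul, ← map_smul, ← map_smul, ← map_add]
    congr 1
    funext a
    simp only [prod_update_apply, Pi.add_apply, Pi.smul_apply, smul_eq_mul]
    ring
  have hpure : ∀ xs, Q (ptmul e P xs) = L (ptmul e P xs) ^ 2 := by
    have key : ∀ s : Finset (Fin 3), ∀ xs : Fin 3 → Fin 2 → F,
        (∀ i ∉ s, ∃ j, xs i = Pi.single j 1) → Q (ptmul e P xs) = L (ptmul e P xs) ^ 2 := by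
      intro s
      induction s using Finset.induction_on with
      | empty =>
        intro xs hxs
        choose j hj using fun i => hxs i (Finset.notMem_empty i)
        rw [show xs = fun i => Pi.single (j i) (1 : F) from funext hj, ptmul_single, hL, ← hr']
      | @insert k s hk ih =>
        intro xs hxs
        have hexp : xs k = (xs k 0) • Pi.single (0 : Fin 2) (1 : F) + (xs k 1) • Pi.single (1 : Fin 2) (1 : F) := by
          funext j; fin_cases j <;> simp
        have h0 : ∀ j : Fin 2, Q (ptmul e P (Function.update xs k (Pi.single j 1))) =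
            L (ptmul e P (Function.update xs k (Pi.single j 1))) ^ 2 := fun j => ih _ fun i hi => by
          rcases eq_or_ne i k with rfl | hik
          · exact ⟨j, Function.update_self ..⟩
          · rw [Function.update_of_ne hik]
            exact hxs i (by simp [hik, hi])
        rw [← Function.update_eq_self k xs, hexp, hslot, MaxSub.quad_add (Q := Q), hQ.smul, hQ.smul,
          hQ.polar_bilinear.smul_left, hQ.polar_bilinear.smul_right, h0, h0, hform]
        obtain ⟨i₁, hi₁⟩ : ∃ i : Fin 3, i ≠ k := Fintype.exists_ne_of_one_lt_card (by simp) k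
        rw [Finset.prod_eq_zero (Finset.mem_univ i₁)
          (by rw [Function.update_of_ne hi₁, Function.update_of_ne hi₁]; exact halt _),
          map_add, map_smul, map_smul, smul_eq_mul, smul_eq_mul]
        linear_combination -(xs k 0 * L (ptmul e P (Function.update xs k (Pi.single 0 1))) * (xs k 1 *
          L (ptmul e P (Function.update xs k (Pi.single 1 1))))) * h2
    exact fun xs => key Finset.univ xs fun i hi => absurd (Finset.mem_univ i) hi
  -- the linear function is invariant, hence zero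
  have hinvL : ∀ g ∈ H, ∀ v, L (mat g *ᵥ v) = L v := by
    intro g hg v
    have hv : v ∈ Submodule.span F (Set.range (ptmul e P)) := by rw [span_ptmul]; trivial
    induction hv using Submodule.span_induction with
    | mem v hv =>
      obtain ⟨xs, rfl⟩ := hv
      obtain ⟨π, as, has⟩ := h.act g hg
      refine hinj _ _ ?_
      rw [← hpure, show mat g *ᵥ ptmul e P xs = _ from has xs, ← hpure,
        show ptmul e P (fun i => (as i : Matrix (Fin 2) (Fin 2) F) *ᵥ xs (π i)) = mat g *ᵥ ptmul e P xs from (has xs).symm,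
        hfix _ (mem_matrixSet hg)]
    | zero => rw [Matrix.mulVec_zero]
    | add a b _ _ ha hb => rw [Matrix.mulVec_add, map_add, map_add, ha, hb]
    | smul l a _ ha => rw [Matrix.mulVec_smul, map_smul, map_smul, ha]
  have hcard : Fintype.card ι = 8 := by rw [Fintype.card_congr e]; rfl
  have hL0 : L = 0 := by
    obtain ⟨w, hw⟩ : ∃ w, ∀ x, B x w = L x := by
      obtain ⟨w, hw⟩ : ∃ w : ι → F, ∀ i, B (Pi.single i 1) w = L (Pi.single i 1) := by
        refine ⟨(gramMatrix (B))⁻¹ *ᵥ fun i => L (Pi.single i 1), fun i => ?_⟩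
        rw [hf.sesq.gram_eq]
        simp only [RingEquiv.refl_apply]
        rw [Matrix.mulVec_mulVec, Matrix.mul_nonsing_inv _ hf.gram_det_unit, Matrix.one_mulVec,
          single_dotProduct, one_mul]
      refine ⟨w, fun x => ?_⟩
      rw [pi_eq_sum_univ' x, hf.sesq.sum_left, map_sum]
      exact Finset.sum_congr rfl fun i _ => by rw [hf.sesq.smul_left, hw, map_smul, smul_eq_mul]
    have hline : H ≤ subspaceStabilizer (Submodule.span F {w}) := fun g hg => by
      rw [mem_subspaceStabilizer_iff]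
      intro x hx
      obtain ⟨l, rfl⟩ := Submodule.mem_span_singleton.1 hx
      rw [Matrix.mulVec_smul]
      refine Submodule.smul_mem _ _ (Submodule.mem_span_singleton.2 ⟨1, ?_⟩)
      rw [one_smul]
      refine hf.ext_right fun y => ?_
      obtain ⟨z, rfl⟩ : ∃ z, mat g *ᵥ z = y := ⟨mat g⁻¹ *ᵥ y, by rw [Matrix.mulVec_mulVec, mat_mul_inv, Matrix.one_mulVec]⟩
      rw [MaxSub.polar_of_isometry (fun z => hfix _ (mem_matrixSet hg) z), hw, hw, hinvL g hg]
    rcases (actsIrreducibly_iff.1 hirr) _ hline with hh | hh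
    · refine LinearMap.ext fun x => ?_
      rw [← hw, Submodule.span_singleton_eq_bot.1 hh, hf.zero_right, LinearMap.zero_apply]
    · exfalso
      have h1 := congrArg (fun W : Submodule F (ι → F) => Module.finrank F W) hh
      simp only [finrank_top, Module.finrank_fintype_fun_eq_card] at h1
      rcases eq_or_ne w 0 with rfl | hw0
      · rw [Submodule.span_zero_singleton, finrank_bot] at h1; omega
      · rw [finrank_span_singleton hw0] at h1; omega
  -- a singular subspace of dimension four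
  let emb : (Fin 2 × Fin 2) → (Fin 3 → Fin 2) := fun p => ![0, p.1, p.2]
  have hemb : Function.Injective emb := fun p p' h => Prod.ext (congrFun h 1) (congrFun h 2)
  have hli : LinearIndependent F fun p => cvec e P (Pi.single (emb p) (1 : F)) := by
    simpa [Function.comp_def, Pi.basisFun_apply] using
      ((Pi.basisFun F (Fin 3 → Fin 2)).linearIndependent.comp _ hemb).map' (cvec e P)
        (LinearMap.ker_eq_bot.2 (cvec_injective e P))
  refine ⟨Submodule.span F (Set.range fun p => cvec e P (Pi.single (emb p) (1 : F))), le_top, ?_, ?_⟩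
  · intro x hx
    have hb0 : ∀ p p', B (cvec e P (Pi.single (emb p) (1 : F))) (cvec e P (Pi.single (emb p') 1)) = 0 := fun p p' => by
      rw [← ptmul_single, ← ptmul_single, hform, Finset.prod_eq_zero (Finset.mem_univ (0 : Fin 3)) (halt _), mul_zero]
    have hq0 : ∀ p, Q (cvec e P (Pi.single (emb p) (1 : F))) = 0 := fun p => by
      rw [← ptmul_single, hpure, hL0, LinearMap.zero_apply]; ring
    obtain ⟨k, rfl⟩ := (Submodule.mem_span_range_iff_exists_fun F).1 hx
    have key : ∀ s : Finset (Fin 2 × Fin 2), Q (∑ p ∈ s, k p • cvec e P (Pi.single (emb p) 1)) = 0 := by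
      intro s
      induction s using Finset.induction_on with
      | empty => rw [Finset.sum_empty]; exact MaxSub.quad_zero hQ
      | @insert p s hp ih =>
        rw [Finset.sum_insert hp, MaxSub.quad_add (Q := Q), hQ.smul, hq0, ih, hf.sesq.sum_right,
          Finset.sum_eq_zero fun p' _ => by rw [hf.sesq.smul_right, hQ.polar_bilinear.smul_left, hb0]; simp]
        ring
    exact key Finset.univ
  · rw [finrank_span_eq_card hli, finrank_top, Module.finrank_fintype_fun_eq_card, hcard]
    rfl

/-- A socle abelian modulo scalars forces plus type. -/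
theorem plus_of_socle (hQ : IsNondegenerateQuadraticForm Q) (h8 : Fintype.card ι = 8) {H : Subgroup (GL ι F)}
    (hfix : FixesQuadForm (matrixSet H) Q) (hab : HasAbelianSocle H) : IsPlusTypeOn Q ⊤ := by
  classical
  haveI : Nonempty ι := Fintype.card_pos_iff.1 (by omega)
  have hf := isReflexive_polar hQ
  have hb := hQ.polar_bilinear
  obtain ⟨E, r, j, hS, hcard, hEH⟩ := exists_socleData_le hab
  obtain rfl : r = 2 := by
    have h1 : 2 ∣ r ^ j := by rw [← hcard, h8]; norm_num
    exact ((Nat.prime_dvd_prime_iff_eq Nat.prime_two hS.prime).1 (Nat.prime_two.dvd_of_dvd_pow h1)).symm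
  obtain ⟨κ, hκ⟩ := hS.exists_kappa
  have hκsq : ∀ x ∈ E, ∀ y ∈ E, ((κ x y : Fˣ) : F) = 1 ∨ ((κ x y : Fˣ) : F) = -1 := fun x hx y hy => by
    refine sq_eq_one_iff.1 ?_
    rw [← Units.val_pow_eq_pow_val, kappa_pow_eq_one hS hκ hx hy, Units.val_one]
  have h2 : (2 : F) ≠ 0 := by
    intro h2
    haveI : CharP F 2 := CharTwo.of_one_ne_zero_of_two_eq_zero one_ne_zero h2
    obtain ⟨x, hx, y, hy, hxy⟩ := exists_kappa_ne_one hS (by omega) hκ
    refine hxy (Units.ext ?_)
    rcases hκsq x hx y hy with h | h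
    · exact h
    · rw [h, CharTwo.neg_eq]; rfl
  have hmat : ∀ (c : Fˣ) (x : GL ι F), mat (scHom ι F c * x) = (c : F) • mat x := fun c x => by
    rw [show mat (scHom ι F c * x) = mat (scHom ι F c) * mat x from Units.val_mul _ _, mat_scHom,
      Matrix.smul_mul, one_mul]
  -- representatives inside the group
  have hrep : ∀ x ∈ E, ∃ y ∈ E, y ∈ H ∧ ∃ c : F, mat y = c • mat x := fun x hx => by
    obtain ⟨c, hc⟩ := hEH x hx
    exact ⟨_, mul_mem (hS.scalars_le (scHom_mem c)) hx, hc, c, hmat c x⟩
  have hanti : ∀ x ∈ E, ∀ y ∈ E, mat x * mat y = mat y * mat x ∨ mat x * mat y = -(mat y * mat x) := by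
    intro x hx y hy
    have h1 := congrArg mat (hκ x hx y hy)
    rw [hmat, show mat (x * y) = mat x * mat y from Units.val_mul _ _,
      show mat (y * x) = mat y * mat x from Units.val_mul _ _] at h1
    rcases hκsq x hx y hy with h | h <;> rw [h] at h1
    · exact Or.inl (by rw [h1, one_smul])
    · exact Or.inr (by rw [h1, neg_one_smul])
  have hisoB : ∀ g ∈ H, ∀ u v, B (mat g *ᵥ u) (mat g *ᵥ v) = B u v := fun g hg u v =>
    MaxSub.polar_of_isometry (fun z => hfix _ (mem_matrixSet hg) z) u v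
  have hsqr : ∀ x ∈ E, x ∈ H → mat x * mat x = 1 ∨ mat x * mat x = -1 := by
    intro x hx hxH
    obtain ⟨c, hc⟩ := exists_scHom (hS.pow_mem x hx)
    have hm : mat x * mat x = (c : F) • (1 : Matrix ι ι F) := by
      rw [← mat_scHom, ← hc, sq]; exact (Units.val_mul _ _).symm
    obtain ⟨i⟩ := ‹Nonempty ι›
    obtain ⟨-, v, hv⟩ := hQ.nondegenerate (Pi.single i 1) (by simp)
    have h1 := (hisoB x hxH _ _).trans (hisoB x hxH (Pi.single i 1) v)
    rw [Matrix.mulVec_mulVec, Matrix.mulVec_mulVec, hm, Matrix.smul_mulVec, Matrix.smul_mulVec, Matrix.one_mulVec,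
      Matrix.one_mulVec, hb.smul_left, hb.smul_right, ← mul_assoc] at h1
    rcases mul_self_eq_one_iff.1 ((mul_eq_right₀ hv).1 h1) with h | h <;> rw [hm, h]
    · exact Or.inl (one_smul _ _)
    · exact Or.inr (neg_one_smul _ _)
  have hspanE : Submodule.span F (matrixSet E) = ⊤ := span_eq_top_of_absIrred hS.absIrred
  have hfin : Module.finrank F (Matrix ι ι F) = 64 := by
    rw [Module.finrank_matrix, Module.finrank_self, h8]
  -- elements outside a small space
  have houtside : ∀ {S : Submodule F (Matrix ι ι F)}, Module.finrank F S < 64 →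
      ∃ z ∈ E, z ∈ H ∧ mat z ∉ S := by
    intro S hS'
    by_contra hall
    push Not at hall
    have hle : Submodule.span F (matrixSet E) ≤ S := by
      rw [Submodule.span_le]
      rintro _ ⟨x, hx, rfl⟩
      obtain ⟨c, hc⟩ := hEH x hx
      have h1 := hall _ (mul_mem (hS.scalars_le (scHom_mem c)) hx) hc
      rw [hmat] at h1
      exact (S.smul_mem_iff c.ne_zero).1 h1
    rw [hspanE] at hle
    have h1 := Submodule.finrank_mono hle
    rw [finrank_top, hfin] at h1
    omega
  -- anticommuting partners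
  have hpartner : ∀ x ∈ E, mat x ∉ Submodule.span F (Set.range ![(1 : Matrix ι ι F)]) →
      ∃ y ∈ E, y ∈ H ∧ mat x * mat y = -(mat y * mat x) := by
    intro x hx hxs
    by_contra hall
    push Not at hall
    have hcomm : ∀ y ∈ E, x * y = y * x := by
      intro y hy
      obtain ⟨c, hc⟩ := hEH y hy
      refine Units.ext ?_
      show mat x * mat y = mat y * mat x
      rcases hanti x hx y hy with h | h
      · exact h
      · exfalso
        refine hall _ (mul_mem (hS.scalars_le (scHom_mem c)) hy) hc ?_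
        rw [hmat, Matrix.mul_smul, Matrix.smul_mul, h, smul_neg]
    obtain ⟨c, hc⟩ := (mem_scalars_iff x).1 (mem_scalars_of_commute hS.absIrred hcomm)
    exact hxs (Submodule.mem_span_range_iff_exists_fun F |>.2 ⟨![(c : F)], by simpa using hc.symm⟩)
  have hsmall : ∀ {k : ℕ} (w : Fin k → Matrix ι ι F), k < 64 →
      Module.finrank F (Submodule.span F (Set.range w)) < 64 := fun w hk =>
    (finrank_range_le_card w).trans_lt (by simpa using hk)
  -- an involution
  obtain ⟨u, huE, huH, hu1, hus⟩ : ∃ u ∈ E, u ∈ H ∧ mat u * mat u = 1 ∧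
      mat u ∉ Submodule.span F (Set.range ![(1 : Matrix ι ι F)]) := by
    obtain ⟨x, hx, hxH, hxs⟩ := houtside (hsmall ![(1 : Matrix ι ι F)] (by norm_num))
    rcases hsqr x hx hxH with hx2 | hx2
    · exact ⟨x, hx, hxH, hx2, hxs⟩
    obtain ⟨y, hy, hyH, hxy⟩ := hpartner x hx hxs
    obtain ⟨z, hz, hzH, hzs⟩ :=
      houtside (hsmall ![1, mat x, mat y⁻¹, mat x * mat y⁻¹] (by norm_num))
    obtain ⟨w, hw, hwH, hxw, hws⟩ : ∃ w ∈ E, w ∈ H ∧ mat x * mat w = mat w * mat x ∧
        mat w ∉ Submodule.span F (Set.range ![1, mat x]) := by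
      rcases hanti x hx z hz with h | h
      · refine ⟨z, hz, hzH, h, fun hm => hzs ?_⟩
        obtain ⟨k, hk⟩ := (Submodule.mem_span_range_iff_exists_fun F).1 hm
        refine (Submodule.mem_span_range_iff_exists_fun F).2 ⟨![k 0, k 1, 0, 0], ?_⟩
        rw [← hk]
        simp [Fin.sum_univ_four, Fin.sum_univ_two]
      · refine ⟨z * y, mul_mem hz hy, mul_mem hzH hyH, ?_, fun hm => hzs ?_⟩
        · rw [show mat (z * y) = mat z * mat y from Units.val_mul _ _, ← mul_assoc, h, neg_mul, mul_assoc,
            hxy, mul_neg, neg_neg, mul_assoc]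
        · obtain ⟨k, hk⟩ := (Submodule.mem_span_range_iff_exists_fun F).1 hm
          refine (Submodule.mem_span_range_iff_exists_fun F).2 ⟨![0, 0, k 0, k 1], ?_⟩
          have hk' := congrArg (· * mat y⁻¹) hk
          simp only [show mat (z * y) = mat z * mat y from Units.val_mul _ _, mul_assoc, mat_mul_inv, mul_one] at hk'
          rw [← hk']
          simp [Fin.sum_univ_four, Fin.sum_univ_two, add_mul]
    have hw1 : mat w ∉ Submodule.span F (Set.range ![(1 : Matrix ι ι F)]) := fun hm => hws (by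
      obtain ⟨k, hk⟩ := (Submodule.mem_span_range_iff_exists_fun F).1 hm
      exact (Submodule.mem_span_range_iff_exists_fun F).2 ⟨![k 0, 0], by rw [← hk]; simp [Fin.sum_univ_two]⟩)
    rcases hsqr w hw hwH with hw2 | hw2
    · exact ⟨w, hw, hwH, hw2, hw1⟩
    refine ⟨x * w, mul_mem hx hw, mul_mem hxH hwH, ?_, fun hm => hws ?_⟩
    · rw [show mat (x * w) = mat x * mat w from Units.val_mul _ _, mul_assoc, ← mul_assoc (mat w), ← hxw,
        mul_assoc (mat x) (mat w), hw2, ← mul_assoc, hx2, neg_one_mul, neg_neg]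
    · obtain ⟨k, hk⟩ := (Submodule.mem_span_range_iff_exists_fun F).1 hm
      refine (Submodule.mem_span_range_iff_exists_fun F).2 ⟨![0, -(k 0)], ?_⟩
      have hk' := congrArg (mat x * ·) hk
      simp only [show mat (x * w) = mat x * mat w from Units.val_mul _ _, ← mul_assoc, hx2, neg_one_mul] at hk'
      rw [eq_neg_iff_add_eq_zero, add_comm, ← eq_neg_iff_add_eq_zero] at hk'
      rw [hk']
      simp [Fin.sum_univ_two]
  obtain ⟨y, -, hyH, huy⟩ := hpartner u huE hus
  -- its eigenspaces
  let Wp : Submodule F (ι → F) := LinearMap.ker (Matrix.toLin' (mat u - 1))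
  let Wm : Submodule F (ι → F) := LinearMap.ker (Matrix.toLin' (mat u + 1))
  have hWp : ∀ v, v ∈ Wp ↔ mat u *ᵥ v = v := fun v => by
    rw [LinearMap.mem_ker, Matrix.toLin'_apply, Matrix.sub_mulVec, Matrix.one_mulVec, sub_eq_zero]
  have hWm : ∀ v, v ∈ Wm ↔ mat u *ᵥ v = -v := fun v => by
    rw [LinearMap.mem_ker, Matrix.toLin'_apply, Matrix.add_mulVec, Matrix.one_mulVec, add_eq_zero_iff_eq_neg]
  have huu : ∀ v, mat u *ᵥ (mat u *ᵥ v) = v := fun v => by rw [Matrix.mulVec_mulVec, hu1, Matrix.one_mulVec]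
  have hc : IsCompl Wp Wm := by
    refine IsCompl.of_eq ?_ ?_
    · rw [eq_bot_iff]
      rintro v ⟨h1, h1'⟩
      have h3 : (2 : F) • v = 0 := by
        rw [two_smul]
        nth_rw 1 [← (hWp v).1 h1]
        rw [(hWm v).1 h1', neg_add_cancel]
      exact (Submodule.mem_bot F).2 ((smul_eq_zero.1 h3).resolve_left h2)
    · rw [eq_top_iff]
      intro v _
      refine Submodule.mem_sup.2 ⟨(2 : F)⁻¹ • (v + mat u *ᵥ v), Wp.smul_mem _ ((hWp _).2 ?_),
        (2 : F)⁻¹ • (v - mat u *ᵥ v), Wm.smul_mem _ ((hWm _).2 ?_), ?_⟩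
      · rw [Matrix.mulVec_add, huu, add_comm]
      · rw [Matrix.mulVec_sub, huu, neg_sub]
      · rw [← smul_add, add_add_sub_cancel, ← two_smul F v, smul_smul, inv_mul_cancel₀ h2, one_smul]
  have hyu : ∀ v, mat u *ᵥ (mat y *ᵥ v) = -(mat y *ᵥ (mat u *ᵥ v)) := fun v => by
    rw [Matrix.mulVec_mulVec, huy, Matrix.neg_mulVec, Matrix.mulVec_mulVec]
  have hpm : Wp.map (Matrix.toLin' (mat y)) ≤ Wm := by
    rintro _ ⟨v, hv, rfl⟩
    rw [Matrix.toLin'_apply, hWm, hyu, (hWp v).1 hv]
  have hmp : Wm.map (Matrix.toLin' (mat y)) ≤ Wp := by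
    rintro _ ⟨v, hv, rfl⟩
    rw [Matrix.toLin'_apply, hWp, hyu, (hWm v).1 hv, Matrix.mulVec_neg, neg_neg]
  have e1 := ((Wp.equivMapOfInjective _ (map_toLin'_injective y)).finrank_eq).trans_le (Submodule.finrank_mono hpm)
  have e2 := ((Wm.equivMapOfInjective _ (map_toLin'_injective y)).finrank_eq).trans_le (Submodule.finrank_mono hmp)
  have hsum := Submodule.finrank_add_eq_of_isCompl hc
  rw [Module.finrank_fintype_fun_eq_card, h8] at hsum
  have hdp : Module.finrank F Wp = 4 := by omega
  have hdm : Module.finrank F Wm = 4 := by omega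
  have hmap : Wp.map (Matrix.toLin' (mat y)) = Wm := Submodule.eq_of_le_of_finrank_eq hpm (by
    rw [← (Wp.equivMapOfInjective _ (map_toLin'_injective y)).finrank_eq, hdp, hdm])
  have horth : ∀ a ∈ Wp, ∀ b ∈ Wm, B a b = 0 := by
    intro a ha b hb'
    have h1 := hisoB u huH a b
    rw [(hWp a).1 ha, (hWm b).1 hb', hf.neg_right] at h1
    have h3 : (2 : F) * B a b = 0 := by linear_combination -h1
    exact (mul_eq_zero.1 h3).resolve_left h2
  have hnd : ∀ {U U' : Submodule F (ι → F)}, U ⊔ U' = ⊤ → (∀ a ∈ U, ∀ b ∈ U', B a b = 0) →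
      IsNondegenerateOn (B) U := by
    intro U U' hsup hUU'
    rw [hf.isNondegenerateOn_iff, eq_bot_iff]
    rintro a ⟨ha, ha'⟩
    refine (Submodule.mem_bot F).2 (hf.ext_left fun x => ?_)
    rw [hf.zero_left]
    obtain ⟨b, hb', b', hb'', rfl⟩ := Submodule.mem_sup.1 (show x ∈ U ⊔ U' by rw [hsup]; trivial)
    rw [hf.sesq.add_right, ha' b hb', hUU' a ha b' hb'', add_zero]
  have hiso : AreIsometricFor Q Wp Wm := ⟨(Wp.equivMapOfInjective _ (map_toLin'_injective y)).trans
    (LinearEquiv.ofEq _ _ hmap), fun w => by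
      simp only [LinearEquiv.trans_apply, LinearEquiv.coe_ofEq_apply, Submodule.coe_equivMapOfInjective_apply,
        Matrix.toLin'_apply]
      exact hfix _ (mem_matrixSet hyH) _⟩
  refine plus_top_of_halves hQ (t := 2) (m := 4) (D := ![Wp, Wm])
    ⟨decomposition_pair (by norm_num) hc hdp hdm, ?_, ?_⟩ ?_ (h := 1) rfl (by decide)
  · intro i
    fin_cases i
    · exact hnd hc.sup_eq_top horth
    · exact hnd hc.symm.sup_eq_top fun a ha b hb' => hf.orth_comm (horth b hb' a ha)
  · intro i k hik a ha b hb'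
    fin_cases i <;> fin_cases k
    · exact absurd rfl hik
    · exact horth a ha b hb'
    · exact hf.orth_comm (horth b hb' a ha)
    · exact absurd rfl hik
  · intro i k
    fin_cases i <;> fin_cases k
    · exact areIsometric_refl Wp
    · exact hiso
    · exact areIsometric_symm hiso
    · exact areIsometric_refl Wm

end CfsgLib.AschbacherQuad
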