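import Cfsg.Agent.AschbacherQuad.Cases
import Cfsg.Agent.AschbacherQuad.Eight

/-!
The maximal subgroups of `Ω` of minus type in dimension eight, up to the residual class.
-/

set_option autoImplicit false
set_option linter.unusedSectionVars false
set_option linter.style.haveILetI false
set_option maxHeartbeats 1000000

namespace CfsgLib.AschbacherQuad

attribute [-simp] RingEquiv.coe_refl

open Matrix Cfsg.Geo CfsgLib.Aschbacher CfsgLib.AschbacherForms
open scoped Kronecker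

variable {ι : Type} [Fintype ι] [DecidableEq ι] {F : Type*} [Field F] [Fintype F] {Q : (ι → F) → F}

local notation "B" => QuadraticMap.polar Q

/-- Maximal subgroups fixing a proper subspace. -/
theorem reducible_cases_eight (hQ : IsNondegenerateQuadraticForm Q) (h8 : Fintype.card ι = 8)
    {H : Subgroup (GL ι F)} (hH : IsMaximalIn (omegaGL Q) H) (hirr : ¬ ActsIrreducibly (matrixSet H)) :
    (∃ W : Submodule F (ι → F), W ≠ ⊥ ∧ IsTotallySingularQuad Q W ∧ H = subspaceStabilizer W ⊓ omegaGL Q) ∨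
    (Odd (Fintype.card F) ∧ ∃ W : Submodule F (ι → F), W ≠ ⊥ ∧ W ≠ ⊤ ∧ Odd (Module.finrank F W) ∧
      IsNondegenerateOn (B) W ∧ H = subspaceStabilizer W ⊓ omegaGL Q) ∨
    (∃ W : Submodule F (ι → F), Module.finrank F W = 2 ∧ IsNondegenerateOn (B) W ∧ ¬ IsPlusTypeOn Q W ∧
      H = subspaceStabilizer W ⊓ omegaGL Q) ∨
    (4 ≤ Fintype.card F ∧ ∃ W : Submodule F (ι → F), Module.finrank F W = 2 ∧ IsNondegenerateOn (B) W ∧
      IsPlusTypeOn Q W ∧ H = subspaceStabilizer W ⊓ omegaGL Q) ∨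
    (∃ W : Submodule F (ι → F), Module.finrank F W = 4 ∧ IsNondegenerateOn (B) W ∧
      H = subspaceStabilizer W ⊓ omegaGL Q) ∨
    (¬ Odd (Fintype.card F) ∧ ∃ v : ι → F, Q v ≠ 0 ∧
      H = subspaceStabilizer (Submodule.span F {v}) ⊓ omegaGL Q) := by
  classical
  have hf := isReflexive_polar hQ
  have hb := hQ.polar_bilinear
  have hn7 : 7 ≤ Fintype.card ι := by omega
  have hHS : H ≤ omegaGL Q := hH.1.le
  obtain ⟨hfix, hfixB⟩ := fixes_of_le hHS
  have heq : ∀ {W : Submodule F (ι → F)}, H ≤ subspaceStabilizer W → W ≠ ⊥ → W ≠ ⊤ →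
      H = subspaceStabilizer W ⊓ omegaGL Q := fun hle h0 h1 =>
    eq_inf_of_maximal hH hle (not_le_subspaceStabilizer hQ hn7 h0 h1)
  have hiso : ∀ g ∈ H, ∀ u v, B (mat g *ᵥ u) (mat g *ᵥ v) = B u v := fixesForm_iff.1 hfixB
  rw [actsIrreducibly_iff] at hirr
  push Not at hirr
  obtain ⟨W₀, hW₀, hW0, hW1⟩ := hirr
  -- singular vectors in the radical
  have hts : ∀ R : Submodule F (ι → F), H ≤ subspaceStabilizer R → IsTotallySingularFor (B) R →
      (∃ x ∈ R, x ≠ 0 ∧ Q x = 0) →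
      ∃ W : Submodule F (ι → F), W ≠ ⊥ ∧ IsTotallySingularQuad Q W ∧ H = subspaceStabilizer W ⊓ omegaGL Q := by
    intro R hR hRt ⟨x, hx, hx0, hqx⟩
    let S : Submodule F (ι → F) :=
      { carrier := {y | y ∈ R ∧ Q y = 0}
        add_mem' := fun {a b} ha hb' => ⟨R.add_mem ha.1 hb'.1, by
          rw [MaxSub.quad_add (Q := Q), ha.2, hb'.2, hRt a ha.1 b hb'.1, add_zero, add_zero]⟩
        zero_mem' := ⟨R.zero_mem, MaxSub.quad_zero hQ⟩
        smul_mem' := fun c a ha => ⟨R.smul_mem c ha.1, by rw [hQ.smul, ha.2, mul_zero]⟩ }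
    have hS : H ≤ subspaceStabilizer S := fun g hg => mem_subspaceStabilizer_iff.2 fun y hy =>
      ⟨mem_subspaceStabilizer_iff.1 (hR hg) y hy.1, (hfix _ (mem_matrixSet hg) y).trans hy.2⟩
    have hS0 : S ≠ ⊥ := fun h => hx0 ((Submodule.mem_bot F).1 (h ▸ (⟨hx, hqx⟩ : x ∈ S)))
    have hS1 : S ≠ ⊤ := by
      intro h
      obtain ⟨y, hy⟩ := (hQ.nondegenerate x hx0).1
      have hy' : y ∈ S := h ▸ Submodule.mem_top
      exact hy (hRt y hy'.1 x hx)
    exact ⟨S, hS0, fun y hy => hy.2, heq hS hS0 hS1⟩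
  -- non-singular lines
  have hvec : ∀ v : ι → F, Q v ≠ 0 → H ≤ subspaceStabilizer (Submodule.span F {v}) →
      (Odd (Fintype.card F) ∧ ∃ W : Submodule F (ι → F), W ≠ ⊥ ∧ W ≠ ⊤ ∧ Odd (Module.finrank F W) ∧
        IsNondegenerateOn (B) W ∧ H = subspaceStabilizer W ⊓ omegaGL Q) ∨
      (¬ Odd (Fintype.card F) ∧ ∃ v : ι → F, Q v ≠ 0 ∧
        H = subspaceStabilizer (Submodule.span F {v}) ⊓ omegaGL Q) := by
    intro v hv hle
    have hv0 : v ≠ 0 := fun h => hv (h ▸ MaxSub.quad_zero hQ)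
    have hd : Module.finrank F (Submodule.span F {v}) = 1 := finrank_span_singleton hv0
    have h0 : Submodule.span F {v} ≠ ⊥ := fun h => by rw [h, finrank_bot] at hd; omega
    have h1 : Submodule.span F {v} ≠ ⊤ := fun h => by
      rw [h, finrank_top, Module.finrank_fintype_fun_eq_card] at hd; omega
    by_cases hodd : Odd (Fintype.card F)
    · refine Or.inl ⟨hodd, _, h0, h1, by rw [hd]; exact odd_one, ?_, heq hle h0 h1⟩
      rw [hf.isNondegenerateOn_iff, eq_bot_iff]
      rintro x ⟨hx, hx'⟩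
      obtain ⟨c, rfl⟩ := Submodule.mem_span_singleton.1 hx
      have h3 := hx' v (Submodule.mem_span_singleton_self v)
      rw [hb.smul_left, MaxSub.polar_self hQ] at h3
      rw [Submodule.mem_bot,
        (mul_eq_zero.1 h3).resolve_right (mul_ne_zero (MaxSub.two_ne_zero_of_odd hodd) hv), zero_smul]
    · exact Or.inr ⟨hodd, v, hv, heq hle h0 h1⟩
  have hWp : ∀ {W : Submodule F (ι → F)}, H ≤ subspaceStabilizer W → H ≤ subspaceStabilizer (hf.perp W) :=
    fun hW g hg => hf.stabilizer_perp (hiso g hg) (hW hg)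
  by_cases hrad : W₀ ⊓ hf.perp W₀ = ⊥
  swap
  · set R := W₀ ⊓ hf.perp W₀ with hR
    have hRs : H ≤ subspaceStabilizer R := fun g hg => mem_subspaceStabilizer_iff.2 fun w hw =>
      ⟨mem_subspaceStabilizer_iff.1 (hW₀ hg) w hw.1, mem_subspaceStabilizer_iff.1 (hWp hW₀ hg) w hw.2⟩
    have hRt : IsTotallySingularFor (B) R := fun u hu v hv => hu.2 v hv.1
    by_cases hx : ∃ x ∈ R, x ≠ 0 ∧ Q x = 0
    · exact Or.inl (hts R hRs hRt hx)
    push Not at hx
    obtain ⟨v, hv, hv0⟩ := (Submodule.ne_bot_iff R).1 hrad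
    have hline : R = Submodule.span F {v} := by
      refine le_antisymm (fun y hy => ?_) ((Submodule.span_singleton_le_iff_mem _ _).2 hv)
      by_cases hodd : Odd (Fintype.card F)
      · have h1 : B v v = 0 := hRt v hv v hv
        rw [MaxSub.polar_self hQ] at h1
        exact absurd ((mul_eq_zero.1 h1).resolve_left (MaxSub.two_ne_zero_of_odd hodd)) (hx v hv hv0)
      · have h2 := two_eq_zero_of_not_odd hodd
        obtain ⟨c, hc⟩ := FiniteField.isSquare_of_char_two (by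
          by_contra hc
          exact hodd (Nat.odd_iff.2 (FiniteField.odd_card_of_char_ne_two hc))) (Q y / Q v)
        rw [Submodule.mem_span_singleton]
        refine ⟨c, (sub_eq_zero.1 ?_).symm⟩
        by_contra hne
        refine hx _ (R.sub_mem hy (R.smul_mem c hv)) hne ?_
        rw [sub_eq_add_neg, ← neg_smul, MaxSub.quad_add (Q := Q), hQ.smul, hb.smul_right, hRt y hy v hv,
          show (-c) ^ 2 = c * c by ring, ← hc, div_mul_cancel₀ _ (hx v hv hv0)]
        linear_combination Q y * h2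
    rcases hvec v (hx v hv hv0) (hline ▸ hRs) with h | h
    · exact Or.inr (Or.inl h)
    · exact Or.inr (Or.inr (Or.inr (Or.inr (Or.inr h))))
  have hnd₀ := hf.isNondegenerateOn_iff.2 hrad
  obtain ⟨W, hW, hW0, hnd, hd6⟩ : ∃ W : Submodule F (ι → F), H ≤ subspaceStabilizer W ∧ W ≠ ⊥ ∧
      IsNondegenerateOn (B) W ∧ Module.finrank F W ≤ 4 := by
    by_cases h6 : Module.finrank F W₀ ≤ 4
    · exact ⟨W₀, hW₀, hW0, hnd₀, h6⟩
    have hd := hf.finrank_perp W₀
    rw [h8] at hd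
    refine ⟨hf.perp W₀, hWp hW₀, fun h => hW1 ?_, hf.isNondegenerateOn_perp hnd₀, by omega⟩
    rw [← hf.perp_perp W₀, h]
    exact eq_top_iff.2 fun x _ w hw => by rw [(Submodule.mem_bot F).1 hw, hf.zero_right]
  have hW1' : W ≠ ⊤ := fun h => by rw [h, finrank_top, Module.finrank_fintype_fun_eq_card] at hd6; omega
  have hd0 : Module.finrank F W ≠ 0 := fun h => hW0 (Submodule.finrank_eq_zero.1 h)
  rcases Nat.even_or_odd (Module.finrank F W) with he | ho
  · obtain ⟨r, hr⟩ := he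
    obtain h | h : Module.finrank F W = 2 ∨ Module.finrank F W = 4 := by omega
    · by_cases hp : IsPlusTypeOn Q W
      · by_cases hq : 4 ≤ Fintype.card F
        · exact Or.inr (Or.inr (Or.inr (Or.inl ⟨hq, W, h, hnd, hp, heq hW hW0 hW1'⟩)))
        · obtain ⟨v, hv, hle⟩ := plus_plane_line hQ (by omega) hfix hnd h hp hW
          rcases hvec v hv hle with h' | h'
          · exact Or.inr (Or.inl h')
          · exact Or.inr (Or.inr (Or.inr (Or.inr (Or.inr h'))))
      · exact Or.inr (Or.inr (Or.inl ⟨W, h, hnd, hp, heq hW hW0 hW1'⟩))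
    · exact Or.inr (Or.inr (Or.inr (Or.inr (Or.inl ⟨W, h, hnd, heq hW hW0 hW1'⟩))))
  · exact Or.inr (Or.inl ⟨odd_card_of_two_ne_zero (two_ne_zero_of_odd_finrank hQ hnd ho), W, hW0, hW1', ho,
      hnd, heq hW hW0 hW1'⟩)

/-- Tensor decompositions with factors of dimensions two and four. -/
theorem tensor_two_four_cases (hQ : IsNondegenerateQuadraticForm Q) (h8 : Fintype.card ι = 8)
    {H : Subgroup (GL ι F)} (hfix : FixesQuadForm (matrixSet H) Q) (hfixB : FixesForm (matrixSet H) (B))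
    (hirr : ActsIrreducibly (matrixSet H)) (ht : HasFormTensorOf (RingEquiv.refl F) (B) H 2 4) :
    (∃ (e : ι ≃ Fin 2 × Fin 4) (P : GL ι F) (S : Matrix (Fin 2) (Fin 2) F) (T : Matrix (Fin 4) (Fin 4) F),
      IsSymplecticForm (formOf (RingEquiv.refl F) S) ∧ IsSymplecticForm (formOf (RingEquiv.refl F) T) ∧
      H ≤ tensorProductSubgroup 2 4 e P ∧
      (∀ (y : Fin 2 → F) (z : Fin 4 → F), Q (mat P *ᵥ (AschbacherForms.pure y z ∘ e)) = 0) ∧
      ∀ x y : Fin 2 × Fin 4 → F, B (mat P *ᵥ (x ∘ e)) (mat P *ᵥ (y ∘ e)) =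
        formOfGram (RingEquiv.refl F) (S ⊗ₖ T) x y) ∨
    (∃ D : Fin 2 → Submodule F (ι → F), IsMDecomposition 4 D ∧ (∀ i, IsTotallySingularQuad Q (D i)) ∧
      H ≤ decompositionStabilizer D) ∨
    ∃ K : Subalgebra F (Matrix ι ι F), IsFieldSubalgebra 2 K ∧ H ≤ subalgebraNormalizer K := by
  classical
  haveI : Nonempty ι := Fintype.card_pos_iff.1 (by omega)
  have hf := isReflexive_polar hQ
  obtain ⟨e, P, S, T, hS, hT, hle, hform⟩ := ht
  have hS0 := hS.ne_zero
  have hT0 := hT.ne_zero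
  obtain ⟨a, b, ha, hSa, hTb, hab⟩ := factors_reflexive hf hS0 hT0 hform
  have hrefl : ∀ {n : ℕ} (M : Matrix (Fin n) (Fin n) F), Mᵀ.map (RingEquiv.refl F) = Mᵀ :=
    fun M => Matrix.ext fun _ _ => rfl
  rw [hrefl] at hSa hTb
  obtain ⟨i, j, hij⟩ : ∃ i j, S i j ≠ 0 := by
    by_contra hn; push Not at hn; exact hS0 (Matrix.ext hn)
  have e1 : S j i = a * S i j := congrFun (congrFun hSa i) j
  have e2 : S i j = a * S j i := congrFun (congrFun hSa j) i
  have h3 : (a * a - 1) * S i j = 0 := by linear_combination -e2 - a * e1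
  have h4 := (mul_eq_zero.1 h3).resolve_right hij
  by_cases h2 : (2 : F) = 0
  · haveI : CharP F 2 := CharTwo.of_one_ne_zero_of_two_eq_zero one_ne_zero h2
    have ha1 : a = 1 := by
      have h5 : (a - 1) * (a - 1) = 0 := by linear_combination h4 - (a - 1) * h2
      exact sub_eq_zero.1 (mul_self_eq_zero.1 h5)
    subst ha1
    rw [show b = 1 by linear_combination hab, one_smul] at hTb
    rw [one_smul] at hSa
    have hdS := left_factor_alternating hf hfixB hirr h2 le_rfl (by norm_num) hle hS0 hT0 hform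
    have hdT := left_factor_alternating hf hfixB hirr h2 (by norm_num) (by norm_num)
      (hle.trans (tensorProductSubgroup_swap e P)) hT0 hS0 (formTensor_swap hform)
    have hS' := formOf_self_of_diag h2 hSa hdS
    have hT' := formOf_self_of_diag h2 hTb hdT
    refine Or.inl ⟨e, P, S, T, ⟨isBilinearForm_formOf S, fun u v => ?_, hS', nondegenerate_formOf _ hS⟩,
      ⟨isBilinearForm_formOf T, fun u v => ?_, hT', nondegenerate_formOf _ hT⟩, hle,
      pure_singular_of_two hQ h2 (by omega) hfix hfixB hirr hle hS' hT' hform, hform⟩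
    · rw [CharTwo.neg_eq, formOf_symm (a := 1) (by rw [one_smul]; exact hSa) v u, one_mul]
    · rw [CharTwo.neg_eq, formOf_symm (a := 1) (by rw [one_smul]; exact hTb) v u, one_mul]
  rcases mul_self_eq_one_iff.1 (sub_eq_zero.1 h4) with h | h <;> subst h
  · rw [one_smul] at hSa
    rcases binary_factor_dichotomy hf h2 hfixB hirr hS hT hSa hle hform with
      ⟨n, D, hD, hn, hts, hle'⟩ | ⟨K, hK, -, -, hle', -⟩
    · obtain rfl : n = 4 := by omega
      refine Or.inr (Or.inl ⟨D, hD, fun i x hx => ?_, hle'⟩)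
      have h1 : B x x = 0 := hts i x hx x hx
      rw [MaxSub.polar_self hQ] at h1
      exact (mul_eq_zero.1 h1).resolve_left h2
    · exact Or.inr (Or.inr ⟨K, hK, hle'⟩)
  · rw [neg_one_smul] at hSa
    rw [show b = -1 by linear_combination -hab, neg_one_smul] at hTb
    exact Or.inl ⟨e, P, S, T, isSymplecticForm_formOf hS hSa (formOf_self_of_skew h2 hSa),
      isSymplecticForm_formOf hT hTb (formOf_self_of_skew h2 hTb), hle, pure_singular_of_skew hQ h2 hSa hform, hform⟩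

/-- The maximal subgroups of `Ω` of minus type in dimension eight. -/
theorem omega_eight_minus_cases (hQ : IsNondegenerateQuadraticForm Q) (h8 : Fintype.card ι = 8)
    (hminus : ¬ IsPlusTypeOn Q ⊤) {H : Subgroup (GL ι F)} (hH : IsMaximalIn (omegaGL Q) H) :
    (∃ W : Submodule F (ι → F), W ≠ ⊥ ∧ IsTotallySingularQuad Q W ∧ H = subspaceStabilizer W ⊓ omegaGL Q) ∨
    (Odd (Fintype.card F) ∧ ∃ W : Submodule F (ι → F), W ≠ ⊥ ∧ W ≠ ⊤ ∧ Odd (Module.finrank F W) ∧
      IsNondegenerateOn (B) W ∧ H = subspaceStabilizer W ⊓ omegaGL Q) ∨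
    (∃ W : Submodule F (ι → F), Module.finrank F W = 2 ∧ IsNondegenerateOn (B) W ∧ ¬ IsPlusTypeOn Q W ∧
      H = subspaceStabilizer W ⊓ omegaGL Q) ∨
    (4 ≤ Fintype.card F ∧ ∃ W : Submodule F (ι → F), Module.finrank F W = 2 ∧ IsNondegenerateOn (B) W ∧
      IsPlusTypeOn Q W ∧ H = subspaceStabilizer W ⊓ omegaGL Q) ∨
    (∃ W : Submodule F (ι → F), Module.finrank F W = 4 ∧ IsNondegenerateOn (B) W ∧
      H = subspaceStabilizer W ⊓ omegaGL Q) ∨
    (¬ Odd (Fintype.card F) ∧ ∃ v : ι → F, Q v ≠ 0 ∧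
      H = subspaceStabilizer (Submodule.span F {v}) ⊓ omegaGL Q) ∨
    (∃ K : Subalgebra F (Matrix ι ι F), IsFieldSubalgebra 2 K ∧ H = subalgebraNormalizer K ⊓ omegaGL Q) ∨
    (∃ (F₀ : Subfield F) (r : ℕ) (P : GL ι F) (ζ : F), r.Prime ∧ Odd r ∧ Fintype.card F = Nat.card F₀ ^ r ∧
      ζ ≠ 0 ∧ IsQuadFormRationalStructure (fun v : ι → F => ζ * Q v) F₀ P ∧
      H = subfieldSubgroup F₀ P ⊓ omegaGL Q) ∨
    InOrthogonalResidualClass H := by
  classical
  haveI : Nonempty ι := Fintype.card_pos_iff.1 (by omega)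
  have hn7 : 7 ≤ Fintype.card ι := by omega
  have hf := isReflexive_polar hQ
  obtain ⟨hfix, hfixB⟩ := fixes_of_le hH.1.le
  by_cases hirr : ActsIrreducibly (matrixSet H)
  swap
  · rcases reducible_cases_eight hQ h8 hH hirr with h | h | h | h | h | h
    · exact Or.inl h
    · exact Or.inr (Or.inl h)
    · exact Or.inr (Or.inr (Or.inl h))
    · exact Or.inr (Or.inr (Or.inr (Or.inl h)))
    · exact Or.inr (Or.inr (Or.inr (Or.inr (Or.inl h))))
    · exact Or.inr (Or.inr (Or.inr (Or.inr (Or.inr (Or.inl h)))))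
  right; right; right; right; right; right
  have hfield : ∀ {K : Subalgebra F (Matrix ι ι F)}, IsFieldSubalgebra 2 K → H ≤ subalgebraNormalizer K →
      ∃ K : Subalgebra F (Matrix ι ι F), IsFieldSubalgebra 2 K ∧ H = subalgebraNormalizer K ⊓ omegaGL Q :=
    fun hK hle => ⟨_, hK, eq_inf_of_maximal hH hle (not_le_subalgebraNormalizer hQ hn7 le_rfl hK)⟩
  rcases star_reduction_spanned (by omega) hf hfixB hirr with
    ⟨t, k, D, hD, htk, hle⟩ | ⟨k, D, hD, hk, -, hle, hts⟩ | ⟨r, K, hr, hrd, hK, hle, -⟩ |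
    ⟨k, d, e, P, S, T, hk, hd, hkd, hS, hT, hle, hform⟩ | hab | hsp | ⟨P, hP⟩
  · exfalso
    have ht := hD.decomp.two_le
    have hk0 := hD.decomp.pos
    rw [h8] at htk
    have ht8 : t ≤ 8 := Nat.le_of_dvd (by norm_num) ⟨k, htk.symm⟩
    have hh : ∃ h, t = 2 * h ∧ Even (h * k) := by
      have htd : t ∣ 8 := ⟨k, htk.symm⟩
      interval_cases t <;> try omega
      all_goals
        first
        | (obtain rfl : k = 4 := by omega
           exact ⟨1, rfl, by decide⟩)
        | (obtain rfl : k = 2 := by omega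
           exact ⟨2, rfl, by decide⟩)
        | (obtain rfl : k = 1 := by omega
           exact ⟨4, rfl, by decide⟩)
    obtain ⟨h, ht', he⟩ := hh
    exact hminus (plus_top_of_halves hQ hD
      (fun i j => isometric_of_irreducible hfix hirr hD.decomp hle i j) ht' he)
  · exfalso
    refine hminus ⟨D 0, le_top, hts Q hQ (fun _ _ => rfl) hfix 0, ?_⟩
    rw [hD.finrank_eq, finrank_top, Module.finrank_fintype_fun_eq_card]
    omega
  · rw [h8] at hrd
    obtain rfl : r = 2 :=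
      (Nat.prime_dvd_prime_iff_eq hr Nat.prime_two).1 (hr.dvd_of_dvd_pow (n := 3) (by norm_num; exact hrd))
    exact Or.inl (hfield hK hle)
  · rw [h8] at hkd
    have hten : HasFormTensorOf (RingEquiv.refl F) (B) H 2 4 := by
      obtain ⟨rfl, rfl⟩ | ⟨rfl, rfl⟩ : (k = 2 ∧ d = 4) ∨ (k = 4 ∧ d = 2) := by
        have hkl : k ≤ 4 := by nlinarith
        interval_cases k <;> omega
      · exact ⟨e, P, S, T, hS, hT, hle, hform⟩
      · exact HasFormTensorOf.swap ⟨e, P, S, T, hS, hT, hle, hform⟩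
    rcases tensor_two_four_cases hQ h8 hfix hfixB hirr hten with
      ⟨e, P, S, T, -, -, -, hp, -⟩ | ⟨D, hD, hts, -⟩ | ⟨K, hK, hle⟩
    · exact absurd (plus_top_of_pure hp) hminus
    · refine absurd ⟨D 0, le_top, hts 0, ?_⟩ hminus
      rw [hD.finrank_eq, finrank_top, Module.finrank_fintype_fun_eq_card, h8]
    · exact Or.inl (hfield hK hle)
  · exact absurd (plus_of_socle hQ h8 hfix hab) hminus
  · exfalso
    obtain ⟨d, t, e, P, β, hd, ht, hn, hβ⟩ := MaxSub.exists_slotPower hf hfixB hsp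
    rw [h8] at hn
    obtain ⟨rfl, rfl⟩ : d = 2 ∧ t = 3 := by
      have hdd : d ^ 2 ≤ 8 := hn ▸ Nat.pow_le_pow_right (by omega) ht
      obtain rfl : d = 2 := by nlinarith
      exact ⟨rfl, Nat.pow_right_injective le_rfl (show 2 ^ t = 2 ^ 3 by rw [← hn])⟩
    exact hminus (plus_of_slotPower hQ hfix hirr hβ)
  · rcases core_cases hQ (by omega) hfix hfixB hirr hP with ⟨F₀, r, A, ζ, hr, hF₀, hcard, hζ, hrat, hle⟩ | h
    · rcases hr.eq_two_or_odd' with rfl | hodd
      · exact absurd (plus_of_index_two hQ (m := 4) (by omega) (by norm_num) hcard hζ hrat) hminus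
      · exact Or.inr (Or.inl ⟨F₀, r, A, ζ, hr, hodd, hcard, hζ, hrat,
          eq_inf_of_maximal hH hle (not_le_subfieldSubgroup hQ hn7 hF₀ A)⟩)
    · exact Or.inr (Or.inr h)

end CfsgLib.AschbacherQuad
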