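import Cfsg.Agent.AschbacherQuad.Planes
import Cfsg.Agent.Aschbacher.Subfield

/-!
Decompositions over small fields: rational structures from lines and from hyperbolic planes over four elements, and
the anisotropic planes inside hyperbolic four-spaces over two elements.
-/

set_option autoImplicit false
set_option linter.unusedSectionVars false
set_option linter.style.haveILetI false

namespace CfsgLib.AschbacherQuad

open Matrix Cfsg.Geo CfsgLib.Aschbacher CfsgLib.AschbacherForms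

variable {ι : Type} [Fintype ι] [DecidableEq ι] {F : Type*} [Field F] {Q : (ι → F) → F}

local notation "B" => QuadraticMap.polar Q

/-- A spanning family of the right size is the column family of an invertible matrix. -/
theorem exists_frame_gl {κ : Type} [Fintype κ] (ε : ι ≃ κ) {u : κ → ι → F}
    (hu : ⊤ ≤ Submodule.span F (Set.range u)) :
    ∃ P : GL ι F, ∀ c : ι → F, mat P *ᵥ c = ∑ j, c (ε.symm j) • u j := by
  classical
  let M : Matrix ι ι F := Matrix.of fun a i => u (ε i) a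
  have hM : ∀ c : ι → F, M *ᵥ c = ∑ j, c (ε.symm j) • u j := by
    intro c
    rw [← Equiv.sum_comp ε (fun j => c (ε.symm j) • u j)]
    funext a
    simp only [Matrix.mulVec, dotProduct, M, Matrix.of_apply, Finset.sum_apply, Pi.smul_apply, smul_eq_mul,
      Equiv.symm_apply_apply]
    exact Finset.sum_congr rfl fun i _ => mul_comm _ _
  have hsur : Function.Surjective M.mulVec := by
    intro x
    obtain ⟨c, hc⟩ := (Submodule.mem_span_range_iff_exists_fun F).1 (hu (Submodule.mem_top : x ∈ ⊤))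
    exact ⟨fun i => c (ε i), by rw [hM]; simpa using hc⟩
  exact ⟨(Matrix.mulVec_surjective_iff_isUnit.1 hsur).unit, hM⟩

/-- A group carrying each member of a frame into the rational span of the frame lies in the subfield group. -/
theorem mem_subfieldSubgroup_of_frame {κ : Type} [Fintype κ] (ε : ι ≃ κ) {u : κ → ι → F} {P : GL ι F}
    (hP : ∀ c : ι → F, mat P *ᵥ c = ∑ j, c (ε.symm j) • u j) {F₀ : Subfield F} {g : GL ι F}
    (hg : ∀ j, ∃ c : κ → F, (∀ l, c l ∈ F₀) ∧ mat g *ᵥ u j = ∑ l, c l • u l) :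
    g ∈ subfieldSubgroup F₀ P := by
  classical
  refine mem_subfieldSubgroup_of one_ne_zero fun i j => ?_
  obtain ⟨c, hc, hcg⟩ := hg (ε j)
  have h1 : mat P *ᵥ Pi.single j 1 = u (ε j) := by
    rw [hP, Finset.sum_eq_single (ε j)]
    · simp
    · intro l _ hl
      rw [Pi.single_eq_of_ne (fun h => hl (by rw [← h, Equiv.apply_symm_apply])), zero_smul]
    · simp
  have h2 : (mat P⁻¹ * mat g * mat P) *ᵥ Pi.single j 1 = fun i => c (ε i) := by
    rw [← Matrix.mulVec_mulVec, ← Matrix.mulVec_mulVec, h1, hcg]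
    refine Matrix.mulVec_injective_iff_isUnit.2 P.isUnit ?_
    show mat P *ᵥ (mat P⁻¹ *ᵥ _) = mat P *ᵥ _
    rw [Matrix.mulVec_mulVec, mat_mul_inv, Matrix.one_mulVec, hP]
    simp
  have h3 : (mat P⁻¹ * mat g * mat P) i j = c (ε i) := by
    rw [← congrFun h2 i, Matrix.mulVec_single_one]
    rfl
  rw [one_mul, h3]
  exact hc _

theorem bot_ne_top_of_card [Fintype F] {p : ℕ} [Fact p.Prime] [CharP F p] (h : Fintype.card F ≠ p) :
    (⊥ : Subfield F) ≠ ⊤ := by
  intro he
  apply h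
  rw [← Nat.card_eq_fintype_card, ← Nat.card_congr (Subfield.topEquiv (K := F)).toEquiv, ← he, Subfield.card_bot F p]

/-- A decomposition into isometric lines is rational over the prime field. -/
theorem exists_subfield_of_lines [Fintype F] (hQ : IsNondegenerateQuadraticForm Q) {H : Subgroup (GL ι F)}
    (hfix : FixesQuadForm (matrixSet H) Q) {t : ℕ} (hn : Fintype.card ι = t) {D : Fin t → Submodule F (ι → F)}
    (hD : IsOrthogonalMDecomposition Q 1 D) (hle : H ≤ decompositionStabilizer D)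
    (hnp : ¬ (Fintype.card F).Prime) :
    ∃ (F₀ : Subfield F) (r : ℕ) (P : GL ι F) (ζ : F), r.Prime ∧ Fintype.card F = Nat.card F₀ ^ r ∧ ζ ≠ 0 ∧
      IsQuadFormRationalStructure (fun v => ζ * Q v) F₀ P ∧ H ≤ subfieldSubgroup F₀ P := by
  classical
  subst hn
  have hb := hQ.polar_bilinear
  obtain ⟨p, hchar⟩ := CharP.exists F
  haveI := hchar
  haveI : Fact p.Prime := ⟨CharP.char_is_prime F p⟩
  obtain ⟨F₀, r, hr, -, hcard⟩ :=
    exists_prime_index_subfield (bot_ne_top_of_card (F := F) (p := p) fun h => hnp (h ▸ Fact.out))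
  have hdec := hD.decomp.decomp
  let i₀ : Fin (Fintype.card ι) := ⟨0, lt_of_lt_of_le two_pos hdec.two_le⟩
  obtain ⟨v, hv, hv0⟩ := (Submodule.ne_bot_iff (D i₀)).1 fun h => by
    have := hdec.finrank_eq i₀
    rw [h, finrank_bot] at this
    exact zero_ne_one this
  have hspan0 : D i₀ = Submodule.span F {v} := (Submodule.eq_of_le_of_finrank_eq
    ((Submodule.span_singleton_le_iff_mem _ _).2 hv) (by rw [finrank_span_singleton hv0, hdec.finrank_eq])).symm
  have ha : Q v ≠ 0 := by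
    intro hq
    obtain ⟨⟨w, hw, hne⟩, -⟩ := hD.decomp.nondegenerate i₀ v hv hv0
    rw [hspan0, Submodule.mem_span_singleton] at hw
    obtain ⟨c, rfl⟩ := hw
    rw [hb.smul_left, MaxSub.polar_self hQ, hq, mul_zero, mul_zero] at hne
    exact hne rfl
  choose e he using hD.isometric i₀
  let u : Fin (Fintype.card ι) → ι → F := fun i => (e i ⟨v, hv⟩ : ι → F)
  have huD : ∀ i, u i ∈ D i := fun i => (e i ⟨v, hv⟩).2
  have huQ : ∀ i, Q (u i) = Q v := fun i => he i _
  have hu0 : ∀ i, u i ≠ 0 := fun i h => ha (by rw [← huQ i, h, MaxSub.quad_zero hQ])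
  have hspan : ∀ i, D i = Submodule.span F {u i} := fun i => (Submodule.eq_of_le_of_finrank_eq
    ((Submodule.span_singleton_le_iff_mem _ _).2 (huD i))
    (by rw [finrank_span_singleton (hu0 i), hdec.finrank_eq])).symm
  obtain ⟨P, hP⟩ := exists_frame_gl (Fintype.equivFin ι) (u := u) (by
    rw [← hdec.iSup_eq_top]
    exact iSup_le fun i => (hspan i).le.trans
      (Submodule.span_mono (Set.singleton_subset_iff.2 ⟨i, rfl⟩)))
  refine ⟨F₀, r, P, (Q v)⁻¹, hr, hcard, inv_ne_zero ha, ?_, ?_⟩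
  · intro c hc
    show (Q v)⁻¹ * Q (mat P *ᵥ c) ∈ F₀
    rw [hP, quad_sum_orth hQ _ _ (fun i j hij => hD.decomp.orthogonal i j hij _ (huD i) _ (huD j))]
    simp only [huQ, ← Finset.sum_mul]
    rw [mul_left_comm, inv_mul_cancel₀ ha, mul_one]
    exact F₀.sum_mem fun j _ => F₀.pow_mem (hc _) 2
  · intro g hg
    refine mem_subfieldSubgroup_of_frame _ hP fun j => ?_
    obtain ⟨σ, hσ⟩ := hle hg
    have h1 : mat g *ᵥ u j ∈ D (σ j) := by rw [← hσ j]; exact ⟨u j, huD j, Matrix.toLin'_apply _ _⟩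
    rw [hspan, Submodule.mem_span_singleton] at h1
    obtain ⟨c, hc⟩ := h1
    have h2 := hfix _ (mem_matrixSet hg) (u j)
    rw [← hc, hQ.smul, huQ, huQ] at h2
    refine ⟨Pi.single (σ j) c, fun l => ?_, ?_⟩
    · rcases eq_or_ne l (σ j) with rfl | hl
      · rw [Pi.single_eq_same]
        rcases mul_self_eq_one_iff.1 (mul_right_cancel₀ ha (by linear_combination h2 : c * c * Q v = 1 * Q v)) with
          h | h <;> rw [h]
        · exact F₀.one_mem
        · exact F₀.neg_mem F₀.one_mem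
      · rw [Pi.single_eq_of_ne hl]
        exact F₀.zero_mem
    · rw [Finset.sum_eq_single (σ j) (fun l _ hl => by rw [Pi.single_eq_of_ne hl, zero_smul])
        (fun h => absurd (Finset.mem_univ _) h), Pi.single_eq_same, hc]

/-- Over four elements hyperbolic planes are rational over the field of two elements. -/
theorem exists_subfield_four [Fintype F] (hQ : IsNondegenerateQuadraticForm Q) (hq : Fintype.card F = 4)
    {H : Subgroup (GL ι F)} (hfix : FixesQuadForm (matrixSet H) Q) {t : ℕ} (hn : Fintype.card ι = t * 2)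
    {D : Fin t → Submodule F (ι → F)} (hD : IsOrthogonalMDecomposition Q 2 D) (hp : ∀ i, IsPlusTypeOn Q (D i))
    (hle : H ≤ decompositionStabilizer D) :
    ∃ (F₀ : Subfield F) (r : ℕ) (P : GL ι F) (ζ : F), r.Prime ∧ Fintype.card F = Nat.card F₀ ^ r ∧ ζ ≠ 0 ∧
      IsQuadFormRationalStructure (fun v => ζ * Q v) F₀ P ∧ H ≤ subfieldSubgroup F₀ P := by
  classical
  have hb := hQ.polar_bilinear
  have hchar : ringChar F = 2 := by
    by_contra hc
    have := FiniteField.odd_card_of_char_ne_two hc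
    omega
  haveI := ringChar.of_eq hchar
  haveI : Fact (Nat.Prime 2) := ⟨Nat.prime_two⟩
  have h2 : (2 : F) = 0 := CharTwo.two_eq_zero
  have hdec := hD.decomp.decomp
  let i₀ : Fin t := ⟨0, lt_of_lt_of_le two_pos hdec.two_le⟩
  obtain ⟨e, f, he, hf, hqe, hqf, hef, hspan, hval⟩ :=
    exists_hyperbolic_basis hQ (hD.decomp.nondegenerate i₀) (hdec.finrank_eq i₀) (hp i₀)
  obtain ⟨ω, hω0, hω1⟩ : ∃ ω : F, ω ≠ 0 ∧ ω ≠ 1 := by
    by_contra h
    push Not at h
    have h1 : (Finset.univ : Finset F) ⊆ {0, 1} := fun x _ => by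
      rcases eq_or_ne x 0 with rfl | hx
      · simp
      · simp [h x hx]
    have := (Finset.card_le_card h1).trans Finset.card_le_two
    rw [Finset.card_univ, hq] at this
    omega
  have hcube : ∀ x : F, x ≠ 0 → x ^ 3 = 1 := fun x hx => by
    have := FiniteField.pow_card_sub_one_eq_one x hx
    rwa [hq] at this
  have hω : ω ^ 2 + ω + 1 = 0 :=
    (mul_eq_zero.1 (by linear_combination hcube ω hω0 : (ω - 1) * (ω ^ 2 + ω + 1) = 0)).resolve_left
      (sub_ne_zero.2 hω1)
  let p : Fin 2 → ι → F := ![(1 : F) • e + (1 : F) • f, ω • e + ω ^ 2 • f]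
  have hpD : ∀ k, p k ∈ D i₀ := fun k => by
    fin_cases k <;> exact (D i₀).add_mem ((D i₀).smul_mem _ he) ((D i₀).smul_mem _ hf)
  have hall : ∀ x ∈ D i₀, Q x = 1 → ∃ a b : F, a ∈ (⊥ : Subfield F) ∧ b ∈ (⊥ : Subfield F) ∧
      x = a • p 0 + b • p 1 := by
    intro x hx hqx
    obtain ⟨c, d, rfl⟩ := hspan x hx
    rw [hval] at hqx
    have hd : d = c ^ 2 := by
      have hc0 : c ≠ 0 := left_ne_zero_of_mul (hqx ▸ one_ne_zero)
      linear_combination c ^ 2 * hqx - d * hcube c hc0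
    have hc0 : c ≠ 0 := left_ne_zero_of_mul (hqx ▸ one_ne_zero)
    have hcases : c = 1 ∨ c = ω ∨ c = ω + 1 := by
      have h1 : (c - 1) * ((c - ω) * (c - (ω + 1))) = 0 := by
        linear_combination hcube c hc0 + (c - 1) * hω - (c - 1) * (c * (ω + 1) + 1) * h2
      rcases mul_eq_zero.1 h1 with h | h
      · exact Or.inl (sub_eq_zero.1 h)
      rcases mul_eq_zero.1 h with h | h
      · exact Or.inr (Or.inl (sub_eq_zero.1 h))
      · exact Or.inr (Or.inr (sub_eq_zero.1 h))
    subst hd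
    rcases hcases with rfl | rfl | rfl
    · exact ⟨1, 0, one_mem _, zero_mem _, by simp [p]⟩
    · exact ⟨0, 1, zero_mem _, one_mem _, by simp [p]⟩
    · refine ⟨1, 1, one_mem _, one_mem _, ?_⟩
      show _ = (1 : F) • ((1 : F) • e + (1 : F) • f) + (1 : F) • (ω • e + ω ^ 2 • f)
      rw [show (ω + 1) ^ 2 = 1 + ω ^ 2 by linear_combination ω * h2]
      module
  choose E hE using hD.isometric i₀
  let u : Fin t × Fin 2 → ι → F := fun x => (E x.1 ⟨p x.2, hpD x.2⟩ : ι → F)
  have huD : ∀ x, u x ∈ D x.1 := fun x => (E x.1 ⟨p x.2, hpD x.2⟩).2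
  have hlin : ∀ i (a b : F), a • u (i, 0) + b • u (i, 1) =
      (E i ⟨a • p 0 + b • p 1, (D i₀).add_mem ((D i₀).smul_mem _ (hpD 0)) ((D i₀).smul_mem _ (hpD 1))⟩ : ι → F) := by
    intro i a b
    rw [show (⟨a • p 0 + b • p 1, _⟩ : D i₀) = a • ⟨p 0, hpD 0⟩ + b • ⟨p 1, hpD 1⟩ from rfl, map_add, map_smul,
      map_smul]
    rfl
  have hp01 : B (p 0) (p 1) = 1 := by
    show B ((1 : F) • e + (1 : F) • f) (ω • e + ω ^ 2 • f) = 1
    rw [hb.add_left, hb.add_right, hb.add_right, hb.smul_left, hb.smul_left, hb.smul_left, hb.smul_left,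
      hb.smul_right, hb.smul_right, hb.smul_right, hb.smul_right, hef, MaxSub.polar_symm f e, hef,
      MaxSub.polar_self hQ, MaxSub.polar_self hQ, hqe, hqf]
    linear_combination hω - h2
  have hp0 : Q (p 0) = 1 := by show Q (_ + _) = _; rw [hval]; ring
  have hp1 : Q (p 1) = 1 := by
    show Q (_ + _) = _; rw [hval]; linear_combination hcube ω hω0
  have hQu : ∀ i (a b : F), Q (a • u (i, 0) + b • u (i, 1)) = a ^ 2 + b ^ 2 + a * b := by
    intro i a b
    rw [hlin, hE, MaxSub.quad_add (Q := Q), hQ.smul, hQ.smul, hb.smul_left, hb.smul_right, hp0, hp1, hp01]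
    ring
  have hgen : ⊤ ≤ Submodule.span F (Set.range u) := by
    rw [← hdec.iSup_eq_top]
    refine iSup_le fun i x hx => ?_
    obtain ⟨y, hy⟩ := (E i).surjective ⟨x, hx⟩
    have hy' : (E i y : ι → F) = x := congrArg Subtype.val hy
    obtain ⟨c, d, hcd⟩ := hspan y.1 y.2
    have hωne : ω ^ 2 - ω ≠ 0 := fun h => by
      have : ω * (ω - 1) = 0 := by linear_combination h
      rcases mul_eq_zero.1 this with h' | h'
      · exact hω0 h'
      · exact hω1 (sub_eq_zero.1 h')
    have hab : y.1 = ((c * ω ^ 2 - d * ω) / (ω ^ 2 - ω)) • p 0 + ((d - c) / (ω ^ 2 - ω)) • p 1 := by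
      show y.1 = _ • ((1 : F) • e + (1 : F) • f) + _ • (ω • e + ω ^ 2 • f)
      rw [← hcd]
      match_scalars <;> field_simp <;> ring
    rw [← hy', show y = ⟨_, y.2⟩ from rfl]
    simp only [hab]
    rw [← hlin]
    exact Submodule.add_mem _ (Submodule.smul_mem _ _ (Submodule.subset_span ⟨_, rfl⟩))
      (Submodule.smul_mem _ _ (Submodule.subset_span ⟨_, rfl⟩))
  let ε : ι ≃ Fin t × Fin 2 := Fintype.equivOfCardEq (by rw [hn, Fintype.card_prod, Fintype.card_fin, Fintype.card_fin])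
  obtain ⟨P, hP⟩ := exists_frame_gl ε hgen
  refine ⟨⊥, 2, P, 1, Nat.prime_two, by rw [Subfield.card_bot F 2, hq]; rfl, one_ne_zero, ?_, ?_⟩
  · intro c hc
    show 1 * Q (mat P *ᵥ c) ∈ (⊥ : Subfield F)
    rw [one_mul, hP, Fintype.sum_prod_type]
    simp only [Fin.sum_univ_two]
    have h1 := quad_sum_orth hQ (Finset.univ : Finset (Fin t))
      (fun i => c (ε.symm (i, 0)) • u (i, 0) + c (ε.symm (i, 1)) • u (i, 1))
      (fun i j hij => hD.decomp.orthogonal i j hij _
        ((D i).add_mem ((D i).smul_mem _ (huD (i, 0))) ((D i).smul_mem _ (huD (i, 1)))) _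
        ((D j).add_mem ((D j).smul_mem _ (huD (j, 0))) ((D j).smul_mem _ (huD (j, 1)))))
      (fun _ => 1)
    simp only [one_smul, one_pow, one_mul] at h1
    rw [h1]
    refine Subfield.sum_mem _ fun i _ => ?_
    rw [hQu]
    exact add_mem (add_mem (pow_mem (hc _) 2) (pow_mem (hc _) 2)) (mul_mem (hc _) (hc _))
  · intro g hg
    refine mem_subfieldSubgroup_of_frame _ hP fun x => ?_
    obtain ⟨σ, hσ⟩ := hle hg
    have h1 : mat g *ᵥ u x ∈ D (σ x.1) := by rw [← hσ x.1]; exact ⟨u x, huD x, Matrix.toLin'_apply _ _⟩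
    obtain ⟨y, hy⟩ := (E (σ x.1)).surjective ⟨_, h1⟩
    have hy' : (E (σ x.1) y : ι → F) = mat g *ᵥ u x := congrArg Subtype.val hy
    have hqy : Q (y : ι → F) = 1 := by
      rw [← hE (σ x.1) y, hy', hfix _ (mem_matrixSet hg)]
      show Q (E x.1 ⟨p x.2, hpD x.2⟩ : ι → F) = 1
      rw [hE]
      obtain ⟨i, k⟩ := x
      fin_cases k
      · exact hp0
      · exact hp1
    obtain ⟨a, b, ha, hb', hab⟩ := hall y.1 y.2 hqy
    refine ⟨Pi.single (σ x.1, 0) a + Pi.single (σ x.1, 1) b, fun l => ?_, ?_⟩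
    · rw [Pi.add_apply]
      refine add_mem ?_ ?_ <;> rw [Pi.single_apply] <;> split_ifs <;>
        first | exact ha | exact hb' | exact zero_mem _
    · rw [← hy', show y = ⟨_, y.2⟩ from rfl]
      simp only [hab]
      rw [← hlin]
      simp [Pi.single_apply, add_smul, Finset.sum_add_distrib, ite_smul]

/-- A decomposition from orthogonal non-degenerate parts spanning everything. -/
theorem decomposition_of_orth (hQ : IsNondegenerateQuadraticForm Q) {t m : ℕ} (ht : 2 ≤ t) (hm : 0 < m)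
    {D : Fin t → Submodule F (ι → F)} (hd : ∀ i, Module.finrank F (D i) = m)
    (hnd : ∀ i, IsNondegenerateOn (B) (D i)) (ho : ∀ i j, i ≠ j → AreOrthogonalFor (B) (D i) (D j))
    (htop : iSup D = ⊤) : IsNondegenerateMDecomposition (B) m D := by
  have hf := isReflexive_polar hQ
  refine ⟨⟨ht, hm, hd, fun i => ?_, htop⟩, hnd, ho⟩
  rw [disjoint_iff, eq_bot_iff]
  rintro x ⟨hx, hx'⟩
  have hle : (⨆ (j) (_ : j ≠ i), D j) ≤ hf.perp (D i) :=
    iSup₂_le fun j hj y hy w hw => ho j i hj y hy w hw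
  rw [Submodule.mem_bot]
  exact disjoint_of_orth (W' := hf.perp (D i)) (hnd i) (fun u hu v hv => hf.orth_comm (hv u hu)) hx (hle hx')

/-- A hyperbolic four-space over two elements is the sum of two anisotropic planes containing all its non-singular
vectors. -/
theorem exists_two_minus_planes [Fintype F] (hQ : IsNondegenerateQuadraticForm Q) (hq : Fintype.card F = 2)
    {W : Submodule F (ι → F)} (hW : IsNondegenerateOn (B) W) (hWd : Module.finrank F W = 4)
    (hp : IsPlusTypeOn Q W) :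
    ∃ (S : Fin 2 → Submodule F (ι → F)) (p q : Fin 2 → ι → F), (∀ k, S k ≤ W) ∧ W ≤ S 0 ⊔ S 1 ∧
      (∀ k, p k ∈ S k ∧ q k ∈ S k ∧ Q (p k) = 1 ∧ Q (q k) = 1 ∧ B (p k) (q k) = 1) ∧
      (∀ k, S k = Submodule.span F {p k, q k}) ∧
      (∀ x ∈ S 0, ∀ y ∈ S 1, B x y = 0) ∧ (∀ k, ∀ x ∈ S k, Q x = 0 → x = 0) ∧
      ∀ x ∈ W, Q x = 1 → x ∈ S 0 ∨ x ∈ S 1 := by
  have hb := hQ.polar_bilinear
  have hf := isReflexive_polar hQ
  have hchar : ringChar F = 2 := by
    by_contra hc
    have := FiniteField.odd_card_of_char_ne_two hc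
    omega
  haveI := ringChar.of_eq hchar
  have h2 : (2 : F) = 0 := CharTwo.two_eq_zero
  have h01 : ∀ x : F, x = 0 ∨ x = 1 := fun x => by
    rcases eq_or_ne x 0 with h | h
    · exact Or.inl h
    · have := FiniteField.pow_card_sub_one_eq_one x h
      rw [hq, pow_one] at this
      exact Or.inr this
  obtain ⟨U, hUW, hU, hUd⟩ := hp
  obtain ⟨e₁, he₁U, he₁0⟩ := (Submodule.ne_bot_iff U).1 fun h => by rw [h, finrank_bot, hWd] at hUd; omega
  obtain ⟨f₁, hf₁, hqf₁, he₁f₁⟩ := exists_partner hQ hW (hUW he₁U) he₁0 (hU _ he₁U)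
  obtain ⟨z, hzU, hz⟩ : ∃ z ∈ U, z ∉ Submodule.span F {e₁} := by
    by_contra h
    push Not at h
    have h5 := Submodule.finrank_mono (R := F) (h : U ≤ Submodule.span F {e₁})
    rw [finrank_span_singleton he₁0] at h5
    omega
  have hee : ∀ x ∈ U, ∀ y ∈ U, B x y = 0 := fun x hx y hy => polar_eq_zero_of_singular hU hx hy
  have hf₁f₁ : B f₁ f₁ = 0 := by rw [MaxSub.polar_self hQ, hqf₁, mul_zero]
  have hf₁e₁ : B f₁ e₁ = 1 := by rw [MaxSub.polar_symm]; exact he₁f₁
  set e₂ := z - B z f₁ • e₁ with he₂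
  have he₂U : e₂ ∈ U := U.sub_mem hzU (U.smul_mem _ he₁U)
  have he₂0 : e₂ ≠ 0 := fun h => hz (Submodule.mem_span_singleton.2 ⟨B z f₁, (sub_eq_zero.1 h).symm⟩)
  have he₂f₁ : B e₂ f₁ = 0 := by rw [he₂, hf.sub_left, hb.smul_left, he₁f₁, mul_one, sub_self]
  obtain ⟨y, hy, hqy, he₂y⟩ := exists_partner hQ hW (hUW he₂U) he₂0 (hU _ he₂U)
  set y' := y - B y f₁ • e₁ - B y e₁ • f₁ with hy'
  have hy'W : y' ∈ W := W.sub_mem (W.sub_mem hy (W.smul_mem _ (hUW he₁U))) (W.smul_mem _ hf₁)
  have hy'e₁ : B y' e₁ = 0 := by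
    rw [hy', hf.sub_left, hf.sub_left, hb.smul_left, hb.smul_left, hee _ he₁U _ he₁U, hf₁e₁]; ring
  have hy'f₁ : B y' f₁ = 0 := by
    rw [hy', hf.sub_left, hf.sub_left, hb.smul_left, hb.smul_left, he₁f₁, hf₁f₁]; ring
  have hy'e₂ : B y' e₂ = 1 := by
    rw [hy', hf.sub_left, hf.sub_left, hb.smul_left, hb.smul_left, MaxSub.polar_symm f₁ e₂, he₂f₁,
      hee _ he₁U _ he₂U, MaxSub.polar_symm y e₂, he₂y]
    ring
  set f₂ := y' - Q y' • e₂ with hf₂
  have hf₂W : f₂ ∈ W := W.sub_mem hy'W (W.smul_mem _ (hUW he₂U))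
  have hqf₂ : Q f₂ = 0 := by
    rw [hf₂, sub_eq_add_neg, ← neg_smul, MaxSub.quad_add (Q := Q), hQ.smul, hU _ he₂U, hb.smul_right, hy'e₂]
    ring
  have hf₂e₁ : B f₂ e₁ = 0 := by rw [hf₂, hf.sub_left, hb.smul_left, hy'e₁, hee _ he₂U _ he₁U]; ring
  have hf₂f₁ : B f₂ f₁ = 0 := by rw [hf₂, hf.sub_left, hb.smul_left, hy'f₁, he₂f₁]; ring
  have hf₂e₂ : B f₂ e₂ = 1 := by rw [hf₂, hf.sub_left, hb.smul_left, hy'e₂, hee _ he₂U _ he₂U]; ring
  have he₁e₂ := hee _ he₁U _ he₂U
  have hq₁ := hU _ he₁U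
  have hq₂ := hU _ he₂U
  let p : Fin 2 → ι → F := ![e₁ + f₁, e₂ + f₂]
  let q : Fin 2 → ι → F := ![e₁ + (e₂ + f₂), e₂ + (e₁ + f₁)]
  have hs : ∀ a b, B a b = 0 → B b a = 0 := fun a b h => hf.orth_comm h
  have hsimp := And.intro hf₂f₁ (And.intro hf₂e₁ (And.intro he₂f₁ he₁e₂))
  have hpW : ∀ k, p k ∈ W := fun k => by
    fin_cases k
    · exact W.add_mem (hUW he₁U) hf₁
    · exact W.add_mem (hUW he₂U) hf₂W
  have hqW : ∀ k, q k ∈ W := fun k => by
    fin_cases k
    · exact W.add_mem (hUW he₁U) (W.add_mem (hUW he₂U) hf₂W)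
    · exact W.add_mem (hUW he₂U) (W.add_mem (hUW he₁U) hf₁)
  have hpp : ∀ k, Q (p k) = 1 := fun k => by
    fin_cases k
    · show Q (e₁ + f₁) = 1
      rw [MaxSub.quad_add (Q := Q), hq₁, hqf₁, he₁f₁]; ring
    · show Q (e₂ + f₂) = 1
      rw [MaxSub.quad_add (Q := Q), hq₂, hqf₂, MaxSub.polar_symm e₂ f₂, hf₂e₂]; ring
  have hqq : ∀ k, Q (q k) = 1 := fun k => by
    fin_cases k
    · show Q (e₁ + (e₂ + f₂)) = 1
      rw [MaxSub.quad_add (Q := Q), hq₁, show Q (e₂ + f₂) = 1 from hpp 1, hb.add_right, he₁e₂, hs _ _ hf₂e₁]; ring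
    · show Q (e₂ + (e₁ + f₁)) = 1
      rw [MaxSub.quad_add (Q := Q), hq₂, show Q (e₁ + f₁) = 1 from hpp 0, hb.add_right, hs _ _ he₁e₂, he₂f₁]; ring
  have hdiag : ∀ x, Q x = 1 → B x x = 0 := fun x hx => by rw [MaxSub.polar_self hQ, h2, zero_mul]
  have hpq : ∀ k, B (p k) (q k) = 1 := fun k => by
    fin_cases k
    · show B (e₁ + f₁) (e₁ + (e₂ + f₂)) = 1
      simp only [hb.add_left, hb.add_right, MaxSub.polar_self hQ, hq₁, hf₁e₁, he₁e₂, hs _ _ hf₂e₁, hs _ _ hf₂f₁,
        hs _ _ he₂f₁]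
      ring
    · show B (e₂ + f₂) (e₂ + (e₁ + f₁)) = 1
      simp only [hb.add_left, hb.add_right, MaxSub.polar_self hQ, hq₂, hf₂e₂, hs _ _ he₁e₂, he₂f₁, hf₂e₁, hf₂f₁]
      ring
  have hcross : ∀ a ∈ ({p 0, q 0} : Set (ι → F)), ∀ b ∈ ({p 1, q 1} : Set (ι → F)), B a b = 0 := by
    intro a ha b hb'
    rcases ha with rfl | rfl <;> rcases hb' with rfl | rfl
    · show B (e₁ + f₁) (e₂ + f₂) = 0
      simp only [hb.add_left, hb.add_right, he₁e₂, hs _ _ hf₂e₁, hs _ _ he₂f₁, hs _ _ hf₂f₁]; ring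
    · show B (e₁ + f₁) (e₂ + (e₁ + f₁)) = 0
      rw [hb.add_right, hb.add_left, he₁e₂, hs _ _ he₂f₁, hdiag (e₁ + f₁) (hpp 0)]; ring
    · show B (e₁ + (e₂ + f₂)) (e₂ + f₂) = 0
      rw [hb.add_left, hb.add_right, he₁e₂, hs _ _ hf₂e₁, hdiag (e₂ + f₂) (hpp 1)]; ring
    · show B (e₁ + (e₂ + f₂)) (e₂ + (e₁ + f₁)) = 0
      simp only [hb.add_left, hb.add_right, MaxSub.polar_self hQ, hq₁, hq₂, he₁e₂, hs _ _ he₁e₂, he₁f₁, he₂f₁,
        hf₂e₂, hf₂e₁, hf₂f₁]
      linear_combination h2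
  let S : Fin 2 → Submodule F (ι → F) := fun k => Submodule.span F {p k, q k}
  have horth : ∀ x ∈ S 0, ∀ y ∈ S 1, B x y = 0 := by
    intro x hx y hy
    obtain ⟨a, b, rfl⟩ := Submodule.mem_span_pair.1 hx
    obtain ⟨c, d, rfl⟩ := Submodule.mem_span_pair.1 hy
    simp only [hb.add_left, hb.add_right, hb.smul_left, hb.smul_right, hcross (p 0) (Or.inl rfl) (p 1) (Or.inl rfl),
      hcross (p 0) (Or.inl rfl) (q 1) (Or.inr rfl), hcross (q 0) (Or.inr rfl) (p 1) (Or.inl rfl),
      hcross (q 0) (Or.inr rfl) (q 1) (Or.inr rfl)]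
    ring
  have hSq : ∀ k (a b : F), Q (a • p k + b • q k) = a ^ 2 + b ^ 2 + a * b := fun k a b => by
    rw [MaxSub.quad_add (Q := Q), hQ.smul, hQ.smul, hb.smul_left, hb.smul_right, hpp, hqq, hpq]; ring
  have hanis : ∀ k, ∀ x ∈ S k, Q x = 0 → x = 0 := by
    intro k x hx hqx
    obtain ⟨a, b, rfl⟩ := Submodule.mem_span_pair.1 hx
    rw [hSq] at hqx
    rcases h01 a with rfl | rfl <;> rcases h01 b with rfl | rfl
    · simp
    · exact absurd (by linear_combination hqx : (1 : F) = 0) one_ne_zero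
    · exact absurd (by linear_combination hqx : (1 : F) = 0) one_ne_zero
    · exact absurd (by linear_combination hqx - h2 : (1 : F) = 0) one_ne_zero
  have hle : ∀ k, S k ≤ W := fun k => Submodule.span_le.2 (Set.insert_subset_iff.2
    ⟨hpW k, Set.singleton_subset_iff.2 (hqW k)⟩)
  have hd2 : ∀ k, 2 ≤ Module.finrank F (S k) := fun k => by
    have hli : LinearIndependent F ![p k, q k] := by
      rw [LinearIndependent.pair_iff]
      intro a b hab
      have h1 := congrArg (fun v => B v (q k)) hab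
      have h3 := congrArg (fun v => B v (p k)) hab
      simp only [hb.add_left, hb.smul_left, hpq, MaxSub.polar_symm (Q := Q) (q k) (p k), hdiag _ (hpp k),
        hdiag _ (hqq k), hf.zero_left] at h1 h3
      exact ⟨by linear_combination h1, by linear_combination h3⟩
    have h := finrank_span_eq_card hli
    rw [Fintype.card_fin] at h
    show 2 ≤ Module.finrank F (Submodule.span F {p k, q k})
    rw [← Matrix.range_cons_cons_empty (p k) (q k) ![], h]
  have hinf : S 0 ⊓ S 1 = ⊥ := eq_bot_iff.2 fun x hx => (Submodule.mem_bot F).2 (hanis 0 x hx.1 (by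
    obtain ⟨a, b, hab⟩ := Submodule.mem_span_pair.1 hx.1
    have h1 : B x (p 0) = 0 := hs _ _ (horth _ (Submodule.subset_span (Or.inl rfl)) x hx.2)
    have h3 : B x (q 0) = 0 := hs _ _ (horth _ (Submodule.subset_span (Or.inr rfl)) x hx.2)
    rw [← hab] at h1 h3
    simp only [hb.add_left, hb.smul_left, hpq, MaxSub.polar_symm (Q := Q) (q 0) (p 0), hdiag _ (hpp 0),
      hdiag _ (hqq 0)] at h1 h3
    rw [← hab, show a = 0 by linear_combination h3, show b = 0 by linear_combination h1]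
    simp [MaxSub.quad_zero hQ]))
  have hsup : S 0 ⊔ S 1 = W := by
    refine Submodule.eq_of_le_of_finrank_le (sup_le (hle 0) (hle 1)) ?_
    have h1 := Submodule.finrank_sup_add_finrank_inf_eq (S 0) (S 1)
    rw [hinf, finrank_bot] at h1
    have := hd2 0
    have := hd2 1
    omega
  refine ⟨S, p, q, hle, hsup.ge, fun k => ⟨Submodule.subset_span (Or.inl rfl), Submodule.subset_span (Or.inr rfl),
    hpp k, hqq k, hpq k⟩, fun k => rfl, horth, hanis, fun x hx hqx => ?_⟩
  rw [← hsup, Submodule.mem_sup] at hx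
  obtain ⟨a, ha, b, hb', rfl⟩ := hx
  rw [MaxSub.quad_add (Q := Q), horth a ha b hb', add_zero] at hqx
  rcases h01 (Q a) with h | h
  · rw [hanis 0 a ha h, zero_add]
    exact Or.inr hb'
  · rcases h01 (Q b) with h' | h'
    · rw [hanis 1 b hb' h', add_zero]
      exact Or.inl ha
    · rw [h, h'] at hqx
      exact absurd (by linear_combination hqx : (1 : F) = 0) one_ne_zero

/-- Hyperbolic four-spaces over two elements refine to anisotropic planes. -/
theorem exists_minus_planes [Fintype F] (hQ : IsNondegenerateQuadraticForm Q) (hq : Fintype.card F = 2)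
    {H : Subgroup (GL ι F)} (hfix : FixesQuadForm (matrixSet H) Q) (hirr : ActsIrreducibly (matrixSet H))
    {t : ℕ} {D : Fin t → Submodule F (ι → F)} (hD : IsOrthogonalMDecomposition Q 4 D)
    (hp : ∀ i, IsPlusTypeOn Q (D i)) (hle : H ≤ decompositionStabilizer D) :
    ∃ D' : Fin (t * 2) → Submodule F (ι → F), IsOrthogonalMDecomposition Q 2 D' ∧
      (∀ j, ¬ IsPlusTypeOn Q (D' j)) ∧ H ≤ decompositionStabilizer D' := by
  classical
  have hb := hQ.polar_bilinear
  have hf := isReflexive_polar hQ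
  have hdec := hD.decomp.decomp
  choose S p q hSW hWS hpq hS horth hanis hall using fun i =>
    exists_two_minus_planes hQ hq (hD.decomp.nondegenerate i) (hdec.finrank_eq i) (hp i)
  let ε := (finProdFinEquiv (m := t) (n := 2)).symm
  let D' : Fin (t * 2) → Submodule F (ι → F) := fun j => S (ε j).1 (ε j).2
  have hd : ∀ i k, Module.finrank F (S i k) = 2 := by
    intro i k
    rw [hS i k]
    refine le_antisymm ?_ ?_
    · rw [← Matrix.range_cons_cons_empty (p i k) (q i k) ![]]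
      exact (finrank_range_le_card _).trans (by simp)
    · have hli : LinearIndependent F ![p i k, q i k] := by
        rw [LinearIndependent.pair_iff]
        intro a b hab
        obtain ⟨-, -, hp1, hq1, h1⟩ := hpq i k
        have hchar : ringChar F = 2 := by
          by_contra hc
          have := FiniteField.odd_card_of_char_ne_two hc
          omega
        haveI := ringChar.of_eq hchar
        have e1 := congrArg (fun v => B v (q i k)) hab
        have e2 := congrArg (fun v => B v (p i k)) hab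
        simp only [hb.add_left, hb.smul_left, h1, MaxSub.polar_symm (Q := Q) (q i k) (p i k),
          MaxSub.polar_self hQ, CharTwo.two_eq_zero, zero_mul, hf.zero_left] at e1 e2
        exact ⟨by linear_combination e1, by linear_combination e2⟩
      have h := finrank_span_eq_card hli
      rw [Fintype.card_fin] at h
      rw [← Matrix.range_cons_cons_empty (p i k) (q i k) ![], h]
  have hnd : ∀ i k, IsNondegenerateOn (B) (S i k) := by
    intro i k
    rw [hf.isNondegenerateOn_iff, eq_bot_iff]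
    rintro x ⟨hx, hx'⟩
    rw [Submodule.mem_bot]
    by_contra hx0
    obtain ⟨⟨w, hw, hne⟩, -⟩ := hD.decomp.nondegenerate i x (hSW i k hx) hx0
    obtain ⟨a, ha, b, hb', rfl⟩ := Submodule.mem_sup.1 (hWS i hw)
    rw [hb.add_left] at hne
    refine hne ?_
    fin_cases k
    · rw [hf.orth_comm (hx' a ha), hf.orth_comm (horth i x hx b hb'), add_zero]
    · rw [horth i a ha x hx, hf.orth_comm (hx' b hb'), add_zero]
  have hND := decomposition_of_orth hQ (D := D') (m := 2)
    (le_trans hdec.two_le (Nat.le_mul_of_pos_right t two_pos)) two_pos (fun j => hd _ _) (fun j => hnd _ _)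
    (fun i j hij => by
      by_cases h1 : (ε i).1 = (ε j).1
      · have h3 : (ε i).2 ≠ (ε j).2 := fun h => hij (ε.injective (Prod.ext h1 h))
        show AreOrthogonalFor (B) (S (ε i).1 (ε i).2) (S (ε j).1 (ε j).2)
        rw [← h1]
        generalize (ε i).1 = i' at *
        generalize (ε i).2 = a at *
        generalize (ε j).2 = b at *
        fin_cases a <;> fin_cases b
        · exact absurd rfl h3
        · exact horth i'
        · exact fun u hu v hv => hf.orth_comm (horth i' v hv u hu)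
        · exact absurd rfl h3
      · exact fun u hu v hv => hD.decomp.orthogonal _ _ h1 u (hSW _ _ hu) v (hSW _ _ hv))
    (eq_top_iff.2 (by
      rw [← hdec.iSup_eq_top]
      refine iSup_le fun i => (hWS i).trans (sup_le ?_ ?_)
      · exact le_iSup_of_le (ε.symm (i, 0)) (by simp [D'])
      · exact le_iSup_of_le (ε.symm (i, 1)) (by simp [D'])))
  have hstab : H ≤ decompositionStabilizer D' := by
    intro g hg
    obtain ⟨σ, hσ⟩ := hle hg
    refine mem_decompositionStabilizer_of hND.decomp fun j => ?_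
    obtain ⟨i, k⟩ : ∃ i k, ε j = (i, k) := ⟨(ε j).1, (ε j).2, rfl⟩
    obtain ⟨k, hk⟩ := k
    obtain ⟨hpS, hqS, hp1, hq1, hpq1⟩ := hpq i k
    have hmem : ∀ x ∈ D i, mat g *ᵥ x ∈ D (σ i) := fun x hx => by
      rw [← hσ i]; exact ⟨x, hx, Matrix.toLin'_apply _ _⟩
    have hgp := hall (σ i) _ (hmem _ (hSW i k hpS)) ((hfix _ (mem_matrixSet hg) _).trans hp1)
    have hgq := hall (σ i) _ (hmem _ (hSW i k hqS)) ((hfix _ (mem_matrixSet hg) _).trans hq1)
    have hB : B (mat g *ᵥ p i k) (mat g *ᵥ q i k) = 1 := by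
      rw [MaxSub.polar_of_isometry (fun x => hfix _ (mem_matrixSet hg) x)]; exact hpq1
    obtain ⟨l, hl1, hl2⟩ : ∃ l, mat g *ᵥ p i k ∈ S (σ i) l ∧ mat g *ᵥ q i k ∈ S (σ i) l := by
      rcases hgp with h | h <;> rcases hgq with h' | h'
      · exact ⟨0, h, h'⟩
      · exact absurd ((horth _ _ h _ h').symm.trans hB) zero_ne_one
      · exact absurd ((hf.orth_comm (horth _ _ h' _ h)).symm.trans hB) zero_ne_one
      · exact ⟨1, h, h'⟩
    refine ⟨ε.symm (σ i, l), fun x hx => ?_⟩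
    have hx' : x ∈ Submodule.span F {p i k, q i k} := by
      rw [← hS i k]
      simpa [D', hk] using hx
    obtain ⟨a, b, rfl⟩ := Submodule.mem_span_pair.1 hx'
    rw [Matrix.mulVec_add, Matrix.mulVec_smul, Matrix.mulVec_smul]
    show _ ∈ S (ε (ε.symm (σ i, l))).1 (ε (ε.symm (σ i, l))).2
    rw [Equiv.apply_symm_apply]
    exact Submodule.add_mem _ (Submodule.smul_mem _ _ hl1) (Submodule.smul_mem _ _ hl2)
  refine ⟨D', ⟨hND, fun i j => isometric_of_irreducible hfix hirr hND.decomp hstab i j⟩, fun j hj => ?_, hstab⟩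
  obtain ⟨U, hU, hUs, hUd⟩ := hj
  rw [hND.decomp.finrank_eq j] at hUd
  obtain ⟨x, hx, hx0⟩ := (Submodule.ne_bot_iff U).1 fun h => by rw [h, finrank_bot] at hUd; omega
  exact hx0 (hanis _ _ x (hU hx) (hUs x hx))

end CfsgLib.AschbacherQuad
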