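import Cfsg.Agent.AschbacherQuad.Basic
import Cfsg.Agent.AschbacherForms.TensorQuad
import Cfsg.Agent.AschbacherForms.Binary
import Cfsg.Agent.Forms.PlusType

/-!
Tensor factors of a quadratic form: vanishing on pure tensors, the type of a product of symmetric factors, and the
quadratic field inside a binary factor over two elements.
-/

set_option autoImplicit false
set_option linter.unusedSectionVars false
set_option linter.style.haveILetI false

namespace CfsgLib.AschbacherQuad

attribute [-simp] RingEquiv.coe_refl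

open Matrix Cfsg.Geo CfsgLib.Aschbacher CfsgLib.AschbacherForms
open scoped Kronecker

variable {ι : Type} [Fintype ι] [DecidableEq ι] {F : Type*} [Field F] {Q : (ι → F) → F}

local notation "B" => QuadraticMap.polar Q

variable {k d : ℕ} {e : ι ≃ Fin k × Fin d} {P : GL ι F} {S : Matrix (Fin k) (Fin k) F}
  {T : Matrix (Fin d) (Fin d) F}

/-- Away from two, a product of alternating forms vanishes on pure tensors. -/
theorem pure_singular_of_skew (hQ : IsNondegenerateQuadraticForm Q) (h2 : (2 : F) ≠ 0) (hS : Sᵀ = -S)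
    (hform : ∀ x y : Fin k × Fin d → F, B (mat P *ᵥ (x ∘ e)) (mat P *ᵥ (y ∘ e)) =
      formOfGram (RingEquiv.refl F) (S ⊗ₖ T) x y) (y : Fin k → F) (z : Fin d → F) :
    Q (mat P *ᵥ (pure y z ∘ e)) = 0 := by
  have h1 := hform (pure y z) (pure y z)
  rw [MaxSub.polar_self hQ,
    show formOfGram (RingEquiv.refl F) (S ⊗ₖ T) (pure y z) (pure y z) =
      formOf (RingEquiv.refl F) S y y * formOf (RingEquiv.refl F) T z z from
      formOfGram_pure (MonoidHom.id F) y y z z, formOf_self_of_skew h2 hS, zero_mul] at h1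
  exact (mul_eq_zero.1 h1).resolve_left h2

/-- In characteristic two an irreducibly fixed form with alternating factors vanishes on pure tensors. -/
theorem pure_singular_of_two [Fintype F] (hQ : IsNondegenerateQuadraticForm Q) (h2 : (2 : F) = 0)
    (hn : 2 ≤ Fintype.card ι) {H : Subgroup (GL ι F)} (hQH : FixesQuadForm (matrixSet H) Q)
    (hfix : FixesForm (matrixSet H) (B)) (hirr : ActsIrreducibly (matrixSet H))
    (hle : H ≤ tensorProductSubgroup k d e P) (hS : ∀ x, formOf (RingEquiv.refl F) S x x = 0)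
    (hT : ∀ x, formOf (RingEquiv.refl F) T x x = 0)
    (hform : ∀ x y : Fin k × Fin d → F, B (mat P *ᵥ (x ∘ e)) (mat P *ᵥ (y ∘ e)) =
      formOfGram (RingEquiv.refl F) (S ⊗ₖ T) x y) (y : Fin k → F) (z : Fin d → F) :
    Q (mat P *ᵥ (pure y z ∘ e)) = 0 := by
  classical
  haveI : CharP F 2 := CharTwo.of_one_ne_zero_of_two_eq_zero one_ne_zero h2
  have hsymp : IsSymplecticForm (B) := ⟨hQ.polar_bilinear, fun v w => by rw [CharTwo.neg_eq, MaxSub.polar_symm],
    fun v => by rw [MaxSub.polar_self hQ, h2, zero_mul], hQ.nondegenerate⟩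
  obtain ⟨Q₀, hQ₀, hpol, hQ₀H, hpure⟩ := exists_tensor_quad h2 hsymp hfix hle hS hT hform
  have hadd : ∀ u v, Q (u + v) - Q₀ (u + v) = (Q u - Q₀ u) + (Q v - Q₀ v) := fun u v => by
    rw [MaxSub.quad_add (Q := Q), MaxSub.quad_add (Q := Q₀), hpol]; ring
  let K : Submodule F (ι → F) :=
    { carrier := {v | Q v - Q₀ v = 0}
      add_mem' := fun {u v} hu hv => by
        show Q (u + v) - Q₀ (u + v) = 0
        rw [hadd, show Q u - Q₀ u = 0 from hu, show Q v - Q₀ v = 0 from hv, add_zero]
      zero_mem' := by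
        show Q 0 - Q₀ 0 = 0
        rw [MaxSub.quad_zero hQ, MaxSub.quad_zero hQ₀, sub_zero]
      smul_mem' := fun c v hv => by
        show Q (c • v) - Q₀ (c • v) = 0
        rw [hQ.smul, hQ₀.smul, ← mul_sub, show Q v - Q₀ v = 0 from hv, mul_zero] }
  have hK : H ≤ subspaceStabilizer K := fun g hg => mem_subspaceStabilizer_iff.2 fun v hv => by
    show Q _ - Q₀ _ = 0
    rw [hQH _ (mem_matrixSet hg), hQ₀H _ (mem_matrixSet hg)]
    exact hv
  rcases (actsIrreducibly_iff.1 hirr) K hK with h | h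
  · exfalso
    have hinj : Function.Injective fun v => Q v - Q₀ v := by
      intro u v huv
      have h1 : u + v ∈ K := by
        show Q (u + v) - Q₀ (u + v) = 0
        rw [hadd, show Q u - Q₀ u = Q v - Q₀ v from huv, CharTwo.add_self_eq_zero]
      rw [h, Submodule.mem_bot, add_eq_zero_iff_eq_neg] at h1
      rw [h1]
      funext i
      exact CharTwo.neg_eq _
    have h1 := Fintype.card_le_of_injective _ hinj
    rw [Fintype.card_fun] at h1
    have h3 : Fintype.card F ^ 1 < Fintype.card F ^ Fintype.card ι :=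
      Nat.pow_lt_pow_right Fintype.one_lt_card hn
    rw [pow_one] at h3
    omega
  · have h1 : mat P *ᵥ (pure y z ∘ e) ∈ K := h ▸ Submodule.mem_top
    have h4 : Q _ - Q₀ (mat P *ᵥ (pure y z ∘ e)) = 0 := h1
    rwa [hpure, sub_zero] at h4

/-- A form vanishing on pure tensors, one factor being binary, has plus type. -/
theorem plus_top_of_pure {e : ι ≃ Fin 2 × Fin d}
    (hp : ∀ (y : Fin 2 → F) (z : Fin d → F), Q (mat P *ᵥ (pure y z ∘ e)) = 0) : IsPlusTypeOn Q ⊤ := by
  let L : (Fin d → F) →ₗ[F] (ι → F) :=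
    { toFun := fun z => coords e P (pure ![1, 0] z)
      map_add' := fun u v => by
        rw [show pure (![1, 0] : Fin 2 → F) (u + v) = pure ![1, 0] u + pure ![1, 0] v from
          funext fun a => mul_add _ _ _, map_add]
      map_smul' := fun c u => by
        rw [show pure (![1, 0] : Fin 2 → F) (c • u) = c • pure ![1, 0] u from
          funext fun a => mul_left_comm _ _ _, map_smul, RingHom.id_apply] }
  have hinj : Function.Injective L := fun u v huv => funext fun j => by
    simpa [AschbacherForms.pure] using congrFun ((coords e P).injective huv) (0, j)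
  refine ⟨LinearMap.range L, le_top, ?_, ?_⟩
  · rintro _ ⟨z, rfl⟩
    exact hp _ z
  · rw [LinearMap.finrank_range_of_inj hinj, finrank_top, Module.finrank_fintype_fun_eq_card,
      Module.finrank_fintype_fun_eq_card, Fintype.card_congr e, Fintype.card_prod, Fintype.card_fin,
      Fintype.card_fin]

/-- Totally isotropic half-dimensional subspaces of a symmetric matrix. -/
theorem exists_isotropic_iff [Fintype F] (h2 : (2 : F) ≠ 0) {κ : Type} [Fintype κ] [DecidableEq κ]
    {G : Matrix κ κ F} (hG : IsUnit G) (hGs : Gᵀ = G) {r : ℕ} (hr : Fintype.card κ = 2 * r) :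
    (∃ X : Submodule F (κ → F), Module.finrank F X = r ∧ ∀ x ∈ X, ∀ y ∈ X, x ⬝ᵥ (G *ᵥ y) = 0) ↔
      IsSquare ((-1 : F) ^ r * G.det) := by
  have hM : LinearMap.BilinForm.toMatrix (Pi.basisFun F κ) (Matrix.toBilin' G) = G := by
    rw [LinearMap.BilinForm.toMatrix_basisFun, LinearMap.BilinForm.toMatrix'_toBilin']
  have h := Forms.plus_iff_isSquare h2 (Matrix.toBilin' G)
    ⟨fun x y => by
      rw [Matrix.toBilin'_apply', Matrix.toBilin'_apply', dotProduct_mulVec, dotProduct_comm, ← mulVec_transpose, hGs]⟩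
    (Pi.basisFun F κ) (by rw [hM]; exact ((Matrix.isUnit_iff_isUnit_det _).1 hG).ne_zero) hr
  rw [hM] at h
  simpa only [Matrix.toBilin'_apply'] using h

/-- The type of a product of symmetric factors of dimensions three and four is the type of the second. -/
theorem plus_three_four_iff [Fintype F] (hQ : IsNondegenerateQuadraticForm Q) (h2 : (2 : F) ≠ 0)
    {e : ι ≃ Fin 3 × Fin 4} {S : Matrix (Fin 3) (Fin 3) F} {T : Matrix (Fin 4) (Fin 4) F}
    (hS : IsUnit S) (hT : IsUnit T) (hSs : Sᵀ = S) (hTs : Tᵀ = T)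
    (hform : ∀ x y : Fin 3 × Fin 4 → F, B (mat P *ᵥ (x ∘ e)) (mat P *ᵥ (y ∘ e)) =
      formOfGram (RingEquiv.refl F) (S ⊗ₖ T) x y) :
    IsPlusTypeOn Q ⊤ ↔ IsPlusTypeOn (fun v : Fin 4 → F => formOf (RingEquiv.refl F) T v v) ⊤ := by
  have hdot : ∀ {κ : Type} [Fintype κ] (G : Matrix κ κ F) (x y : κ → F),
      formOfGram (RingEquiv.refl F) G x y = x ⬝ᵥ (G *ᵥ y) := fun G x y => formOfGram_eq _ G x y
  have hdS := ((Matrix.isUnit_iff_isUnit_det _).1 hS).ne_zero
  have hdT := ((Matrix.isUnit_iff_isUnit_det _).1 hT).ne_zero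
  have hcard : Fintype.card ι = 12 := by
    rw [Fintype.card_congr e, Fintype.card_prod, Fintype.card_fin, Fintype.card_fin]
  have hU : IsUnit (S ⊗ₖ T) := by
    rw [Matrix.isUnit_iff_isUnit_det, Matrix.det_kronecker]
    exact (mul_ne_zero (pow_ne_zero _ hdS) (pow_ne_zero _ hdT)).isUnit
  have h12 := exists_isotropic_iff h2 hU (by rw [← Matrix.kroneckerMap_transpose, hSs, hTs]) (r := 6)
    (by rw [Fintype.card_prod, Fintype.card_fin, Fintype.card_fin])
  have h4 := exists_isotropic_iff h2 hT hTs (r := 2) (Fintype.card_fin 4)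
  have hsq : IsSquare ((-1 : F) ^ 6 * (S ⊗ₖ T).det) ↔ IsSquare ((-1 : F) ^ 2 * T.det) := by
    rw [Matrix.det_kronecker, Fintype.card_fin, Fintype.card_fin]
    constructor
    · rintro ⟨r, hr⟩
      exact ⟨r / (S.det ^ 2 * T.det), by field_simp; linear_combination hr⟩
    · rintro ⟨r, hr⟩
      exact ⟨S.det ^ 2 * T.det * r, by linear_combination S.det ^ 4 * T.det ^ 2 * hr⟩
  have hL : IsPlusTypeOn Q ⊤ ↔
      ∃ X : Submodule F (Fin 3 × Fin 4 → F), Module.finrank F X = 6 ∧ ∀ x ∈ X, ∀ y ∈ X, x ⬝ᵥ ((S ⊗ₖ T) *ᵥ y) = 0 := by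
    constructor
    · rintro ⟨U, -, hU', hUd⟩
      rw [finrank_top, Module.finrank_fintype_fun_eq_card, hcard] at hUd
      refine ⟨U.map (coords e P).symm.toLinearMap, by rw [LinearEquiv.finrank_map_eq]; omega, ?_⟩
      rintro _ ⟨u, hu, rfl⟩ _ ⟨v, hv, rfl⟩
      rw [← hdot, ← hform]
      show B (coords e P ((coords e P).symm u)) (coords e P ((coords e P).symm v)) = 0
      rw [LinearEquiv.apply_symm_apply, LinearEquiv.apply_symm_apply]
      simp only [QuadraticMap.polar]
      rw [hU' _ (U.add_mem hu hv), hU' _ hu, hU' _ hv, sub_zero, sub_zero]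
    · rintro ⟨X, hXd, hX⟩
      refine ⟨X.map (coords e P).toLinearMap, le_top, ?_, ?_⟩
      · rintro _ ⟨x, hx, rfl⟩
        have h1 : B (mat P *ᵥ (x ∘ e)) (mat P *ᵥ (x ∘ e)) = 0 := by rw [hform, hdot]; exact hX x hx x hx
        rw [MaxSub.polar_self hQ] at h1
        exact (mul_eq_zero.1 h1).resolve_left h2
      · rw [LinearEquiv.finrank_map_eq, hXd, finrank_top, Module.finrank_fintype_fun_eq_card, hcard]
  have hR : IsPlusTypeOn (fun v : Fin 4 → F => formOf (RingEquiv.refl F) T v v) ⊤ ↔
      ∃ X : Submodule F (Fin 4 → F), Module.finrank F X = 2 ∧ ∀ x ∈ X, ∀ y ∈ X, x ⬝ᵥ (T *ᵥ y) = 0 := by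
    have hb := isBilinearForm_formOf (F := F) T
    have hsymm := (isSymmetricForm_formOf hT hTs).symm
    constructor
    · rintro ⟨U, -, hU', hUd⟩
      rw [finrank_top, Module.finrank_fintype_fun_eq_card, Fintype.card_fin] at hUd
      refine ⟨U, by omega, fun x hx y hy => ?_⟩
      have h1 : formOf (RingEquiv.refl F) T (x + y) (x + y) = 0 := hU' _ (U.add_mem hx hy)
      have h3 : formOf (RingEquiv.refl F) T x x = 0 := hU' _ hx
      have h5 : formOf (RingEquiv.refl F) T y y = 0 := hU' _ hy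
      rw [hb.add_left, hb.add_right, hb.add_right, h3, h5, hsymm y x] at h1
      show formOf (RingEquiv.refl F) T x y = 0
      exact (mul_eq_zero.1 (by linear_combination h1 : (2 : F) * formOf (RingEquiv.refl F) T x y = 0)).resolve_left h2
    · rintro ⟨X, hXd, hX⟩
      refine ⟨X, le_top, fun x hx => hX x hx x hx, ?_⟩
      rw [hXd, finrank_top, Module.finrank_fintype_fun_eq_card, Fintype.card_fin]
  rw [hL, hR, h12, h4]
  exact hsq

/-- Over two elements a binary factor carries an invariant field of four elements. -/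
theorem exists_field_two [Fintype F] [Nonempty ι] (hq : Fintype.card F = 2) {H : Subgroup (GL ι F)}
    {e : ι ≃ Fin 2 × Fin d} (hle : H ≤ tensorProductSubgroup 2 d e P) :
    ∃ K : Subalgebra F (Matrix ι ι F), IsFieldSubalgebra 2 K ∧ H ≤ subalgebraNormalizer K := by
  classical
  have h2 : (2 : F) = 0 := by
    have h := FiniteField.cast_card_eq_zero F
    rw [hq] at h
    exact_mod_cast h
  haveI : CharP F 2 := CharTwo.of_one_ne_zero_of_two_eq_zero one_ne_zero h2
  have h01 : ∀ x : F, x = 0 ∨ x = 1 := fun x => by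
    rcases eq_or_ne x 0 with h | h
    · exact Or.inl h
    · have := FiniteField.pow_card_sub_one_eq_one x h
      rw [hq, pow_one] at this
      exact Or.inr this
  let j : Matrix (Fin 2) (Fin 2) F := !![0, 1; 1, 1]
  have hj : j * j = j + 1 := by
    ext a b
    fin_cases a <;> fin_cases b <;> simp [j, Matrix.mul_apply, Fin.sum_univ_two, CharTwo.add_self_eq_zero]
  set J := tensorEquiv e P (j ⊗ₖ (1 : Matrix (Fin d) (Fin d) F)) with hJdef
  have hJ : J * J = J + 1 := by
    rw [hJdef, ← map_mul, ← Matrix.mul_kronecker_mul, hj, mul_one, Matrix.add_kronecker, map_add,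
      Matrix.one_kronecker_one, map_one]
  have hnsc : ∀ c : F, J ≠ c • 1 := by
    intro c hc
    rw [hc, Matrix.smul_mul, one_mul, smul_smul] at hJ
    have h1 : (c * c - c - 1) • (1 : Matrix ι ι F) = 0 := by rw [sub_smul, sub_smul, hJ, one_smul]; abel
    have h3 := (smul_eq_zero.1 h1).resolve_right one_ne_zero
    rcases h01 c with rfl | rfl
    · exact one_ne_zero (α := F) (by linear_combination -h3)
    · exact one_ne_zero (α := F) (by linear_combination -h3)
  have hmul : ∀ a b a' b' : F, (a • (1 : Matrix ι ι F) + b • J) * (a' • 1 + b' • J) =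
      (a * a' + b * b') • 1 + (a * b' + b * a' + b * b') • J := by
    intro a b a' b'
    simp only [add_mul, mul_add, Matrix.smul_mul, Matrix.mul_smul, one_mul, mul_one, hJ, smul_smul, smul_add]
    module
  let K : Subalgebra F (Matrix ι ι F) :=
    { carrier := {x | ∃ a b : F, x = a • 1 + b • J}
      mul_mem' := by
        rintro _ _ ⟨a, b, rfl⟩ ⟨a', b', rfl⟩
        exact ⟨_, _, hmul a b a' b'⟩
      one_mem' := ⟨1, 0, by simp⟩
      add_mem' := by
        rintro _ _ ⟨a, b, rfl⟩ ⟨a', b', rfl⟩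
        exact ⟨a + a', b + b', by module⟩
      zero_mem' := ⟨0, 0, by simp⟩
      algebraMap_mem' := fun c => ⟨c, 0, by rw [Algebra.algebraMap_eq_smul_one]; simp⟩ }
  refine ⟨K, ⟨?_, ?_, ?_⟩, fun g hg => mem_subalgebraNormalizer_of ?_⟩
  · rintro _ ⟨a, b, rfl⟩ _ ⟨a', b', rfl⟩
    rw [hmul, hmul]
    congr 2 <;> ring
  · rintro _ ⟨a, b, rfl⟩ hne
    rcases h01 a with rfl | rfl <;> rcases h01 b with rfl | rfl
    · simp at hne
    · refine ⟨(1 : F) • 1 + (1 : F) • J, ⟨1, 1, rfl⟩, ?_⟩
      rw [hmul, show (0 : F) * 1 + 1 * 1 + 1 * 1 = 0 by linear_combination h2]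
      simp
    · exact ⟨1, ⟨1, 0, by simp⟩, by simp⟩
    · refine ⟨(0 : F) • 1 + (1 : F) • J, ⟨0, 1, rfl⟩, ?_⟩
      rw [hmul, show (1 : F) * 1 + 1 * 0 + 1 * 1 = 0 by linear_combination h2]
      simp
  · have hli : LinearIndependent F ![(1 : Matrix ι ι F), J] := by
      rw [LinearIndependent.pair_iff]
      intro a b hab
      have hb : b = 0 := by
        by_contra hb
        refine hnsc (-(b⁻¹ * a)) ?_
        have h1 := congrArg (fun M => b⁻¹ • M) hab
        simp only [smul_add, smul_smul, inv_mul_cancel₀ hb, one_smul, smul_zero] at h1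
        rw [neg_smul]
        exact eq_neg_of_add_eq_zero_right h1
      rw [hb, zero_smul, add_zero] at hab
      exact ⟨(smul_eq_zero.1 hab).resolve_right one_ne_zero, hb⟩
    have hK : Subalgebra.toSubmodule K = Submodule.span F (Set.range ![(1 : Matrix ι ι F), J]) := by
      rw [Matrix.range_cons_cons_empty]
      ext x
      rw [Subalgebra.mem_toSubmodule, Submodule.mem_span_pair]
      exact ⟨fun ⟨a, b, h⟩ => ⟨a, b, h.symm⟩, fun ⟨a, b, h⟩ => ⟨a, b, h.symm⟩⟩
    show Module.finrank F (Subalgebra.toSubmodule K) = 2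
    rw [hK, finrank_span_eq_card hli, Fintype.card_fin]
  · rintro _ ⟨a, b, rfl⟩
    obtain ⟨u, v, huv⟩ := exists_of_mem_tensorProductSubgroup (hle hg)
    obtain ⟨c, hc⟩ : ∃ c : F, mat u * j * mat u⁻¹ = c • 1 + j := by
      set M := mat u * j * mat u⁻¹ with hM
      have htr : M.trace = 1 := by
        rw [hM, Matrix.trace_mul_cycle, mat_inv_mul, one_mul]
        simp [j, Matrix.trace_fin_two]
      have hdet : M.det = 1 := by
        rw [hM, Matrix.det_mul, Matrix.det_mul, mul_comm (mat u).det, mul_assoc, ← Matrix.det_mul, mat_mul_inv,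
          Matrix.det_one, mul_one]
        simp [j, Matrix.det_fin_two, CharTwo.neg_eq]
      rw [Matrix.trace_fin_two] at htr
      rw [Matrix.det_fin_two] at hdet
      refine ⟨M 0 0, ?_⟩
      have h11 : M 1 1 = M 0 0 + 1 := by linear_combination htr - M 0 0 * h2
      have hprod : M 0 1 * M 1 0 = 1 := by
        rw [h11] at hdet
        rcases h01 (M 0 0) with h | h <;> rw [h] at hdet <;> first
          | linear_combination -hdet + h2
          | linear_combination -hdet - h2
          | linear_combination -hdet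
      have h10 : M 0 1 = 1 ∧ M 1 0 = 1 := by
        rcases h01 (M 0 1) with h | h <;> rw [h] at hprod
        · rw [zero_mul] at hprod; exact absurd hprod zero_ne_one
        · rw [one_mul] at hprod; exact ⟨h, hprod⟩
      ext a b
      fin_cases a <;> fin_cases b <;> simp [j, h11, h10.1, h10.2, add_comm]
    have hgJ : mat g * J * mat g⁻¹ = c • 1 + J := by
      have h1 : mat g * J = (c • 1 + J) * mat g := by
        rw [huv, hJdef, ← map_mul, ← Matrix.mul_kronecker_mul, mul_one,
          show c • (1 : Matrix ι ι F) + tensorEquiv e P (j ⊗ₖ 1) = tensorEquiv e P ((c • 1 + j) ⊗ₖ 1) by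
            rw [Matrix.add_kronecker, Matrix.smul_kronecker, map_add, map_smul, Matrix.one_kronecker_one, map_one],
          ← map_mul, ← Matrix.mul_kronecker_mul, one_mul, ← hc, mul_assoc (mat u * j), mat_inv_mul, mul_one]
      rw [h1, mul_assoc, mat_mul_inv, mul_one]
    refine ⟨a + b * c, b, ?_⟩
    rw [mul_add, add_mul, Matrix.mul_smul, Matrix.mul_smul, Matrix.smul_mul, Matrix.smul_mul, mul_one, mat_mul_inv,
      hgJ]
    module

end CfsgLib.AschbacherQuad
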